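import Groth.Prelude.Def_W4c4lgringredgrpLG
import Mathlib

/-!
# Local-global rings: invertible values of families of endomorphisms
-/

set_option autoImplicit false
set_option backward.isDefEq.respectTransparency false

universe u v w

open TensorProduct

namespace Groth.Agent.LGLib

variable {R : Type u} [CommRing R]

/-- The defining property for an arbitrary finite index type. -/
theorem representsUnit_of_fintype (hR : LGRing.IsLGRing R) {σ : Type} [Fintype σ] (f : MvPolynomial σ R)
    (h : ∀ (m : Ideal R) [m.IsMaximal], ∃ x : σ → R ⧸ m, IsUnit (MvPolynomial.aeval x f)) :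
    ∃ x : σ → R, IsUnit (MvPolynomial.aeval x f) := by
  classical
  set e := Fintype.equivFin σ
  obtain ⟨x, hx⟩ := hR (Fintype.card σ) (MvPolynomial.rename e f) fun m _ => by
    obtain ⟨x, hx⟩ := h m
    exact ⟨x ∘ e.symm, by rwa [MvPolynomial.aeval_rename, Function.comp_assoc, e.symm_comp_self, Function.comp_id]⟩
  exact ⟨x ∘ e, by rwa [MvPolynomial.aeval_rename] at hx⟩

/-- A family of endomorphisms of degree two in finitely many parameters which contains the identity over every
residue field contains an invertible endomorphism. -/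
theorem exists_bijective_family (hR : LGRing.IsLGRing R) {P : Type v} [AddCommGroup P] [Module R P]
    [Module.Finite R P] [Module.Projective R P] {s t : ℕ} (T₀ : P →ₗ[R] P) (h : Fin s → Fin t → P →ₗ[R] P)
    (hres : ∀ (m : Ideal R) [m.IsMaximal], ∃ (x : Fin s → R) (y : Fin t → R),
      LinearMap.baseChange (R ⧸ m) (T₀ + ∑ i, ∑ j, (x i * y j) • h i j) = LinearMap.id) :
    ∃ (x : Fin s → R) (y : Fin t → R), Function.Bijective (T₀ + ∑ i, ∑ j, (x i * y j) • h i j) := by
  classical
  obtain ⟨N, π, ι, -, -, hπι⟩ := Module.Finite.exists_comp_eq_id_of_projective R P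
  let mat : (P →ₗ[R] P) →ₗ[R] Matrix (Fin N) (Fin N) R :=
    { toFun := fun f => LinearMap.toMatrix' (ι ∘ₗ f ∘ₗ π)
      map_add' := fun f g => by rw [LinearMap.add_comp, LinearMap.comp_add, map_add]
      map_smul' := fun c f => by rw [LinearMap.smul_comp, LinearMap.comp_smul, map_smul]; rfl }
  let ext : (P →ₗ[R] P) → Matrix (Fin N) (Fin N) R := fun f => mat f + LinearMap.toMatrix' (LinearMap.id - ι ∘ₗ π)
  have hext : ∀ f, ext f = LinearMap.toMatrix' (ι ∘ₗ f ∘ₗ π + (LinearMap.id - ι ∘ₗ π)) := fun f => by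
    rw [map_add]; rfl
  let S := MvPolynomial (Fin s ⊕ Fin t) R
  let U : Matrix (Fin N) (Fin N) S := (ext T₀).map (algebraMap R S) +
    ∑ i, ∑ j, ((MvPolynomial.X (Sum.inl i) : S) * MvPolynomial.X (Sum.inr j)) • (mat (h i j)).map (algebraMap R S)
  have hU : ∀ {A : Type u} [CommRing A] [Algebra R A] (z : Fin s ⊕ Fin t → A),
      MvPolynomial.aeval z U.det = ((ext T₀).map (algebraMap R A) +
        ∑ i, ∑ j, (z (Sum.inl i) * z (Sum.inr j)) • (mat (h i j)).map (algebraMap R A)).det := by
    intro A _ _ z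
    have hc : ∀ r : R, MvPolynomial.aeval z (algebraMap R S r) = algebraMap R A r := fun r => AlgHom.commutes _ r
    rw [AlgHom.map_det]
    congr 1
    ext a b
    simp only [U, AlgHom.mapMatrix_apply, Matrix.map_apply, Matrix.add_apply, Matrix.sum_apply, Matrix.smul_apply,
      smul_eq_mul, map_add, map_sum, map_mul, MvPolynomial.aeval_X, hc]
  have hval : ∀ (x : Fin s → R) (y : Fin t → R),
      MvPolynomial.aeval (Sum.elim x y) U.det = (ext (T₀ + ∑ i, ∑ j, (x i * y j) • h i j)).det := by
    intro x y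
    rw [hU]
    congr 1
    simp only [ext, map_add, map_sum, map_smul, Algebra.algebraMap_self, RingHom.id_apply, Sum.elim_inl, Sum.elim_inr]
    simp only [RingHom.coe_id, Matrix.map_id]
    abel
  obtain ⟨z, hz⟩ := representsUnit_of_fintype hR U.det fun m _ => by
    obtain ⟨x, y, hxy⟩ := hres m
    refine ⟨Ideal.Quotient.mk m ∘ Sum.elim x y, ?_⟩
    have e : MvPolynomial.aeval (Ideal.Quotient.mk m ∘ Sum.elim x y) U.det =
        Ideal.Quotient.mk m (MvPolynomial.aeval (Sum.elim x y) U.det) := by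
      rw [← Ideal.Quotient.mkₐ_eq_mk R m, MvPolynomial.comp_aeval_apply]
      rfl
    rw [e, hval]
    set T := T₀ + ∑ i, ∑ j, (x i * y j) • h i j
    have h1 : Ideal.Quotient.mk m (ext T).det = LinearMap.det
        (LinearMap.baseChange (R ⧸ m) (ι ∘ₗ T ∘ₗ π + (LinearMap.id - ι ∘ₗ π))) := by
      rw [LinearMap.det_baseChange, hext, LinearMap.det_toMatrix']
      rfl
    rw [h1, LinearMap.baseChange_add, LinearMap.baseChange_sub, LinearMap.baseChange_comp, LinearMap.baseChange_comp,
      hxy, LinearMap.id_comp, LinearMap.baseChange_comp, LinearMap.baseChange_id]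
    convert isUnit_one
    convert LinearMap.det_id
    abel
  refine ⟨z ∘ Sum.inl, z ∘ Sum.inr, ?_⟩
  set T := T₀ + ∑ i, ∑ j, (((z ∘ Sum.inl) i : R) * (z ∘ Sum.inr) j) • h i j
  have hdet : IsUnit (LinearMap.det (ι ∘ₗ T ∘ₗ π + (LinearMap.id - ι ∘ₗ π))) := by
    rw [← LinearMap.det_toMatrix', ← hext]
    have := hval (z ∘ Sum.inl) (z ∘ Sum.inr)
    rw [Sum.elim_comp_inl_inr] at this
    rwa [this] at hz
  have hbij := (Module.End.isUnit_iff _).1 ((LinearMap.isUnit_iff_isUnit_det _).2 hdet)
  have hπι' : ∀ p, π (ι p) = p := fun p => LinearMap.congr_fun hπι p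
  refine ⟨fun p q hpq => ?_, fun q => ?_⟩
  · have h1 : (ι ∘ₗ T ∘ₗ π + (LinearMap.id - ι ∘ₗ π) : (Fin N → R) →ₗ[R] (Fin N → R)) (ι p) = (ι ∘ₗ T ∘ₗ π + (LinearMap.id - ι ∘ₗ π) : (Fin N → R) →ₗ[R] (Fin N → R)) (ι q) := by
      simp [hπι', hpq]
    have h2 := congrArg π (hbij.1 h1)
    rwa [hπι', hπι'] at h2
  · obtain ⟨w, hw⟩ := hbij.2 (ι q)
    refine ⟨π w, ?_⟩
    have h2 := congrArg π hw
    simpa [hπι'] using h2

variable (k : Type u) [CommRing k] [Algebra R k]

omit [CommRing k] in
lemma exists_coeffs {P : Type v} [AddCommGroup P] [Module R P] [Module.Finite R P] :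
    ∃ (s : ℕ) (g : Fin s → P), ∀ p, ∃ x : Fin s → R, ∑ i, x i • g i = p := by
  obtain ⟨s, g, hg⟩ := Module.Finite.exists_fin (R := R) (M := P)
  exact ⟨s, g, fun p => (Submodule.mem_span_range_iff_exists_fun R).1 (hg ▸ Submodule.mem_top)⟩

variable {k}

/-- Maps between base changes to a quotient lift. -/
lemma exists_lift_baseChange (hk : Function.Surjective (algebraMap R k)) {M : Type v} [AddCommGroup M] [Module R M]
    [Module.Projective R M] {N : Type w} [AddCommGroup N] [Module R N] (φ : k ⊗[R] M →ₗ[k] k ⊗[R] N) :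
    ∃ f : M →ₗ[R] N, LinearMap.baseChange k f = φ := by
  obtain ⟨f, hf⟩ := Module.projective_lifting_property (TensorProduct.mk R k N 1)
    ((φ.restrictScalars R) ∘ₗ TensorProduct.mk R k M 1) (TensorProduct.mk_surjective R N k hk)
  refine ⟨f, TensorProduct.AlgebraTensorModule.ext fun c m => ?_⟩
  rw [LinearMap.baseChange_tmul, show c ⊗ₜ[R] m = c • ((1 : k) ⊗ₜ[R] m) by rw [TensorProduct.smul_tmul', smul_eq_mul, mul_one],
    map_smul, show φ ((1 : k) ⊗ₜ[R] m) = (1 : k) ⊗ₜ[R] f m from (LinearMap.congr_fun hf m).symm,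
    TensorProduct.smul_tmul', smul_eq_mul, mul_one]

/-- The rank at a maximal ideal is the dimension over the residue field. -/
lemma finrank_residue (m : Ideal R) [m.IsMaximal] (M : Type v) [AddCommGroup M] [Module R M] [Module.Finite R M]
    [Module.Flat R M] :
    Module.finrank (R ⧸ m) ((R ⧸ m) ⊗[R] M) = Module.rankAtStalk M ⟨m, Ideal.IsMaximal.isPrime' m⟩ := by
  letI := Ideal.Quotient.field m
  have h := Module.rankAtStalk_baseChange (R := R) (M := M) (S := R ⧸ m) (⊥ : PrimeSpectrum (R ⧸ m))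
  rw [Module.rankAtStalk_eq_finrank_of_free] at h
  rw [show PrimeSpectrum.comap (algebraMap R (R ⧸ m)) ⊥ = ⟨m, Ideal.IsMaximal.isPrime' m⟩ from
    PrimeSpectrum.ext (by simp [← RingHom.ker_eq_comap_bot])] at h
  simpa using h

/-- Maps between finite projective modules form a finite module. -/
lemma finite_linearMap (M : Type v) [AddCommGroup M] [Module R M] [Module.Finite R M] [Module.Projective R M]
    (N : Type w) [AddCommGroup N] [Module R N] [Module.Finite R N] :
    Module.Finite R (M →ₗ[R] N) := by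
  obtain ⟨a, π, ι, -, -, hπι⟩ := Module.Finite.exists_comp_eq_id_of_projective R M
  refine Module.Finite.of_surjective (LinearMap.lcomp R N ι) fun f => ⟨f ∘ₗ π, ?_⟩
  rw [LinearMap.lcomp_apply', LinearMap.comp_assoc, hπι, LinearMap.comp_id]

/-- Finite projective modules with the same ranks at all maximal ideals are isomorphic. -/
theorem nonempty_equiv_of_rank (hR : LGRing.IsLGRing R) (M : Type v) [AddCommGroup M] [Module R M]
    [Module.Finite R M] [Module.Projective R M] (N : Type w) [AddCommGroup N] [Module R N] [Module.Finite R N]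
    [Module.Projective R N]
    (h : ∀ (m : Ideal R) [m.IsMaximal], Module.rankAtStalk M ⟨m, Ideal.IsMaximal.isPrime' m⟩ =
      Module.rankAtStalk N ⟨m, Ideal.IsMaximal.isPrime' m⟩) :
    Nonempty (M ≃ₗ[R] N) := by
  classical
  haveI := finite_linearMap (R := R) M N
  haveI := finite_linearMap (R := R) N M
  obtain ⟨s, f, hf⟩ := exists_coeffs (R := R) (P := M →ₗ[R] N)
  obtain ⟨t, g, hg⟩ := exists_coeffs (R := R) (P := N →ₗ[R] M)
  obtain ⟨x, y, hb⟩ := exists_bijective_family hR (P := N × M) 0
    (fun i j => LinearMap.prodMap (f i ∘ₗ g j) (g j ∘ₗ f i)) fun m _ => by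
      letI := Ideal.Quotient.field m
      obtain ⟨φ⟩ : Nonempty ((R ⧸ m) ⊗[R] M ≃ₗ[R ⧸ m] (R ⧸ m) ⊗[R] N) :=
        FiniteDimensional.nonempty_linearEquiv_of_finrank_eq (by rw [finrank_residue, finrank_residue, h m])
      obtain ⟨F, hF⟩ := exists_lift_baseChange (k := R ⧸ m) Ideal.Quotient.mk_surjective φ.toLinearMap
      obtain ⟨G, hG⟩ := exists_lift_baseChange (k := R ⧸ m) Ideal.Quotient.mk_surjective φ.symm.toLinearMap
      obtain ⟨x, hx⟩ := hf F
      obtain ⟨y, hy⟩ := hg G
      refine ⟨x, y, ?_⟩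
      rw [zero_add]
      have he : ∑ i, ∑ j, (x i * y j) • LinearMap.prodMap (f i ∘ₗ g j) (g j ∘ₗ f i) =
          LinearMap.prodMap (F ∘ₗ G) (G ∘ₗ F) := by
        refine LinearMap.ext fun p => ?_
        simp only [← hx, ← hy, LinearMap.sum_apply, LinearMap.smul_apply, LinearMap.prodMap_apply,
          LinearMap.comp_apply, Prod.smul_mk, map_sum, map_smul]
        refine Prod.ext ?_ ?_ <;> simp only [Prod.fst_sum, Prod.snd_sum, Finset.smul_sum, smul_smul]
        · rw [Finset.sum_comm]
          exact Finset.sum_congr rfl fun _ _ => Finset.sum_congr rfl fun _ _ => by rw [mul_comm]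
      rw [he]
      refine TensorProduct.AlgebraTensorModule.ext fun c p => ?_
      rw [LinearMap.baseChange_tmul, LinearMap.id_apply]
      have e1 : c ⊗ₜ[R] (F (G p.1)) = c ⊗ₜ[R] p.1 := by
        rw [← LinearMap.baseChange_tmul, hF, ← LinearMap.baseChange_tmul, hG]
        exact φ.apply_symm_apply _
      have e2 : c ⊗ₜ[R] (G (F p.2)) = c ⊗ₜ[R] p.2 := by
        rw [← LinearMap.baseChange_tmul, hG, ← LinearMap.baseChange_tmul, hF]
        exact φ.symm_apply_apply _
      apply (TensorProduct.prodRight R R (R ⧸ m) N M).injective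
      simp [e1, e2]
  set F := ∑ i, x i • f i
  set G := ∑ j, y j • g j
  have hb' : ∀ a : N × M, ((0 : N × M →ₗ[R] N × M) + ∑ i, ∑ j, (x i * y j) •
      LinearMap.prodMap (f i ∘ₗ g j) (g j ∘ₗ f i)) a = (F (G a.1), G (F a.2)) := by
    intro a
    simp only [zero_add, F, G, LinearMap.sum_apply, LinearMap.smul_apply, LinearMap.prodMap_apply,
      LinearMap.comp_apply, Prod.smul_mk, map_sum, map_smul]
    refine Prod.ext ?_ ?_ <;> simp only [Prod.fst_sum, Prod.snd_sum, Finset.smul_sum, smul_smul]
    · rw [Finset.sum_comm]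
      exact Finset.sum_congr rfl fun _ _ => Finset.sum_congr rfl fun _ _ => by rw [mul_comm]
  refine ⟨LinearEquiv.ofBijective F ⟨fun a b hab => ?_, fun c => ?_⟩⟩
  · have := @hb.1 ((0 : N), a) ((0 : N), b) (by rw [hb', hb', hab])
    exact (Prod.ext_iff.1 this).2
  · obtain ⟨p, hp⟩ := hb.2 (c, 0)
    rw [hb'] at hp
    exact ⟨G p.1, (Prod.ext_iff.1 hp).1⟩

/-- The rank of a faithfully projective module is positive everywhere. -/
lemma rankAtStalk_pos (M : Type v) [AddCommGroup M] [Module R M] [Module.Finite R M] [Module.Projective R M]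
    [FaithfulSMul R M] (p : PrimeSpectrum R) : 0 < Module.rankAtStalk M p := by
  rw [Module.rankAtStalk_pos_iff_mem_support, Module.support_eq_zeroLocus]
  simp [Module.annihilator_eq_bot.2 inferInstance]

/-- A faithfully projective module contains an element on which some linear form takes the value one. -/
theorem exists_unimodular (hR : LGRing.IsLGRing R) (M : Type v) [AddCommGroup M] [Module R M] [Module.Finite R M]
    [Module.Projective R M] [FaithfulSMul R M] : ∃ (m : M) (f : Module.Dual R M), f m = 1 := by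
  classical
  obtain ⟨N, π, ι, -, -, hπι⟩ := Module.Finite.exists_comp_eq_id_of_projective R M
  obtain ⟨z, hz⟩ := representsUnit_of_fintype hR
    (∑ i : Fin N, ∑ j : Fin N, MvPolynomial.X (Sum.inl i) * MvPolynomial.X (Sum.inr j) *
      MvPolynomial.C (ι (π (Pi.single i 1)) j) : MvPolynomial (Fin N ⊕ Fin N) R) fun m _ => by
      obtain ⟨i, j, hij⟩ : ∃ i j, ι (π (Pi.single i 1)) j ∉ m := by
        by_contra hcon
        push Not at hcon
        have hle : (⊤ : Submodule R M) ≤ m • ⊤ := by
          rintro x -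
          have hcoord : ∀ j, ι x j ∈ m := by
            intro j
            obtain ⟨c, rfl⟩ : ∃ c, π c = x := ⟨ι x, LinearMap.congr_fun hπι x⟩
            conv => arg 2; rw [pi_eq_sum_univ' c]
            simp only [map_sum, map_smul, Finset.sum_apply, Pi.smul_apply, smul_eq_mul]
            exact Submodule.sum_mem _ fun i _ => Ideal.mul_mem_left _ _ (hcon i j)
          rw [← LinearMap.id_apply (R := R) x, ← hπι, LinearMap.comp_apply, pi_eq_sum_univ' (ι x), map_sum]
          simp only [map_smul]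
          exact Submodule.sum_mem _ fun j _ => Submodule.smul_mem_smul (hcoord j) Submodule.mem_top
        obtain ⟨r, hr, hr0⟩ := Submodule.exists_sub_one_mem_and_smul_eq_zero_of_fg_of_le_smul m ⊤
          Module.Finite.fg_top hle
        have h0 : r = 0 := FaithfulSMul.eq_of_smul_eq_smul (α := M) fun x => by rw [hr0 x Submodule.mem_top, zero_smul]
        exact Ideal.IsMaximal.ne_top ‹m.IsMaximal› ((Ideal.eq_top_iff_one m).2 (by simpa [h0] using hr))
      refine ⟨Sum.elim (Pi.single i 1) (Pi.single j 1), ?_⟩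
      letI := Ideal.Quotient.field m
      refine isUnit_iff_ne_zero.2 ?_
      simpa [Pi.single_apply, Ideal.Quotient.eq_zero_iff_mem] using hij
  obtain ⟨u, hu⟩ := hz
  refine ⟨∑ i, z (Sum.inl i) • π (Pi.single i 1),
    (↑u⁻¹ : R) • ∑ j, z (Sum.inr j) • (LinearMap.proj j ∘ₗ ι), ?_⟩
  simp only [LinearMap.smul_apply, LinearMap.sum_apply, LinearMap.comp_apply, LinearMap.proj_apply, map_sum, map_smul,
    Finset.sum_apply, Pi.smul_apply, smul_eq_mul, Finset.mul_sum]
  have hval : (u : R) = ∑ i, ∑ j, z (Sum.inl i) * z (Sum.inr j) * ι (π (Pi.single i 1)) j := by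
    simpa [map_sum, map_mul] using hu
  conv_rhs => rw [← Units.inv_mul u, hval]
  simp only [Finset.mul_sum]
  exact Finset.sum_congr rfl fun i _ => Finset.sum_congr rfl fun j _ => by ring

end Groth.Agent.LGLib
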