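import Groth.Agent.LGLib.Transport

/-! Linked subspaces of a chain of vector spaces with vanishing scalar: exactness and generators. -/

set_option autoImplicit false

open Module

namespace Groth.Agent.LGLib

variable {K M : Type*} [Field K] [AddCommGroup M] [Module K M]

/-- The axioms of a chain with vanishing scalar. -/
structure Chain (F G : ℕ → M →ₗ[K] M) (n : ℕ) : Prop where
  FG : ∀ i x, F i (G i x) = 0
  GF : ∀ i x, G i (F i x) = 0
  kerF : ∀ i < n, ∀ x, F i x = 0 → x ∈ LinearMap.range (G i)
  kerG : ∀ i < n, ∀ x, G i x = 0 → x ∈ LinearMap.range (F i)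
  sepF : ∀ i, i + 1 < n → ∀ x, F (i + 1) (F i x) = 0 → F i x = 0
  sepG : ∀ i, i + 1 < n → ∀ x, G i (G (i + 1) x) = 0 → G (i + 1) x = 0
  F_top : ∀ i, n ≤ i → F i = 0
  G_top : ∀ i, n ≤ i → G i = 0

/-- The axioms of linked subspaces. -/
structure Linked (F G : ℕ → M →ₗ[K] M) (n r : ℕ) (V : ℕ → Submodule K M) : Prop extends Stable F G V where
  dim : ∀ i ≤ n, finrank K (V i) = r

variable (F G : ℕ → M →ₗ[K] M) (V : ℕ → Submodule K M)

/-- The forward rank. -/
noncomputable def rkF (i : ℕ) : ℕ := finrank K ((V i).map (F i))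

/-- The backward rank. -/
noncomputable def rkG (i : ℕ) : ℕ := finrank K ((V (i + 1)).map (G i))

/-- Exactness at one link. -/
def ExactAt (i : ℕ) : Prop :=
  LinearMap.ker (G i) ⊓ V (i + 1) ≤ (V i).map (F i) ∧ LinearMap.ker (F i) ⊓ V i ≤ (V (i + 1)).map (G i)

/-- The incoming part of a member. -/
def incoming : ℕ → Submodule K M
  | 0 => (V 1).map (G 0)
  | j + 1 => (V j).map (F j) ⊔ (V (j + 2)).map (G (j + 1))

variable {F G V} {n r : ℕ} [FiniteDimensional K M]

theorem finrank_map_add' (f : M →ₗ[K] M) (S : Submodule K M) :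
    finrank K (S.map f) + finrank K (LinearMap.ker f ⊓ S : Submodule K M) = finrank K S := by
  have h := LinearMap.finrank_range_add_finrank_ker (f.comp S.subtype)
  rw [LinearMap.range_comp, Submodule.range_subtype, LinearMap.ker_comp] at h
  have h2 : finrank K (Submodule.comap S.subtype (LinearMap.ker f)) = finrank K (LinearMap.ker f ⊓ S : Submodule K M) := by
    rw [← Submodule.finrank_map_subtype_eq, Submodule.map_comap_subtype, inf_comm]
  omega

theorem rk_add_le (hC : Chain F G n) (hL : Linked F G n r V) {i : ℕ} (hi : i < n) :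
    rkF F V i + rkG G V i ≤ r := by
  have h := finrank_map_add' (G i) (V (i + 1))
  rw [hL.dim (i + 1) hi] at h
  have hle : (V i).map (F i) ≤ LinearMap.ker (G i) ⊓ V (i + 1) := le_inf (by
    rintro _ ⟨x, _, rfl⟩
    exact hC.GF i x) (hL.mapF i)
  have := Submodule.finrank_mono hle
  unfold rkF rkG
  omega

theorem exactAt_iff (hC : Chain F G n) (hL : Linked F G n r V) {i : ℕ} (hi : i < n) :
    ExactAt F G V i ↔ rkF F V i + rkG G V i = r := by
  have hG := finrank_map_add' (G i) (V (i + 1))
  have hF := finrank_map_add' (F i) (V i)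
  rw [hL.dim (i + 1) hi] at hG
  rw [hL.dim i hi.le] at hF
  have hleF : (V i).map (F i) ≤ LinearMap.ker (G i) ⊓ V (i + 1) := le_inf (by
    rintro _ ⟨x, _, rfl⟩
    exact hC.GF i x) (hL.mapF i)
  have hleG : (V (i + 1)).map (G i) ≤ LinearMap.ker (F i) ⊓ V i := le_inf (by
    rintro _ ⟨x, _, rfl⟩
    exact hC.FG i x) (hL.mapG i)
  unfold rkF rkG
  constructor
  · rintro ⟨h, -⟩
    rw [le_antisymm hleF h]
    omega
  · intro h
    exact ⟨(Submodule.eq_of_le_of_finrank_eq hleF (by omega)).ge, (Submodule.eq_of_le_of_finrank_eq hleG (by omega)).ge⟩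

theorem disjoint_incoming (hC : Chain F G n) (j : ℕ) :
    Disjoint ((V j).map (F j)) ((V (j + 2)).map (G (j + 1))) := by
  rw [Submodule.disjoint_def]
  rintro _ ⟨x, _, rfl⟩ ⟨z, _, hz⟩
  rcases lt_or_ge (j + 1) n with h | h
  · refine hC.sepF j h x ?_
    rw [← hz]
    exact hC.FG (j + 1) z
  · rw [← hz, hC.G_top (j + 1) h, LinearMap.zero_apply]

theorem finrank_incoming (hC : Chain F G n) (j : ℕ) :
    finrank K (incoming F G V (j + 1)) = rkF F V j + rkG G V (j + 1) := by
  have h := Submodule.finrank_sup_add_finrank_inf_eq ((V j).map (F j)) ((V (j + 2)).map (G (j + 1)))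
  rw [(disjoint_incoming hC j).eq_bot, finrank_bot, add_zero] at h
  exact h

theorem incoming_le (hL : Linked F G n r V) : ∀ j, incoming F G V j ≤ V j
  | 0 => hL.mapG 0
  | j + 1 => sup_le (hL.mapF j) (hL.mapG (j + 1))

theorem rkG_top (hC : Chain F G n) {i : ℕ} (hi : n ≤ i) : rkG G V i = 0 := by
  rw [rkG, hC.G_top i hi, Submodule.map_zero, finrank_bot]

theorem sum_finrank_incoming (hC : Chain F G n) (hL : Linked F G n r V) (hE : ∀ i < n, ExactAt F G V i) :
    ∑ j ∈ Finset.range (n + 1), finrank K (incoming F G V j) = n * r := by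
  rw [Finset.sum_range_succ']
  simp only [finrank_incoming hC]
  rw [Finset.sum_add_distrib, add_assoc, show finrank K (incoming F G V 0) = rkG G V 0 from rfl,
    ← Finset.sum_range_succ' (fun j => rkG G V j), Finset.sum_range_succ, rkG_top hC le_rfl, add_zero,
    ← Finset.sum_add_distrib, Finset.sum_congr rfl (fun i hi => (exactAt_iff hC hL (Finset.mem_range.1 hi)).1
      (hE i (Finset.mem_range.1 hi))), Finset.sum_const, Finset.card_range, smul_eq_mul]

theorem exists_complement {κ : Type*} [Finite κ] (U W : Submodule K M) (hU : U ≤ W) (w : κ → M)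
    (hw : Submodule.span K (Set.range w) = W) :
    ∃ c : Fin (finrank K W - finrank K U) → κ, W ≤ Submodule.span K (Set.range (w ∘ c)) ⊔ U := by
  classical
  obtain ⟨f, hf, hfs, -⟩ := Submodule.exists_fun_fin_finrank_span_eq K (U.mkQ '' Set.range w)
  have hspan : Submodule.span K (U.mkQ '' Set.range w) = W.map U.mkQ := by rw [Submodule.span_image, hw]
  have hdim : finrank K (Submodule.span K (U.mkQ '' Set.range w)) = finrank K W - finrank K U := by
    rw [hspan]
    have h := finrank_map_add'' U W hU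
    omega
  choose x hx hfx using hf
  choose c hc using hx
  refine ⟨fun a => c (Fin.cast hdim.symm a), fun y hy => ?_⟩
  have hy' : U.mkQ y ∈ Submodule.span K (Set.range f) := by
    rw [hfs, hspan]; exact ⟨y, hy, rfl⟩
  have hr : Set.range f = U.mkQ '' Set.range (w ∘ fun a => c (Fin.cast hdim.symm a)) := by
    ext z
    constructor
    · rintro ⟨b, rfl⟩
      exact ⟨_, ⟨Fin.cast hdim b, by simp [hc]⟩, hfx b⟩
    · rintro ⟨_, ⟨a, rfl⟩, rfl⟩
      exact ⟨Fin.cast hdim.symm a, by simp [hc, hfx]⟩
  rw [hr, Submodule.span_image] at hy'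
  obtain ⟨z, hz, hzy⟩ := hy'
  rw [Submodule.mem_sup]
  exact ⟨z, hz, y - z, (Submodule.Quotient.eq U).1 hzy.symm, by abel⟩
where
  finrank_map_add'' (U W : Submodule K M) (hU : U ≤ W) :
      finrank K (W.map U.mkQ) + finrank K U = finrank K W := by
    have h := LinearMap.finrank_range_add_finrank_ker (U.mkQ.comp W.subtype)
    rw [LinearMap.range_comp, Submodule.range_subtype, LinearMap.ker_comp, Submodule.ker_mkQ] at h
    rwa [(Submodule.comapSubtypeEquivOfLe hU).finrank_eq] at h

/-- An exact point is generated by transports of vectors chosen from given generators. -/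
theorem exists_generators {κ : Type*} [Finite κ] (hC : Chain F G n) (hL : Linked F G n r V)
    (hE : ∀ i < n, ExactAt F G V i) (w : ℕ → κ → M)
    (hw : ∀ i ≤ n, Submodule.span K (Set.range (w i)) = V i) :
    ∃ (src : Fin r → Fin (n + 1)) (c : Fin r → κ), ∀ j ≤ n,
      V j ≤ tspan F G (fun a => (src a : ℕ)) (fun a => w (src a) (c a)) j := by
  classical
  have hch : ∀ i : Fin (n + 1), ∃ c : Fin (finrank K (V i) - finrank K (incoming F G V i)) → κ,
      V i ≤ Submodule.span K (Set.range (w i ∘ c)) ⊔ incoming F G V i := fun i =>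
    exists_complement _ _ (incoming_le hL i) _ (hw i (by omega))
  choose c hc using hch
  let S := Σ i : Fin (n + 1), Fin (finrank K (V i) - finrank K (incoming F G V i))
  have hcard : Fintype.card S = r := by
    rw [Fintype.card_sigma]
    simp only [Fintype.card_fin]
    have h1 : ∀ i : Fin (n + 1), finrank K (V i) - finrank K (incoming F G V i) = r - finrank K (incoming F G V i) :=
      fun i => by rw [hL.dim i (by omega)]
    rw [Finset.sum_congr rfl fun i _ => h1 i, Fin.sum_univ_eq_sum_range (fun i => r - finrank K (incoming F G V i)),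
      Finset.sum_tsub_distrib _ fun i hi => ?_, sum_finrank_incoming hC hL hE, Finset.sum_const, Finset.card_range,
      smul_eq_mul, Nat.succ_mul, Nat.add_sub_cancel_left]
    have hi' : i ≤ n := by have := Finset.mem_range.1 hi; omega
    rw [← hL.dim i hi']
    exact Submodule.finrank_mono (incoming_le hL i)
  let e := (Fintype.equivFinOfCardEq hcard).symm
  refine ⟨fun a => (e a).1, fun a => c (e a).1 (e a).2, ?_⟩
  set P := tspan F G (fun a => (((e a).1 : Fin (n + 1)) : ℕ)) (fun a => w ((e a).1 : ℕ) (c (e a).1 (e a).2)) with hP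
  have hgen : ∀ i ≤ n, V i ≤ P i ⊔ incoming F G V i := by
    intro i hi
    refine (hc ⟨i, by omega⟩).trans (sup_le_sup_right (Submodule.span_le.2 ?_) _)
    rintro _ ⟨a, rfl⟩
    refine Submodule.subset_span ⟨e.symm ⟨⟨i, by omega⟩, a⟩, ?_⟩
    show T F G _ i _ = w i (c ⟨i, _⟩ a)
    have h : ∀ q : S, q = ⟨⟨i, by omega⟩, a⟩ → T F G q.1 i (w q.1 (c q.1 q.2)) = w i (c ⟨i, by omega⟩ a) := by
      rintro _ rfl
      simp
    exact h _ (e.apply_symm_apply _)
  have hmF : ∀ j, (P j).map (F j) ≤ P (j + 1) := fun j => map_tspan_F (s := (0 : K)) (n := n) _ _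
    (fun a => Nat.lt_succ_iff.1 (e a).1.2) (fun i _ => LinearMap.ext fun x => by simp [hC.FG])
  have hmG : ∀ j, (P (j + 1)).map (G j) ≤ P j := fun j => map_tspan_G (s := (0 : K)) (n := n) _ _
    (hC.G_top j) (fun i _ => LinearMap.ext fun x => by simp [hC.GF])
  have hF : ∀ j, (V j).map (F j) ≤ P (j + 1) := by
    intro j
    induction j with
    | zero =>
      rintro _ ⟨x, hx, rfl⟩
      obtain ⟨p, hp, u, hu, rfl⟩ := Submodule.mem_sup.1 (hgen 0 (Nat.zero_le _) hx)
      obtain ⟨z, -, rfl⟩ := hu
      rw [map_add, hC.FG, add_zero]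
      exact hmF 0 ⟨p, hp, rfl⟩
    | succ j ih =>
      by_cases hj : j + 1 ≤ n
      · rintro _ ⟨x, hx, rfl⟩
        obtain ⟨p, hp, u, hu, rfl⟩ := Submodule.mem_sup.1 (hgen _ hj hx)
        obtain ⟨y, hy, z, hz, rfl⟩ := Submodule.mem_sup.1 hu
        obtain ⟨z, -, rfl⟩ := hz
        rw [map_add, map_add, hC.FG, add_zero]
        exact add_mem (hmF _ ⟨p, hp, rfl⟩) (hmF _ ⟨y, ih hy, rfl⟩)
      · rw [hC.F_top (j + 1) (by omega), Submodule.map_zero]
        exact bot_le
  have hG : ∀ m j, n ≤ j + m → (V (j + 1)).map (G j) ≤ P j := by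
    intro m
    induction m with
    | zero => intro j hj; rw [hC.G_top j (by omega), Submodule.map_zero]; exact bot_le
    | succ m ih =>
      intro j hj
      by_cases hjn : j < n
      · rintro _ ⟨x, hx, rfl⟩
        obtain ⟨p, hp, u, hu, rfl⟩ := Submodule.mem_sup.1 (hgen (j + 1) hjn hx)
        obtain ⟨y, hy, z, hz, rfl⟩ := Submodule.mem_sup.1 hu
        obtain ⟨y, -, rfl⟩ := hy
        rw [map_add, map_add, hC.GF, zero_add]
        exact add_mem (hmG j ⟨p, hp, rfl⟩) (hmG j ⟨z, ih (j + 1) (by omega) hz, rfl⟩)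
      · rw [hC.G_top j (by omega), Submodule.map_zero]; exact bot_le
  intro j hj
  refine (hgen j hj).trans (sup_le le_rfl ?_)
  cases j with
  | zero => exact hG n 0 (by omega)
  | succ j => exact sup_le (hF j) (hG n (j + 1) (by omega))

/-- Transports of generators force exactness. -/
theorem exact_of_generators (hC : Chain F G n) (hL : Linked F G n r V) (src : Fin r → ℕ) (v : Fin r → M)
    (hV : ∀ j ≤ n, tspan F G src v j = V j) {i : ℕ} (hi : i < n) : ExactAt F G V i := by
  classical
  rw [exactAt_iff hC hL hi]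
  refine le_antisymm (rk_add_le hC hL hi) ?_
  have hind : ∀ j ≤ n, LinearIndependent K fun a => T F G (src a) j (v a) := fun j hj => by
    rw [linearIndependent_iff_card_eq_finrank_span, Set.finrank]
    show _ = finrank K (tspan F G src v j)
    rw [hV j hj, hL.dim j hj, Fintype.card_fin]
  have h1 : Fintype.card {a // src a ≤ i} ≤ rkF F V i := by
    have hli := (hind (i + 1) hi).comp (Subtype.val : {a // src a ≤ i} → Fin r) Subtype.val_injective
    rw [← finrank_span_eq_card hli]
    refine Submodule.finrank_mono (Submodule.span_le.2 ?_)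
    rintro _ ⟨⟨a, ha⟩, rfl⟩
    refine ⟨T F G (src a) i (v a), ?_, ?_⟩
    · rw [← hV i hi.le]; exact Submodule.subset_span ⟨a, rfl⟩
    · rw [Function.comp_apply, T_succ ha]; rfl
  have h2 : Fintype.card {a // ¬ src a ≤ i} ≤ rkG G V i := by
    have hli := (hind i hi.le).comp (Subtype.val : {a // ¬ src a ≤ i} → Fin r) Subtype.val_injective
    rw [← finrank_span_eq_card hli]
    refine Submodule.finrank_mono (Submodule.span_le.2 ?_)
    rintro _ ⟨⟨a, ha⟩, rfl⟩
    refine ⟨T F G (src a) (i + 1) (v a), ?_, ?_⟩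
    · rw [← hV (i + 1) hi]; exact Submodule.subset_span ⟨a, rfl⟩
    · rw [Function.comp_apply, T_pred (show i < src a by omega)]; rfl
  have h3 := Fintype.card_subtype_compl (fun a => src a ≤ i)
  have h4 := Fintype.card_subtype_le (fun a => src a ≤ i)
  rw [Fintype.card_fin] at h3 h4
  omega

/-- The forward rank of a point generated by transports. -/
theorem rkF_of_generators (hC : Chain F G n) (hL : Linked F G n r V) (src : Fin r → ℕ) (v : Fin r → M)
    (hV : ∀ j ≤ n, tspan F G src v j = V j) {i : ℕ} (hi : i < n) :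
    rkF F V i = (Finset.univ.filter fun a => src a ≤ i).card := by
  classical
  have hind : ∀ j ≤ n, LinearIndependent K fun a => T F G (src a) j (v a) := fun j hj => by
    rw [linearIndependent_iff_card_eq_finrank_span, Set.finrank]
    show _ = finrank K (tspan F G src v j)
    rw [hV j hj, hL.dim j hj, Fintype.card_fin]
  have hli := (hind (i + 1) hi).comp (Subtype.val : {a // src a ≤ i} → Fin r) Subtype.val_injective
  have key : (V i).map (F i) = Submodule.span K (Set.range ((fun a => T F G (src a) (i + 1) (v a)) ∘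
      (Subtype.val : {a // src a ≤ i} → Fin r))) := by
    rw [← hV i hi.le, tspan, ← Submodule.span_image]
    refine le_antisymm (Submodule.span_le.2 ?_) (Submodule.span_le.2 ?_)
    · rintro _ ⟨_, ⟨a, rfl⟩, rfl⟩
      by_cases ha : src a ≤ i
      · exact Submodule.subset_span ⟨⟨a, ha⟩, by rw [Function.comp_apply, T_succ ha]; rfl⟩
      · show F i (T F G (src a) i (v a)) ∈ _
        rw [T_pred (show i < src a by omega), LinearMap.comp_apply, hC.FG]
        exact zero_mem _
    · rintro _ ⟨⟨a, ha⟩, rfl⟩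
      exact Submodule.subset_span ⟨_, ⟨a, rfl⟩, by rw [Function.comp_apply, T_succ ha]; rfl⟩
  rw [← Fintype.card_subtype, ← finrank_span_eq_card hli, rkF, key]

end Groth.Agent.LGLib
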