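import Groth.Agent.LGLib.FieldExt

/-! Charts of linked Grassmannians by transports of graph vectors. -/

set_option autoImplicit false
set_option backward.isDefEq.respectTransparency false
set_option backward.isDefEq.respectTransparency.types false
set_option linter.style.haveILetI false
set_option maxHeartbeats 800000

universe u

open TensorProduct Module

namespace Groth.Agent.LGLib

open GrassRepLib

variable {R : Type u} [CommRing R] {d r n : ℕ}

/-- The combinatorial datum of a chart. -/
structure Datum (n d r : ℕ) where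
  /-- the member of each generator -/
  src : Fin r → Fin (n + 1)
  /-- the completing coordinates -/
  I : Fin (n + 1) → (Fin (d - r) ↪ Fin d)
  /-- the leading coordinate of each generator -/
  c : Fin r → Fin d

variable (f g : Fin n → ((Fin d → R) →ₗ[R] (Fin d → R))) (D : Datum n d r)
variable {A B : Type u} [CommRing A] [Algebra R A] [CommRing B] [Algebra R B]

/-- A generator. -/
noncomputable def gvec (x : Fin r → Fin (d - r) → A) (a : Fin r) : Mo R A d :=
  stdGen R A (D.c a) + ∑ b, x a b • stdGen R A (D.I (D.src a) b)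

/-- The completed family of the `j`-th member. -/
noncomputable def cfam (x : Fin r → Fin (d - r) → A) (j : Fin (n + 1)) : Fin r ⊕ Fin (d - r) → Mo R A d :=
  Sum.elim (fun a => T (seqM f A) (seqM g A) (D.src a) j (gvec D x a)) fun b => stdGen R A (D.I j b)

theorem ext_gvec (φ : A →ₐ[R] B) (x : Fin r → Fin (d - r) → A) (a : Fin r) :
    ext φ (gvec D x a) = gvec D (fun a b => φ (x a b)) a := by
  simp [gvec, ext, ext₁_smul, ext₁_stdGen]

theorem ext_cfam (φ : A →ₐ[R] B) (x : Fin r → Fin (d - r) → A) (j : Fin (n + 1)) :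
    ext φ ∘ cfam f g D x j = cfam f g D (fun a b => φ (x a b)) j := by
  funext i
  rcases i with a | b
  · show ext φ (T _ _ _ _ (gvec D x a)) = T _ _ _ _ (gvec D _ a)
    rw [ext_T, ext_gvec]
  · exact ext₁_stdGen φ _

variable (hrd : r ≤ d)

/-- The product of the determinants. -/
noncomputable def hdet (x : Fin r → Fin (d - r) → A) : A :=
  ∏ j : Fin (n + 1), dt (Nat.add_sub_cancel' hrd) (cfam f g D x j)

theorem hdet_map (φ : A →ₐ[R] B) (x : Fin r → Fin (d - r) → A) :
    φ (hdet f g D hrd x) = hdet f g D hrd fun a b => φ (x a b) := by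
  rw [hdet, map_prod, hdet]
  refine Finset.prod_congr rfl fun j _ => ?_
  rw [← dt_ext, ext_cfam]

theorem isUnit_dt_of_hdet {x : Fin r → Fin (d - r) → A} (hx : IsUnit (hdet f g D hrd x)) (j : Fin (n + 1)) :
    IsUnit (dt (Nat.add_sub_cancel' hrd) (cfam f g D x j)) :=
  isUnit_of_dvd_unit (Finset.dvd_prod_of_mem (fun j => dt (Nat.add_sub_cancel' hrd) (cfam f g D x j))
    (Finset.mem_univ j)) hx

/-- The tuple of a parameter. -/
noncomputable def chartTup {x : Fin r → Fin (d - r) → A} (hx : IsUnit (hdet f g D hrd x)) :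
    Fin (n + 1) → Grassmannian A (Mo R A d) (d - r) :=
  fun j => ofFam (isUnit_dt_of_hdet f g D hrd hx j)

theorem chartTup_eq_tspan {x : Fin r → Fin (d - r) → A} (hx : IsUnit (hdet f g D hrd x)) (j : Fin (n + 1)) :
    (chartTup f g D hrd hx j).toSubmodule =
      tspan (seqM f A) (seqM g A) (fun a => (D.src a : ℕ)) (gvec D x) j := rfl

theorem chartTup_mem {s : R} (hI : ∀ i, (f i).comp (g i) = s • LinearMap.id ∧ (g i).comp (f i) = s • LinearMap.id)
    {x : Fin r → Fin (d - r) → A} (hx : IsUnit (hdet f g D hrd x)) :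
    chartTup f g D hrd hx ∈ W4c1limliniiii.LGPoints R d r n f g A := by
  intro i
  refine ⟨?_, ?_⟩
  · rw [chartTup_eq_tspan, chartTup_eq_tspan, ← seqM_lt f i.2, Fin.val_castSucc, Fin.val_succ]
    exact map_tspan_F _ _ (fun a => Nat.lt_succ_iff.1 (D.src a).2) (seqM_comp fun i => (hI i).1)
  · rw [chartTup_eq_tspan, chartTup_eq_tspan, ← seqM_lt g i.2, Fin.val_castSucc, Fin.val_succ]
    exact map_tspan_G _ _ (fun h => seqM_ge g h) (seqM_comp fun i => (hI i).2)

theorem mapTup_chartTup (φ : A →ₐ[R] B) {x : Fin r → Fin (d - r) → A} (hx : IsUnit (hdet f g D hrd x))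
    (hx' : IsUnit (hdet f g D hrd fun a b => φ (x a b))) :
    mapTup φ (chartTup f g D hrd hx) = chartTup f g D hrd hx' := funext fun j => by
  have h : IsUnit (dt (Nat.add_sub_cancel' hrd) (ext φ ∘ cfam f g D x j)) := by
    rw [ext_cfam]; exact isUnit_dt_of_hdet f g D hrd hx' j
  rw [mapTup, chartTup, map_ofFam _ φ h, chartTup]
  refine Grassmannian.ext ?_
  show Submodule.span B (Set.range ((ext φ ∘ cfam f g D x j) ∘ Sum.inl)) = _
  rw [ext_cfam]
  rfl

theorem gvec_mem {x : Fin r → Fin (d - r) → A} (hx : IsUnit (hdet f g D hrd x)) (a : Fin r) :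
    gvec D x a ∈ (chartTup f g D hrd hx (D.src a)).toSubmodule := by
  rw [chartTup_eq_tspan]
  refine Submodule.subset_span ⟨a, ?_⟩
  simp

/-- The parameter is determined by any linked tuple containing the generators. -/
theorem param_unique {x x' : Fin r → Fin (d - r) → A} (hx : IsUnit (hdet f g D hrd x))
    (h : ∀ a, gvec D x' a ∈ (chartTup f g D hrd hx (D.src a)).toSubmodule) : x = x' := by
  funext a b
  have hu := isUnit_dt_of_hdet f g D hrd hx (D.src a)
  have hker : ∀ y ∈ (chartTup f g D hrd hx (D.src a)).toSubmodule, famProj hu y = 0 := fun y hy => by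
    rw [← LinearMap.mem_ker, ker_famProj]; exact hy
  have h1 := hker _ (sub_mem (gvec_mem f g D hrd hx a) (h a))
  rw [gvec, gvec, add_sub_add_left_eq_sub, ← Finset.sum_sub_distrib, map_sum] at h1
  have h2 : ∀ b', famProj hu (stdGen R A (D.I (D.src a) b')) = Pi.single b' 1 := fun b' => famProj_inr hu b'
  simp only [map_sub, map_smul, h2] at h1
  simpa [Finset.sum_apply, Pi.single_apply, sub_eq_zero] using congrFun h1 b

/-- Membership in a chart. -/
def InChart (V : Fin (n + 1) → Grassmannian A (Mo R A d) (d - r)) : Prop :=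
  ∃ (x : Fin r → Fin (d - r) → A) (hx : IsUnit (hdet f g D hrd x)), chartTup f g D hrd hx = V

/-- The map out of a principal localisation. -/
noncomputable def awayLift (φ : A →ₐ[R] B) (h : A) (hu : IsUnit (φ h)) : Localization.Away h →ₐ[R] B :=
  IsLocalization.Away.liftAlgHom h hu

theorem awayLift_comp (φ : A →ₐ[R] B) (h : A) (hu : IsUnit (φ h)) :
    (awayLift φ h hu).comp (IsScalarTower.toAlgHom R A (Localization.Away h)) = φ :=
  AlgHom.ext fun a => IsLocalization.Away.lift_eq (g := φ.toRingHom) h hu a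

variable {f g D hrd}

theorem InChart.map {V : Fin (n + 1) → Grassmannian A (Mo R A d) (d - r)} (h : InChart f g D hrd V) (φ : A →ₐ[R] B) :
    InChart f g D hrd (mapTup φ V) := by
  obtain ⟨x, hx, rfl⟩ := h
  have hx' : IsUnit (hdet f g D hrd fun a b => φ (x a b)) := by rw [← hdet_map]; exact hx.map φ
  exact ⟨_, hx', (mapTup_chartTup f g D hrd φ hx hx').symm⟩

/-! ### openness -/

theorem span_of_hasCoord {q : ℕ} {I : Fin q → Fin d} {N : Grassmannian A (Mo R A d) q} {c : Fin d → Fin q → A}
    (h : HasCoord N.toSubmodule I c) :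
    Submodule.span A (Set.range fun j => stdGen R A j - ∑ b, c j b • stdGen R A (I b)) = N.toSubmodule := by
  refine le_antisymm (Submodule.span_le.2 (by rintro _ ⟨j, rfl⟩; exact h j)) fun x hx => ?_
  have h0 : piMap (R := R) c x = 0 := by
    rw [h.eq_ofCoord h.normal] at hx
    exact hx
  have hx' : x = ∑ j, (stdBasis R d A).repr x j • (stdGen R A j - ∑ b, c j b • stdGen R A (I b)) +
      ∑ b, piMap (R := R) c x b • stdGen R A (I b) := by
    have hp : piMap (R := R) c x = ∑ j, (stdBasis R d A).repr x j • c j := by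
      conv_lhs => rw [← (stdBasis R d A).sum_repr x]
      simp [stdBasis_apply, piMap_stdGen]
    conv_lhs => rw [← (stdBasis R d A).sum_repr x]
    simp only [hp, smul_sub, Finset.sum_sub_distrib, Finset.smul_sum, smul_smul, Finset.sum_apply, Pi.smul_apply,
      smul_eq_mul, Finset.sum_smul, stdBasis_apply]
    rw [Finset.sum_comm (f := fun j b => ((stdBasis R d A).repr x j * c j b) • stdGen R A (I b))]
    abel
  rw [hx', h0]
  refine add_mem (Submodule.sum_mem _ fun j _ => Submodule.smul_mem _ _ (Submodule.subset_span ⟨j, rfl⟩)) ?_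
  simp

theorem exists_inC_field {L : Type u} [Field L] [Algebra R L] {q : ℕ} (φ : A →ₐ[R] L)
    (N : Grassmannian A (Mo R A d) q) (I : Fin q → Fin d) (h : InC (Grassmannian.map φ N).toSubmodule I) :
    ∃ h' : A, φ h' ≠ 0 ∧
      InC (Grassmannian.map (IsScalarTower.toAlgHom R A (Localization.Away h')) N).toSubmodule I := by
  classical
  letI : Algebra A L := φ.toAlgebra
  haveI : IsScalarTower R A L := IsScalarTower.of_algebraMap_eq' φ.comp_algebraMap.symm
  let Q := (Mo R A d) ⧸ N.toSubmodule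
  let bc := Grassmannian.baseChangeMkQ L N.toSubmodule
  have hgen : ∀ j, bc (stdGen R L j) = (1 : L) ⊗ₜ[A] N.toSubmodule.mkQ (stdGen R A j) := fun j => by
    simp [bc, stdGen, Grassmannian.baseChangeMkQ]
  have hspan : Submodule.span L (Set.range fun b => (1 : L) ⊗ₜ[A] N.toSubmodule.mkQ (stdGen R A (I b))) = ⊤ := by
    rw [eq_top_iff]
    intro z _
    obtain ⟨y, rfl⟩ := Grassmannian.baseChangeMkQ_surjective N.toSubmodule z
    obtain ⟨w, hw⟩ := h (Submodule.Quotient.mk y)
    rw [vMap_apply] at hw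
    simp only [← Submodule.Quotient.mk_smul] at hw
    rw [← Submodule.mkQ_apply] at hw
    simp only [← Submodule.mkQ_apply] at hw
    rw [← map_sum, Submodule.mkQ_apply, Submodule.mkQ_apply, Submodule.Quotient.eq, Grassmannian.map_toSubmodule,
      LinearMap.mem_ker, map_sub, sub_eq_zero, map_sum] at hw
    rw [← hw]
    refine Submodule.sum_mem _ fun b _ => ?_
    rw [map_smul, hgen]
    exact Submodule.smul_mem _ _ (Submodule.subset_span ⟨b, rfl⟩)
  let T₀ := Q ⧸ LinearMap.range (vMap N.toSubmodule I)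
  have hT : Subsingleton (L ⊗[A] T₀) := subsingleton_coker N.toSubmodule L I hspan
  let p : Ideal A := RingHom.ker φ
  haveI : p.IsPrime := RingHom.ker_isPrime φ
  have hns : (⟨p, inferInstance⟩ : PrimeSpectrum A) ∉ Module.support A T₀ := by
    intro hs
    haveI : Nontrivial (p.ResidueField ⊗[A] T₀) :=
      (Module.mem_support_iff_nontrivial_residueField_tensorProduct (⟨p, inferInstance⟩ : PrimeSpectrum A)).1 hs
    letI : Algebra p.ResidueField L :=
      (Ideal.ResidueField.lift p φ.toRingHom le_rfl fun a ha => isUnit_iff_ne_zero.2 ha).toAlgebra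
    haveI : IsScalarTower A p.ResidueField L := IsScalarTower.of_algebraMap_eq fun a =>
      (Ideal.ResidueField.lift_algebraMap p φ.toRingHom le_rfl (fun a ha => isUnit_iff_ne_zero.2 ha) a).symm
    haveI : Nontrivial (L ⊗[A] T₀) :=
      (AlgebraTensorModule.cancelBaseChange A p.ResidueField L L T₀).symm.toEquiv.nontrivial
    exact not_nontrivial_iff_subsingleton.2 hT inferInstance
  rw [Module.mem_support_iff_of_finite, SetLike.not_le_iff_exists] at hns
  obtain ⟨h', hh', hhp⟩ := hns
  refine ⟨h', hhp, (inC_iff _ _).2 ?_⟩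
  have hc : ∀ j, ∃ c : Fin q → A, h' • stdGen R A j - ∑ b, c b • stdGen R A (I b) ∈ N.toSubmodule := by
    intro j
    obtain ⟨c, hc⟩ : h' • (Submodule.Quotient.mk (stdGen R A j) : Q) ∈ LinearMap.range (vMap N.toSubmodule I) :=
      (Submodule.Quotient.mk_eq_zero (LinearMap.range (vMap N.toSubmodule I))).1 (by
        rw [Submodule.Quotient.mk_smul]
        exact Module.mem_annihilator.1 hh' _)
    refine ⟨c, ?_⟩
    rw [← Submodule.Quotient.mk_eq_zero, Submodule.Quotient.mk_sub, sub_eq_zero, Submodule.Quotient.mk_smul, ← hc,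
      vMap_apply, ← Submodule.mkQ_apply, map_sum]
    rfl
  choose c hc using hc
  have hu : IsUnit (algebraMap A (Localization.Away h') h') := IsLocalization.Away.algebraMap_isUnit h'
  refine ⟨fun j b => (↑hu.unit⁻¹ : Localization.Away h') * algebraMap A _ (c j b), fun j => ?_⟩
  have h := ext₁_mem_map (IsScalarTower.toAlgHom R A (Localization.Away h')) N (hc j)
  simp only [map_sub, map_sum, ext₁_smul, ext₁_stdGen] at h
  have h'' := Submodule.smul_mem _ (↑hu.unit⁻¹ : Localization.Away h') h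
  simp only [smul_sub, Finset.smul_sum, smul_smul] at h''
  rwa [show (↑hu.unit⁻¹ : Localization.Away h') * (IsScalarTower.toAlgHom R A (Localization.Away h')) h' = 1 from
    hu.val_inv_mul, one_smul] at h''

theorem InC.map {q : ℕ} {N : Grassmannian A (Mo R A d) q} {I : Fin q → Fin d} (h : InC N.toSubmodule I)
    (φ : A →ₐ[R] B) : InC (Grassmannian.map φ N).toSubmodule I := by
  obtain ⟨c, hc⟩ := (inC_iff _ _).1 h
  exact (inC_iff _ _).2 ⟨_, hc.map φ⟩

theorem InChart.inC {V : Fin (n + 1) → Grassmannian A (Mo R A d) (d - r)} (h : InChart f g D hrd V) (j : Fin (n + 1)) :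
    InC (V j).toSubmodule (D.I j) := by
  obtain ⟨x, hx, rfl⟩ := h
  intro z
  obtain ⟨y, rfl⟩ := Submodule.mkQ_surjective _ z
  have hu := isUnit_dt_of_hdet f g D hrd hx j
  refine ⟨famProj hu y, ?_⟩
  rw [vMap_apply]
  simp only [← Submodule.Quotient.mk_smul]
  simp only [← Submodule.mkQ_apply]
  rw [← map_sum, Submodule.mkQ_apply, Submodule.mkQ_apply, Submodule.Quotient.eq]
  show _ ∈ Submodule.span A (Set.range (cfam f g D x j ∘ Sum.inl))
  rw [← ker_famProj hu, LinearMap.mem_ker, map_sub, map_sum, sub_eq_zero]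
  have h2 : ∀ b, famProj hu (stdGen R A (D.I j b)) = Pi.single b 1 := fun b => famProj_inr hu b
  simp only [map_smul, h2]
  exact (pi_eq_sum_univ' _).symm

/-- Charts are open: membership at a field valued point spreads to a principal neighbourhood. -/
theorem exists_inChart_away {L : Type u} [Field L] [Algebra R L] (φ : A →ₐ[R] L)
    {V : Fin (n + 1) → Grassmannian A (Mo R A d) (d - r)} (hV : V ∈ W4c1limliniiii.LGPoints R d r n f g A)
    (h : InChart f g D hrd (mapTup φ V)) :
    ∃ h' : A, φ h' ≠ 0 ∧ InChart f g D hrd (mapTup (IsScalarTower.toAlgHom R A (Localization.Away h')) V) := by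
  classical
  choose h₀ hh₀ hC₀ using fun j => exists_inC_field φ (V j) (D.I j) (h.inC j)
  let H := ∏ j, h₀ j
  let A₀ := Localization.Away H
  have hH : φ H ≠ 0 := by rw [map_prod]; exact Finset.prod_ne_zero_iff.2 fun j _ => hh₀ j
  have hC : ∀ j, InC (Grassmannian.map (IsScalarTower.toAlgHom R A A₀) (V j)).toSubmodule (D.I j) := by
    intro j
    have hu : IsUnit (IsScalarTower.toAlgHom R A A₀ (h₀ j)) :=
      isUnit_of_dvd_unit (map_dvd _ (Finset.dvd_prod_of_mem _ (Finset.mem_univ j))) (IsLocalization.Away.algebraMap_isUnit H)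
    have := InC.map (hC₀ j) (awayLift _ (h₀ j) hu)
    rwa [← Grassmannian.map_comp, awayLift_comp] at this
  choose c hc using fun j => (inC_iff _ _).1 (hC j)
  let V₀ := mapTup (IsScalarTower.toAlgHom R A A₀) V
  have hV₀ : V₀ ∈ W4c1limliniiii.LGPoints R d r n f g A₀ := map_mem_LGPoints hV _
  let x₀ : Fin r → Fin (d - r) → A₀ := fun a b => - c (D.src a) (D.c a) b
  have hg : ∀ a, gvec D x₀ a ∈ (V₀ (D.src a)).toSubmodule := fun a => by
    have := hc (D.src a) (D.c a)
    rw [sub_eq_add_neg, ← Finset.sum_neg_distrib] at this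
    have hsum : ∀ b, x₀ a b • stdGen R A₀ (D.I (D.src a) b) = -(c (D.src a) (D.c a) b • stdGen R A₀ (D.I (D.src a) b)) :=
      fun b => neg_smul (c (D.src a) (D.c a) b) (stdGen R A₀ (D.I (D.src a) b))
    rw [gvec, Finset.sum_congr rfl fun b _ => hsum b]
    exact this
  let φ₀ : A₀ →ₐ[R] L := awayLift φ H (isUnit_iff_ne_zero.2 hH)
  have hφ₀ : φ₀.comp (IsScalarTower.toAlgHom R A A₀) = φ := awayLift_comp _ _ _
  obtain ⟨xL, hxL, hxLV⟩ := h
  have hxeq : xL = fun a b => φ₀ (x₀ a b) := param_unique f g D hrd hxL fun a => by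
    rw [← ext_gvec, hxLV]
    have := ext₁_mem_map φ₀ (V₀ (D.src a)) (hg a)
    rwa [show Grassmannian.map φ₀ (V₀ (D.src a)) = mapTup φ V (D.src a) by
      show Grassmannian.map φ₀ (Grassmannian.map (IsScalarTower.toAlgHom R A A₀) (V (D.src a))) = _
      rw [← Grassmannian.map_comp, hφ₀]; rfl] at this
  have hδ : φ₀ (hdet f g D hrd x₀) ≠ 0 := by rw [hdet_map, ← hxeq]; exact hxL.ne_zero
  obtain ⟨⟨a, m⟩, ham⟩ := IsLocalization.surj (Submonoid.powers H) (hdet f g D hrd x₀)
  have ham' : hdet f g D hrd x₀ * algebraMap A A₀ m = algebraMap A A₀ a := ham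
  have hφm : φ m ≠ 0 := by
    obtain ⟨_, k, rfl⟩ := m
    rw [map_pow]; exact pow_ne_zero _ hH
  have hφa : φ a ≠ 0 := by
    have := congrArg φ₀ ham'
    rw [map_mul] at this
    have h1 : ∀ z, φ₀ (algebraMap A A₀ z) = φ z := fun z => AlgHom.congr_fun hφ₀ z
    rw [h1, h1] at this
    rw [← this]
    exact mul_ne_zero hδ hφm
  refine ⟨H * a, by rw [map_mul]; exact mul_ne_zero hH hφa, ?_⟩
  let A₁ := Localization.Away (H * a)
  have hu1 : IsUnit (IsScalarTower.toAlgHom R A A₁ H) :=
    isUnit_of_dvd_unit (map_dvd _ (dvd_mul_right H a)) (IsLocalization.Away.algebraMap_isUnit (H * a))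
  have hu2 : IsUnit (IsScalarTower.toAlgHom R A A₁ a) :=
    isUnit_of_dvd_unit (map_dvd _ (dvd_mul_left a H)) (IsLocalization.Away.algebraMap_isUnit (H * a))
  let ψ : A₀ →ₐ[R] A₁ := awayLift _ H hu1
  have hψ : ψ.comp (IsScalarTower.toAlgHom R A A₀) = IsScalarTower.toAlgHom R A A₁ := awayLift_comp _ _ _
  have hx1 : IsUnit (hdet f g D hrd fun a b => ψ (x₀ a b)) := by
    rw [← hdet_map]
    refine isUnit_of_dvd_unit (map_dvd ψ ⟨algebraMap A A₀ m, ham'.symm⟩) ?_
    rw [show ψ (algebraMap A A₀ a) = IsScalarTower.toAlgHom R A A₁ a from AlgHom.congr_fun hψ a]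
    exact hu2
  refine ⟨_, hx1, ?_⟩
  rw [← hψ, ← mapTup_comp]
  funext j
  refine ofFam_eq_of_le _ _ fun a => ?_
  show T (seqM f A₁) (seqM g A₁) (D.src a) j (gvec D _ a) ∈ (Grassmannian.map ψ (V₀ j)).toSubmodule
  rw [← ext_gvec, ← ext_T]
  refine ext₁_mem_map ψ (V₀ j) ?_
  have := T_mem (stable_seqV hV₀) (show gvec D x₀ a ∈ seqV V₀ (D.src a) by rw [seqV_fin]; exact hg a) j
  rwa [seqV_fin] at this

/-- Membership in a chart descends along field extensions. -/
theorem inChart_of_map {K L : Type u} [Field K] [Algebra R K] [Field L] [Algebra R L] (φ : K →ₐ[R] L)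
    {V : Fin (n + 1) → Grassmannian K (Mo R K d) (d - r)} (hV : V ∈ W4c1limliniiii.LGPoints R d r n f g K)
    (h : InChart f g D hrd (mapTup φ V)) : InChart f g D hrd V := by
  obtain ⟨h', hh', hC⟩ := exists_inChart_away φ hV h
  have hne : h' ≠ 0 := fun h0 => hh' (by rw [h0, map_zero])
  have := hC.map (awayLift (AlgHom.id R K) h' (isUnit_iff_ne_zero.2 hne))
  rwa [mapTup_comp, awayLift_comp, mapTup_id] at this

end Groth.Agent.LGLib
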