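import Groth.Agent.LGLib.Chain

/-! Deformations of non exact linked subspaces increasing one rank. -/

set_option autoImplicit false

open Module

namespace Groth.Agent.LGLib

variable {K M : Type*} [Field K] [AddCommGroup M] [Module K M]

/-- Data of a linked deformation `x ↦ x + t φ_j(x) u_j` of the members. -/
structure IsDeform (F G : ℕ → M →ₗ[K] M) (V : ℕ → Submodule K M) (φ : ℕ → M →ₗ[K] K) (u : ℕ → M) : Prop where
  condF : ∀ j, ∀ x ∈ V j, φ j x • F j (u j) - φ (j + 1) (F j x) • u (j + 1) ∈ V (j + 1) ∧
    φ (j + 1) (φ j x • F j (u j) - φ (j + 1) (F j x) • u (j + 1)) = 0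
  condG : ∀ j, ∀ x ∈ V (j + 1), φ (j + 1) x • G j (u (j + 1)) - φ j (G j x) • u j ∈ V j ∧
    φ j (φ (j + 1) x • G j (u (j + 1)) - φ j (G j x) • u j) = 0

variable {F G : ℕ → M →ₗ[K] M} {V : ℕ → Submodule K M} {n r : ℕ}

theorem exists_factor {P : Type*} [AddCommGroup P] [Module K P] (θ : P →ₗ[K] M) (ψ : P →ₗ[K] K)
    (h : LinearMap.ker θ ≤ LinearMap.ker ψ) : ∃ φ : M →ₗ[K] K, φ ∘ₗ θ = ψ := by
  obtain ⟨g, hg⟩ := LinearMap.exists_extend
    (((LinearMap.ker θ).liftQ ψ h) ∘ₗ θ.quotKerEquivRange.symm.toLinearMap)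
  refine ⟨g, LinearMap.ext fun x => ?_⟩
  have := LinearMap.congr_fun hg ⟨θ x, LinearMap.mem_range_self θ x⟩
  simpa [LinearMap.quotKerEquivRange_symm_apply_image θ x (LinearMap.mem_range_self θ x)] using this

variable (F V) in
/-- The image of the preceding member. -/
def predImage : ℕ → Submodule K M
  | 0 => ⊥
  | p + 1 => (V p).map (F p)

theorem exists_deformF (hC : Chain F G n) (hL : Linked F G n r V) {i : ℕ} (hi : i < n)
    (hne : ¬ ExactAt F G V i) (hlt : ∀ j < i, ExactAt F G V j) [FiniteDimensional K M] :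
    ∃ (φ : ℕ → M →ₗ[K] K) (u : ℕ → M), IsDeform F G V φ u ∧ (∀ j, i < j → u j = 0) ∧
      ∃ e ∈ V i, F i e = 0 ∧ φ i e = 1 ∧ F i (u i) ∉ (V i).map (F i) := by
  classical
  have hrk : rkF F V i + rkG G V i < r :=
    lt_of_le_of_ne (rk_add_le hC hL hi) (fun h => hne ((exactAt_iff hC hL hi).2 h))
  -- the new direction
  obtain ⟨v, hv, hvn⟩ : ∃ v ∈ LinearMap.ker (G i) ⊓ V (i + 1), v ∉ (V i).map (F i) := by
    by_contra h
    simp only [not_exists, not_and, not_not] at h
    have h1 := Submodule.finrank_mono (show LinearMap.ker (G i) ⊓ V (i + 1) ≤ (V i).map (F i) from h)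
    have h2 := finrank_map_add' (G i) (V (i + 1))
    rw [hL.dim (i + 1) hi] at h2
    unfold rkF rkG at hrk
    omega
  obtain ⟨u₀, hu₀⟩ := hC.kerG i hi v hv.1
  obtain ⟨e, he, hen⟩ : ∃ e ∈ LinearMap.ker (F i) ⊓ V i, e ∉ (V (i + 1)).map (G i) := by
    by_contra h
    simp only [not_exists, not_and, not_not] at h
    have h1 := Submodule.finrank_mono (show LinearMap.ker (F i) ⊓ V i ≤ (V (i + 1)).map (G i) from h)
    have h2 := finrank_map_add' (F i) (V i)
    rw [hL.dim i hi.le] at h2
    unfold rkF rkG at hrk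
    omega
  have hd : ∀ j ≤ i, ∀ x : M, j < i → T F G i j x = G j (T F G i (j + 1) x) := fun j _ x hj => by
    rw [T_pred hj]; rfl
  -- the functionals, built downwards
  have key : ∀ m, m ≤ i → ∃ φ : ℕ → M →ₗ[K] K, φ i e = 1 ∧ (∀ j, i < j → φ j = 0) ∧
      (∀ x ∈ (V (i + 1)).map (G i), φ i x = 0) ∧
      (∀ j, i - m ≤ j → j ≤ i → ∀ p, p + 1 = j → ∀ x ∈ (V p).map (F p), φ j x = 0) ∧
      (∀ j, i - m ≤ j → j < i → ∀ x ∈ V (j + 1), φ j (G j x) = φ (j + 1) x) := by
    intro m
    induction m with
    | zero =>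
      intro _
      have he' : e ∉ incoming F G V i := by
        intro h
        cases i with
        | zero => exact hen h
        | succ j =>
          obtain ⟨y, hy, z, hz, hyz⟩ := Submodule.mem_sup.1 h
          obtain ⟨y', -, rfl⟩ := hy
          obtain ⟨z', hz', rfl⟩ := hz
          refine hen ⟨z', hz', ?_⟩
          have h0 : F (j + 1) (F j y') = 0 := by
            have := congrArg (F (j + 1)) hyz
            rwa [map_add, hC.FG, add_zero, LinearMap.mem_ker.1 he.1] at this
          rw [hC.sepF j hi y' h0, zero_add] at hyz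
          exact hyz
      obtain ⟨χ, hχe, hχ⟩ := Submodule.exists_dual_map_eq_bot_of_notMem he' inferInstance
      have hχ0 : ∀ x ∈ incoming F G V i, χ x = 0 := fun x hx => by
        have : χ x ∈ (incoming F G V i).map χ := ⟨x, hx, rfl⟩
        rwa [hχ, Submodule.mem_bot] at this
      refine ⟨fun j => if j = i then (χ e)⁻¹ • χ else 0, by simp [inv_mul_cancel₀ hχe], fun j hj => if_neg (by omega),
        fun x hx => ?_, fun j hj hji p hp x hx => ?_, fun j hj hji => absurd hj (by omega)⟩
      · have hx' : x ∈ incoming F G V i := by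
          cases i with
          | zero => exact hx
          | succ j => exact Submodule.mem_sup_right hx
        simp [hχ0 x hx']
      · obtain rfl : j = i := by omega
        subst hp
        simp [hχ0 x (Submodule.mem_sup_left hx)]
    | succ m ih =>
      intro hm
      obtain ⟨φ, hφe, hφ0, hφi, hφF, hφG⟩ := ih (by omega)
      set j := i - (m + 1) with hj
      have hjj : j + 1 = i - m := by omega
      let U : Submodule K M := predImage F V j
      let θ : V (j + 1) × U →ₗ[K] M := ((G j) ∘ₗ (V (j + 1)).subtype).coprod U.subtype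
      let ψ : V (j + 1) × U →ₗ[K] K := ((φ (j + 1)) ∘ₗ (V (j + 1)).subtype) ∘ₗ LinearMap.fst K _ _
      obtain ⟨χ, hχ⟩ := exists_factor θ ψ (by
        rintro ⟨⟨x, hx⟩, ⟨z, hz⟩⟩ hxz
        have hxz' : G j x + z = 0 := hxz
        have hGx : G j x = 0 := by
          cases hj' : j with
          | zero =>
            simp only [U, hj', predImage] at hz
            rw [(Submodule.mem_bot K).1 hz, add_zero, hj'] at hxz'
            exact hxz'
          | succ p =>
            simp only [U, hj', predImage] at hz
            obtain ⟨y, -, rfl⟩ := hz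
            rw [hj'] at hxz'
            have h0 : F (p + 1) (F p y) = 0 := by
              have := congrArg (F (p + 1)) hxz'
              rwa [map_add, hC.FG, zero_add, map_zero] at this
            rwa [hC.sepF p (by omega) y h0, add_zero] at hxz'
        show φ (j + 1) x = 0
        exact hφF (j + 1) hjj.ge (by omega) j rfl x ((hlt j (by omega)).1 ⟨hGx, hx⟩))
      refine ⟨Function.update φ j χ, ?_, fun l hl => ?_, fun x hx => ?_, fun l hl hli p hp x hx => ?_, fun l hl hli x hx => ?_⟩
      · rw [Function.update_of_ne (by omega)]; exact hφe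
      · rw [Function.update_of_ne (by omega)]; exact hφ0 l hl
      · rw [Function.update_of_ne (by omega)]; exact hφi x hx
      · rcases eq_or_lt_of_le hl with h | h
        · subst h
          have hxU : x ∈ U := by simp only [U, ← hp, predImage]; exact hx
          have := LinearMap.congr_fun hχ (0, ⟨x, hxU⟩)
          simpa [θ, ψ, ← hj] using this
        · rw [Function.update_of_ne (by omega)]
          exact hφF l (by omega) hli p hp x hx
      · rcases eq_or_lt_of_le hl with h | h
        · subst h
          rw [Function.update_self, Function.update_of_ne (by omega)]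
          have := LinearMap.congr_fun hχ (⟨x, hx⟩, 0)
          simpa [θ, ψ] using this
        · rw [Function.update_of_ne (by omega), Function.update_of_ne (by omega)]
          exact hφG l (by omega) hli x hx
  obtain ⟨φ, hφe, hφ0, hφi, hφF, hφG⟩ := key i le_rfl
  let u : ℕ → M := fun j => if j ≤ i then T F G i j u₀ else 0
  have hu0 : ∀ j, i < j → u j = 0 := fun j hj => if_neg (by omega)
  have huG : ∀ j < i, G j (u (j + 1)) = u j := fun j hj => by
    simp only [u, if_pos (show j + 1 ≤ i by omega), if_pos hj.le]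
    rw [T_pred hj]; rfl
  have hui : u i = u₀ := by simp [u]
  refine ⟨φ, u, ⟨fun j x hx => ?_, fun j x hx => ?_⟩, hu0, e, he.2, he.1, hφe, ?_⟩
  · rcases lt_trichotomy j i with h | h | h
    · have h1 : φ (j + 1) (F j x) = 0 := hφF (j + 1) (by omega) h j rfl _ ⟨x, hx, rfl⟩
      have h2 : F j (u j) = 0 := by rw [← huG j h, hC.FG]
      simp [h1, h2]
    · subst h
      rw [hφ0 (j + 1) (by omega), hui, hu₀]
      simpa using (V (j + 1)).smul_mem (φ j x) hv.2
    · rw [hu0 j h, hu0 (j + 1) (by omega)]
      simp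
  · rcases lt_trichotomy j i with h | h | h
    · rw [huG j h, hφG j (by omega) h x hx]
      simp
    · subst h
      rw [hu0 (j + 1) (by omega), hφi (G j x) ⟨x, hx, rfl⟩]
      simp
    · rw [hu0 j h, hu0 (j + 1) (by omega)]
      simp
  · rw [hui, hu₀]
    exact hvn

variable (F G V n) in
/-- Reversal of a sequence of members. -/
def revV : ℕ → Submodule K M := fun j => if j ≤ n then V (n - j) else ⊥

/-- Reversal of the maps. -/
def revM (n : ℕ) (H : ℕ → M →ₗ[K] M) : ℕ → M →ₗ[K] M := fun j => if j < n then H (n - (j + 1)) else 0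

theorem revM_lt (H : ℕ → M →ₗ[K] M) {j : ℕ} (hj : j < n) : revM n H j = H (n - (j + 1)) := if_pos hj

theorem chain_rev (hC : Chain F G n) : Chain (revM n G) (revM n F) n where
  FG i x := by
    simp only [revM]
    split
    · exact hC.GF _ x
    · rfl
  GF i x := by
    simp only [revM]
    split
    · exact hC.FG _ x
    · rfl
  kerF i hi x hx := by
    rw [revM_lt _ hi] at hx ⊢
    exact hC.kerG _ (by omega) x hx
  kerG i hi x hx := by
    rw [revM_lt _ hi] at hx ⊢
    exact hC.kerF _ (by omega) x hx
  sepF i hi x hx := by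
    rw [revM_lt _ (show i < n by omega), revM_lt _ hi, show n - (i + 1) = n - (i + 1 + 1) + 1 by omega] at hx
    rw [revM_lt _ (show i < n by omega), show n - (i + 1) = n - (i + 1 + 1) + 1 by omega]
    exact hC.sepG _ (by omega) x hx
  sepG i hi x hx := by
    rw [revM_lt _ (show i < n by omega), revM_lt _ hi, show n - (i + 1) = n - (i + 1 + 1) + 1 by omega] at hx
    rw [revM_lt _ hi]
    exact hC.sepF _ (by omega) x hx
  F_top i hi := if_neg (by omega)
  G_top i hi := if_neg (by omega)

theorem linked_rev (hL : Linked F G n r V) : Linked (revM n G) (revM n F) n r (revV V n) where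
  mapF i := by
    by_cases hi : i < n
    · simp only [revM_lt _ hi, revV, if_pos hi.le, if_pos (show i + 1 ≤ n by omega)]
      rw [show n - i = n - (i + 1) + 1 by omega]
      exact hL.mapG _
    · rw [revM, if_neg hi, Submodule.map_zero]; exact bot_le
  mapG i := by
    by_cases hi : i < n
    · simp only [revM_lt _ hi, revV, if_pos hi.le, if_pos (show i + 1 ≤ n by omega)]
      rw [show n - i = n - (i + 1) + 1 by omega]
      exact hL.mapF _
    · rw [revM, if_neg hi, Submodule.map_zero]; exact bot_le
  dim i hi := by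
    rw [revV, if_pos hi]; exact hL.dim _ (by omega)

theorem exactAt_rev {j : ℕ} (hj : j < n) :
    ExactAt (revM n G) (revM n F) (revV V n) j ↔ ExactAt F G V (n - (j + 1)) := by
  unfold ExactAt
  simp only [revM_lt _ hj, revV, if_pos hj.le, if_pos (show j + 1 ≤ n by omega)]
  rw [show n - j = n - (j + 1) + 1 by omega]
  exact and_comm

theorem exists_deformG (hC : Chain F G n) (hL : Linked F G n r V) {i : ℕ} (hi : i < n)
    (hne : ¬ ExactAt F G V i) (hgt : ∀ j, i < j → j < n → ExactAt F G V j) [FiniteDimensional K M] :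
    ∃ (φ : ℕ → M →ₗ[K] K) (u : ℕ → M), IsDeform F G V φ u ∧ (∀ j, j ≤ i → u j = 0) ∧
      ∃ e ∈ V (i + 1), G i e = 0 ∧ φ (i + 1) e = 1 ∧ G i (u (i + 1)) ∉ (V (i + 1)).map (G i) := by
  have hi' : n - (i + 1) < n := by omega
  have hii : n - (n - (i + 1) + 1) = i := by omega
  obtain ⟨φ, u, hd, hu, e, he, hFe, hφe, hne'⟩ := exists_deformF (chain_rev hC) (linked_rev hL) hi'
    (by rwa [exactAt_rev hi', hii])
    (fun j hj => (exactAt_rev (by omega)).2 (hgt _ (by omega) (by omega)))
  have hkk : n - (n - (i + 1)) = i + 1 := by omega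
  rw [revV, if_pos hi'.le, hkk] at he hne'
  rw [revM_lt _ hi', hii] at hFe hne'
  refine ⟨fun j => if j ≤ n then φ (n - j) else 0, fun j => if j ≤ n then u (n - j) else 0, ⟨fun j x hx => ?_, fun j x hx => ?_⟩,
    fun j hj => ?_, e, he, hFe, ?_, ?_⟩
  · by_cases hj : j < n
    · simp only [if_pos hj.le, if_pos (show j + 1 ≤ n by omega)]
      have h := hd.condG (n - (j + 1)) x (by
        rw [revV, if_pos (show n - (j + 1) + 1 ≤ n by omega), show n - (n - (j + 1) + 1) = j by omega]; exact hx)
      rw [revM_lt _ (show n - (j + 1) < n by omega), show n - (n - (j + 1) + 1) = j by omega,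
        show n - (j + 1) + 1 = n - j by omega, revV, if_pos (show n - (j + 1) ≤ n by omega),
        show n - (n - (j + 1)) = j + 1 by omega] at h
      exact h
    · simp only [if_neg (show ¬ j + 1 ≤ n by omega)]
      rw [hC.F_top j (by omega)]
      simp
  · by_cases hj : j < n
    · simp only [if_pos hj.le, if_pos (show j + 1 ≤ n by omega)]
      have h := hd.condF (n - (j + 1)) x (by
        rw [revV, if_pos (show n - (j + 1) ≤ n by omega), show n - (n - (j + 1)) = j + 1 by omega]; exact hx)
      rw [revM_lt _ (show n - (j + 1) < n by omega), show n - (n - (j + 1) + 1) = j by omega,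
        show n - (j + 1) + 1 = n - j by omega, revV, if_pos (show n - j ≤ n by omega),
        show n - (n - j) = j by omega] at h
      exact h
    · simp only [if_neg (show ¬ j + 1 ≤ n by omega)]
      rw [hC.G_top j (by omega)]
      simp
  · show (if j ≤ n then u (n - j) else 0) = 0
    split
    · exact hu _ (by omega)
    · rfl
  · show (if i + 1 ≤ n then φ (n - (i + 1)) else 0) e = 1
    rw [if_pos (show i + 1 ≤ n by omega)]; exact hφe
  · show G i (if i + 1 ≤ n then u (n - (i + 1)) else 0) ∉ _
    rw [if_pos (show i + 1 ≤ n by omega)]; exact hne'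

end Groth.Agent.LGLib
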