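import Groth.Agent.LGLib.FieldPoint

/-! Generisations of non exact points of linked Grassmannians. -/

set_option autoImplicit false
set_option backward.isDefEq.respectTransparency false
set_option backward.isDefEq.respectTransparency.types false
set_option linter.style.haveILetI false
set_option maxHeartbeats 1600000

universe u

open TensorProduct Module

namespace Groth.Agent.LGLib

open GrassRepLib

variable {R : Type u} [CommRing R] {d r n q : ℕ}
variable {K L : Type u} [Field K] [Algebra R K] [Field L] [Algebra R L]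
variable {A : Type u} [CommRing A] [Algebra R A]

theorem exists_mem_lift (π : A →ₐ[R] K) (hπ : Function.Surjective π) (N : Grassmannian A (Mo R A d) q) {x : Mo R K d}
    (hx : x ∈ (Grassmannian.map π N).toSubmodule) : ∃ y ∈ N.toSubmodule, ext π y = x := by
  rw [map_toSubmodule_eq_span π N] at hx
  induction hx using Submodule.span_induction with
  | mem x hx => exact hx
  | zero => exact ⟨0, zero_mem _, map_zero _⟩
  | add x y _ _ hx hy =>
    obtain ⟨x', hx', rfl⟩ := hx
    obtain ⟨y', hy', rfl⟩ := hy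
    exact ⟨x' + y', add_mem hx' hy', map_add _ _ _⟩
  | smul c x _ hx =>
    obtain ⟨x', hx', rfl⟩ := hx
    obtain ⟨c', rfl⟩ := hπ c
    exact ⟨c' • x', Submodule.smul_mem _ _ hx', ext₁_smul (M := Fin d → R) _ _ _⟩

theorem finrank_map_le_of_specializes (π : A →ₐ[R] K) (hπ : Function.Surjective π) (ψ : A →ₐ[R] L)
    (hker : ∀ a, ψ a = 0 → π a = 0) (FA : Mo R A d →ₗ[A] Mo R A d) (FK : Mo R K d →ₗ[K] Mo R K d)
    (FL : Mo R L d →ₗ[L] Mo R L d) (hFK : ∀ y, ext π (FA y) = FK (ext π y)) (hFL : ∀ y, ext ψ (FA y) = FL (ext ψ y))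
    (N : Grassmannian A (Mo R A d) q) :
    finrank K ((Grassmannian.map π N).toSubmodule.map FK) ≤ finrank L ((Grassmannian.map ψ N).toSubmodule.map FL) := by
  obtain ⟨v, hv, hvS⟩ := exists_basis_fam ((Grassmannian.map π N).toSubmodule.map FK)
  have hmem : ∀ a, ∃ y ∈ N.toSubmodule, FK (ext π y) = v a := fun a => by
    obtain ⟨x, hx, hxv⟩ : v a ∈ (Grassmannian.map π N).toSubmodule.map FK :=
      hvS.le (Submodule.subset_span ⟨a, rfl⟩)
    obtain ⟨y, hy, rfl⟩ := exists_mem_lift π hπ N hx
    exact ⟨y, hy, hxv⟩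
  choose y hy hyv using hmem
  have hli : LinearIndependent L (ext ψ ∘ fun a => FA (y a)) :=
    li_ext_of_specializes π hπ ψ hker _ (by
      rw [show ext π ∘ (fun a => FA (y a)) = v from funext fun a => (hFK (y a)).trans (hyv a)]
      exact hv)
  refine le_trans (le_of_eq ?_) (Submodule.finrank_mono (show Submodule.span L (Set.range (ext ψ ∘ fun a => FA (y a))) ≤ _ from
    Submodule.span_le.2 ?_))
  · rw [finrank_span_eq_card hli, Fintype.card_fin]
  · rintro _ ⟨a, rfl⟩
    exact ⟨ext ψ (y a), ext₁_mem_map ψ N (hy a), (hFL (y a)).symm⟩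

variable {f g : Fin n → ((Fin d → R) →ₗ[R] (Fin d → R))}

/-- A generisation of a point over a field. -/
structure Gener (f g : Fin n → ((Fin d → R) →ₗ[R] (Fin d → R))) (V : Fin (n + 1) → Grassmannian K (Mo R K d) (d - r)) where
  /-- the ring of the family -/
  A : Type u
  [ringA : CommRing A]
  [algA : Algebra R A]
  /-- the generic field -/
  L : Type u
  [fieldL : Field L]
  [algL : Algebra R L]
  /-- the special point -/
  π : A →ₐ[R] K
  /-- the generic point -/
  ψ : A →ₐ[R] L
  /-- the family -/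
  W : Fin (n + 1) → Grassmannian A (Mo R A d) (d - r)
  mem : W ∈ W4c1limliniiii.LGPoints R d r n f g A
  π_surj : Function.Surjective π
  ker_le : ∀ a, ψ a = 0 → π a = 0
  special : mapTup π W = V

attribute [instance] Gener.ringA Gener.algA Gener.fieldL Gener.algL

variable {V : Fin (n + 1) → Grassmannian K (Mo R K d) (d - r)}

/-- The generic forward rank. -/
noncomputable def Gener.gF (G : Gener f g V) (i : ℕ) : ℕ := rkF (seqM f G.L) (seqV (mapTup G.ψ G.W)) i

/-- The generic backward rank. -/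
noncomputable def Gener.gG (G : Gener f g V) (i : ℕ) : ℕ := rkG (seqM g G.L) (seqV (mapTup G.ψ G.W)) i

theorem Gener.le_gF (G : Gener f g V) {i : ℕ} (hi : i < n) : rkF (seqM f K) (seqV V) i ≤ G.gF i := by
  rw [rkF, Gener.gF, rkF, seqV_le _ hi.le, seqV_le _ hi.le,
    show V ⟨i, by omega⟩ = Grassmannian.map G.π (G.W ⟨i, by omega⟩) from (congrFun G.special _).symm]
  exact finrank_map_le_of_specializes G.π G.π_surj G.ψ G.ker_le (seqM f G.A i) _ _ (ext_seqM f G.π i) (ext_seqM f G.ψ i) _

theorem Gener.le_gG (G : Gener f g V) {i : ℕ} (hi : i < n) : rkG (seqM g K) (seqV V) i ≤ G.gG i := by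
  rw [rkG, Gener.gG, rkG, seqV_le _ (show i + 1 ≤ n from hi), seqV_le _ (show i + 1 ≤ n from hi),
    show V ⟨i + 1, by omega⟩ = Grassmannian.map G.π (G.W ⟨i + 1, by omega⟩) from (congrFun G.special _).symm]
  exact finrank_map_le_of_specializes G.π G.π_surj G.ψ G.ker_le (seqM g G.A i) _ _ (ext_seqM g G.π i) (ext_seqM g G.ψ i) _

/-- Deformation data give generisations. -/
theorem exists_gener (hrd : r ≤ d) (hV : V ∈ W4c1limliniiii.LGPoints R d r n f g K)
    {φ : ℕ → Mo R K d →ₗ[K] K} {u : ℕ → Mo R K d} (hd : IsDeform (seqM f K) (seqM g K) (seqV V) φ u) :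
    ∃ G : Gener f g V, ∀ i < n,
      (u i = 0 → G.gF i = rkF (seqM f K) (seqV V) i) ∧
      (u (i + 1) = 0 → G.gG i = rkG (seqM g K) (seqV V) i) ∧
      (∀ e ∈ seqV V i, seqM f K i e = 0 → φ i e = 1 → seqM f K i (u i) ∉ (seqV V i).map (seqM f K i) →
        rkF (seqM f K) (seqV V) i < G.gF i) ∧
      (∀ e ∈ seqV V (i + 1), seqM g K i e = 0 → φ (i + 1) e = 1 →
        seqM g K i (u (i + 1)) ∉ (seqV V (i + 1)).map (seqM g K i) → rkG (seqM g K) (seqV V) i < G.gG i) := by
  classical
  let P := Polynomial K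
  let cst : K →ₐ[R] P := IsScalarTower.toAlgHom R K P
  let e0 : P →ₐ[R] K := (Polynomial.aeval (0 : K)).restrictScalars R
  have he0 : ∀ c : K, e0 (cst c) = c := fun c => Polynomial.aeval_C (0 : K) c
  have he0X : e0 Polynomial.X = 0 := Polynomial.aeval_X (0 : K)
  have hext0 : ∀ x : Mo R K d, ext e0 (ext cst x) = x := fun x => by
    rw [ext, ext₁_comp, show e0.comp cst = AlgHom.id R K from AlgHom.ext he0]
    simp [ext₁]
  -- the deformed vectors
  let Lt : ℕ → Mo R K d → Mo R P d := fun j x => ext cst x + (Polynomial.X * cst (φ j x)) • ext cst (u j)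
  have hLt0 : ∀ j x, ext e0 (Lt j x) = x := fun j x => by
    simp only [Lt, map_add, ext, ext₁_smul, map_mul, he0X, zero_mul, zero_smul, add_zero]
    exact hext0 x
  have hLtadd : ∀ j x y, Lt j (x + y) = Lt j x + Lt j y := fun j x y => by
    simp only [Lt, map_add, mul_add, add_smul]; abel
  have hLtsmul : ∀ j (c : K) x, Lt j (c • x) = cst c • Lt j x := fun j c x => by
    simp only [Lt, ext, ext₁_smul, map_smul, smul_eq_mul, map_mul, smul_add, smul_smul]
    rw [show Polynomial.X * (cst c * cst (φ j x)) = cst c * (Polynomial.X * cst (φ j x)) by ring]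
  -- bases
  have hbasis : ∀ j : Fin (n + 1), ∃ v : Fin r ⊕ Fin (d - r) → Mo R K d,
      IsUnit (dt (Nat.add_sub_cancel' hrd) v) ∧ Submodule.span K (Set.range (v ∘ Sum.inl)) = seqV V j := by
    intro j
    have hr : finrank K (seqV V j) = r := finrank_tup hrd V (by omega)
    obtain ⟨b, hb, hbS⟩ := exists_basis_fam (seqV V j)
    obtain ⟨m', w, hw, hm⟩ := exists_completion b hb
    rw [finrank_Mo] at hm
    have hm' : m' = d - r := by omega
    refine ⟨Sum.elim (b ∘ Fin.cast hr.symm) (w ∘ Fin.cast hm'.symm), ?_, ?_⟩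
    · have hli : LinearIndependent K (Sum.elim (b ∘ Fin.cast hr.symm) (w ∘ Fin.cast hm'.symm)) := by
        have := hw.comp (Sum.map (Fin.cast hr.symm) (Fin.cast hm'.symm))
          ((Fin.cast_injective _).sumMap (Fin.cast_injective _))
        rwa [Sum.elim_comp_map] at this
      refine (isUnit_dt_iff _ _).2 ⟨hli, span_eq_top_of_li hli ?_⟩
      rw [finrank_Mo, Fintype.card_sum, Fintype.card_fin, Fintype.card_fin]
      omega
    · rw [Sum.elim_comp_inl, (show Function.Surjective (Fin.cast hr.symm) from fun x => ⟨Fin.cast hr x, rfl⟩).range_comp b, hbS]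
  choose v hv hvS using hbasis
  let fam : Fin (n + 1) → Fin r ⊕ Fin (d - r) → Mo R P d := fun j =>
    Sum.elim (fun a => Lt j (v j (.inl a))) fun b => ext cst (v j (.inr b))
  have hfam0 : ∀ j, ext e0 ∘ fam j = v j := fun j => funext fun i => by
    rcases i with a | b
    · exact hLt0 _ _
    · exact hext0 _
  have hLtspan : ∀ (j : Fin (n + 1)) x, x ∈ seqV V j →
      Lt j x ∈ Submodule.span P (Set.range (fam j ∘ Sum.inl)) := by
    intro j x hx
    rw [← hvS j] at hx
    induction hx using Submodule.span_induction with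
    | mem x hx =>
      obtain ⟨a, rfl⟩ := hx
      exact Submodule.subset_span ⟨a, rfl⟩
    | zero => simp [Lt]
    | add x y _ _ hx hy => rw [hLtadd]; exact add_mem hx hy
    | smul c x _ hx => rw [hLtsmul]; exact Submodule.smul_mem _ _ hx
  let h₀ : P := ∏ j, dt (Nat.add_sub_cancel' hrd) (fam j)
  have he : e0 h₀ ≠ 0 := by
    rw [map_prod]
    refine Finset.prod_ne_zero_iff.2 fun j _ => ?_
    rw [← dt_ext, hfam0]
    exact (hv j).ne_zero
  have hne : h₀ ≠ 0 := fun h => he (by rw [h, map_zero])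
  let A := Localization.Away h₀
  let toA : P →ₐ[R] A := IsScalarTower.toAlgHom R P A
  let π : A →ₐ[R] K := awayLift e0 h₀ (isUnit_iff_ne_zero.2 he)
  let L := FractionRing P
  let toL : P →ₐ[R] L := IsScalarTower.toAlgHom R P L
  have htoL : Function.Injective toL := IsFractionRing.injective P L
  let ψ : A →ₐ[R] L := awayLift toL h₀ (isUnit_iff_ne_zero.2 fun h => hne (htoL (by rw [map_zero]; exact h)))
  have hπA : π.comp toA = e0 := awayLift_comp _ _ _
  have hψA : ψ.comp toA = toL := awayLift_comp _ _ _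
  have hu : ∀ j, IsUnit (dt (Nat.add_sub_cancel' hrd) (ext toA ∘ fam j)) := fun j => by
    rw [dt_ext]
    exact isUnit_of_dvd_unit (map_dvd toA (Finset.dvd_prod_of_mem (fun j => dt (Nat.add_sub_cancel' hrd) (fam j)) (Finset.mem_univ j)))
      (IsLocalization.Away.algebraMap_isUnit h₀)
  let W : Fin (n + 1) → Grassmannian A (Mo R A d) (d - r) := fun j => ofFam (hu j)
  have hWmem : ∀ (j : Fin (n + 1)) (y : Mo R P d), y ∈ Submodule.span P (Set.range (fam j ∘ Sum.inl)) →
      ext toA y ∈ (W j).toSubmodule := by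
    intro j y hy
    induction hy using Submodule.span_induction with
    | mem x hx =>
      obtain ⟨a, rfl⟩ := hx
      exact Submodule.subset_span ⟨a, rfl⟩
    | zero => rw [map_zero]; exact zero_mem _
    | add x y _ _ hx hy => rw [map_add]; exact add_mem hx hy
    | smul c x _ hx => rw [ext, ext₁_smul]; exact Submodule.smul_mem _ _ hx
  have hW : W ∈ W4c1limliniiii.LGPoints R d r n f g A := by
    intro i
    constructor
    · show Submodule.map _ (Submodule.span A (Set.range ((ext toA ∘ fam i.castSucc) ∘ Sum.inl))) ≤ _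
      rw [Submodule.map_span_le]
      rintro _ ⟨a, rfl⟩
      show (f i).baseChange A (ext toA (Lt (i.castSucc : ℕ) (v i.castSucc (.inl a)))) ∈ _
      rw [← seqM_lt f i.2, ← ext_seqM, Fin.val_castSucc]
      refine hWmem _ _ ?_
      set x := v i.castSucc (.inl a) with hxdef
      have hx : x ∈ seqV V i := by
        rw [hxdef, ← Fin.val_castSucc i, ← hvS]; exact Submodule.subset_span ⟨a, rfl⟩
      obtain ⟨hy1, hy2⟩ := hd.condF i x hx
      have hFx : seqM f K i x ∈ seqV V (i + 1) := (stable_seqV hV).mapF i ⟨x, hx, rfl⟩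
      set y1 := φ i x • seqM f K i (u i) - φ (i + 1) (seqM f K i x) • u (i + 1) with hy1def
      have heq : seqM f P i (Lt i x) = Lt (i + 1) (seqM f K i x) + (Polynomial.X : P) • Lt (i + 1) y1 := by
        simp only [Lt, map_add, map_smul, ← ext_seqM, hy2, map_zero, mul_zero, zero_smul, add_zero]
        simp only [hy1def, map_sub, ext, ext₁_smul, smul_sub, smul_smul]
        abel
      rw [heq]
      have hs1 := hLtspan i.succ _ (show seqM f K i x ∈ seqV V (i.succ : ℕ) by rw [Fin.val_succ]; exact hFx)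
      have hs2 := hLtspan i.succ _ (show y1 ∈ seqV V (i.succ : ℕ) by rw [Fin.val_succ]; exact hy1)
      rw [Fin.val_succ] at hs1 hs2
      exact add_mem hs1 (Submodule.smul_mem _ _ hs2)
    · show Submodule.map _ (Submodule.span A (Set.range ((ext toA ∘ fam i.succ) ∘ Sum.inl))) ≤ _
      rw [Submodule.map_span_le]
      rintro _ ⟨a, rfl⟩
      show (g i).baseChange A (ext toA (Lt (i.succ : ℕ) (v i.succ (.inl a)))) ∈ _
      rw [← seqM_lt g i.2, ← ext_seqM, Fin.val_succ]
      refine hWmem _ _ ?_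
      set x := v i.succ (.inl a) with hxdef
      have hx : x ∈ seqV V (i + 1) := by
        rw [hxdef, ← Fin.val_succ i, ← hvS]; exact Submodule.subset_span ⟨a, rfl⟩
      obtain ⟨hy1, hy2⟩ := hd.condG i x hx
      have hGx : seqM g K i x ∈ seqV V i := (stable_seqV hV).mapG i ⟨x, hx, rfl⟩
      set y1 := φ (i + 1) x • seqM g K i (u (i + 1)) - φ i (seqM g K i x) • u i with hy1def
      have heq : seqM g P i (Lt (i + 1) x) = Lt i (seqM g K i x) + (Polynomial.X : P) • Lt i y1 := by
        simp only [Lt, map_add, map_smul, ← ext_seqM, hy2, map_zero, mul_zero, zero_smul, add_zero]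
        simp only [hy1def, map_sub, ext, ext₁_smul, smul_sub, smul_smul]
        abel
      rw [heq]
      have hs1 := hLtspan i.castSucc _ (show seqM g K i x ∈ seqV V (i.castSucc : ℕ) from hGx)
      have hs2 := hLtspan i.castSucc _ (show y1 ∈ seqV V (i.castSucc : ℕ) from hy1)
      exact add_mem hs1 (Submodule.smul_mem _ _ hs2)
  have hπW : mapTup π W = V := funext fun j => by
    have h : IsUnit (dt (Nat.add_sub_cancel' hrd) (ext π ∘ (ext toA ∘ fam j))) := by
      rw [dt_ext]; exact (hu j).map π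
    rw [mapTup, map_ofFam _ π h]
    refine ofFam_eq_of_le h _ fun a => ?_
    show ext π (ext toA (fam j (.inl a))) ∈ _
    rw [ext, ext₁_comp, hπA, show ext₁ (Fin d → R) e0 (fam j (.inl a)) = v j (.inl a) from congrFun (hfam0 j) (.inl a),
      ← seqV_fin, ← hvS]
    exact Submodule.subset_span ⟨a, rfl⟩
  have hπs : Function.Surjective π := fun c => ⟨toA (cst c), by
    rw [show π (toA (cst c)) = e0 (cst c) from AlgHom.congr_fun hπA _, he0]⟩
  have hker : ∀ a, ψ a = 0 → π a = 0 := by
    intro a ha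
    obtain ⟨⟨p, m⟩, hp⟩ := IsLocalization.surj (Submonoid.powers h₀) a
    have hp' : a * toA (m : P) = toA p := hp
    have h1 := congrArg ψ hp'
    rw [map_mul, ha, zero_mul, show ψ (toA p) = toL p from AlgHom.congr_fun hψA p] at h1
    have hp0 : p = 0 := htoL (by rw [map_zero]; exact h1.symm)
    rw [hp0, map_zero] at hp'
    have hm : IsUnit (toA (m : P)) := IsLocalization.map_units A m
    rw [hm.mul_left_eq_zero] at hp'
    rw [hp', map_zero]
  refine ⟨⟨A, L, π, ψ, W, hW, hπs, hker, hπW⟩, fun i hi => ?_⟩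
  -- the generic member
  let ι : K →ₐ[R] L := toL.comp cst
  have hgen : ∀ (j : ℕ) (hj : j ≤ n) x, x ∈ seqV V j →
      ext ι x + (toL (Polynomial.X : P) * ι (φ j x)) • ext ι (u j) ∈ seqV (mapTup ψ W) j := by
    intro j hj x hx
    rw [seqV_le _ hj]
    have h := ext₁_mem_map ψ (W ⟨j, by omega⟩) (hWmem ⟨j, by omega⟩ _ (hLtspan ⟨j, by omega⟩ x hx))
    rw [ext, ext₁_comp, hψA] at h
    simp only [Lt, map_add, ext, ext₁_smul, map_mul, ext₁_comp] at h
    exact h
  have heqV : ∀ (j : ℕ), j ≤ n → u j = 0 → seqV (mapTup ψ W) j = seqV (mapTup ι V) j := by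
    intro j hj huj
    rw [seqV_le _ hj, seqV_le _ hj]
    refine congrArg Grassmannian.toSubmodule ?_
    show Grassmannian.map ψ (W _) = Grassmannian.map ι (V _)
    have hι : ι = ψ.comp (toA.comp cst) := by rw [← AlgHom.comp_assoc, hψA]
    rw [hι, Grassmannian.map_comp]
    refine congrArg _ (ofFam_eq_of_le _ _ fun a => ?_)
    show ext toA (Lt j (v ⟨j, _⟩ (.inl a))) ∈ _
    simp only [Lt, huj, map_zero, smul_zero, add_zero]
    rw [ext, ext₁_comp]
    refine ext₁_mem_map (toA.comp cst) _ ?_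
    rw [← seqV_fin, ← hvS]
    exact Submodule.subset_span ⟨a, rfl⟩
  have hX : toL (Polynomial.X : P) ≠ 0 := fun h => Polynomial.X_ne_zero (htoL (by rw [h, map_zero]))
  have hstrict : ∀ (h : Fin n → ((Fin d → R) →ₗ[R] (Fin d → R))) (k j : ℕ), j ≤ n → ∀ e ∈ seqV V j,
      seqM h K k e = 0 → φ j e = 1 → seqM h K k (u j) ∉ (seqV V j).map (seqM h K k) →
      finrank K ((seqV V j).map (seqM h K k)) < finrank L ((seqV (mapTup ψ W) j).map (seqM h L k)) := by
    intro h k j hj e he hhe hφe hnot
    let S := (seqV V j).map (seqM h K k) ⊔ Submodule.span K {seqM h K k (u j)}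
    have hlt : finrank K ((seqV V j).map (seqM h K k)) < finrank K S :=
      Submodule.finrank_lt_finrank_of_lt (lt_of_le_of_ne le_sup_left fun h' => hnot (by
        rw [h']; exact Submodule.mem_sup_right (Submodule.mem_span_singleton_self _)))
    refine hlt.trans_le ?_
    rw [← finrank_span_ext ι S]
    refine Submodule.finrank_mono (Submodule.span_le.2 ?_)
    rintro _ ⟨z, hz, rfl⟩
    obtain ⟨z1, hz1, z2, hz2, rfl⟩ := Submodule.mem_sup.1 hz
    obtain ⟨x, hx, rfl⟩ := hz1
    obtain ⟨c, rfl⟩ := Submodule.mem_span_singleton.1 hz2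
    have hu' : ext ι (seqM h K k (u j)) ∈ (seqV (mapTup ψ W) j).map (seqM h L k) := by
      have h1 := Submodule.mem_map_of_mem (f := seqM h L k) (hgen j hj e he)
      rw [hφe, map_one, mul_one, map_add, map_smul, ← ext_seqM, ← ext_seqM, hhe, map_zero, zero_add] at h1
      exact (Submodule.smul_mem_iff _ hX).1 h1
    have hx' : ext ι (seqM h K k x) ∈ (seqV (mapTup ψ W) j).map (seqM h L k) := by
      have h1 := Submodule.mem_map_of_mem (f := seqM h L k) (hgen j hj (x - φ j x • e)
        (sub_mem hx (Submodule.smul_mem _ _ he)))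
      rw [map_sub (φ j), map_smul (φ j), hφe, smul_eq_mul, mul_one, sub_self, map_zero, mul_zero, zero_smul, add_zero,
        ← ext_seqM, map_sub (seqM h K k), map_smul (seqM h K k), hhe, smul_zero, sub_zero] at h1
      exact h1
    rw [SetLike.mem_coe, map_add, ext, ext₁_smul]
    exact add_mem hx' (Submodule.smul_mem _ _ hu')
  refine ⟨fun h => ?_, fun h => ?_, fun e he h1 h2 h3 => hstrict f i i hi.le e he h1 h2 h3,
    fun e he h1 h2 h3 => hstrict g i (i + 1) hi e he h1 h2 h3⟩
  · show rkF (seqM f L) (seqV (mapTup ψ W)) i = _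
    rw [rkF, heqV i hi.le h]
    exact rkF_map f ι V i
  · show rkG (seqM g L) (seqV (mapTup ψ W)) i = _
    rw [rkG, heqV (i + 1) hi h]
    exact rkG_map g ι V i

variable {s : R}

/-- A non exact point has a generisation with the same backward ranks and larger forward ranks. -/
theorem exists_gener_F (hrd : r ≤ d) (hA : Axioms f g s) (hV : V ∈ W4c1limliniiii.LGPoints R d r n f g K)
    (hne : ¬ W4c1limliniiii.IsExact R d r n f g K V) :
    ∃ G : Gener f g V, (∀ i < n, G.gG i = rkG (seqM g K) (seqV V) i) ∧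
      ∑ i ∈ Finset.range n, rkF (seqM f K) (seqV V) i < ∑ i ∈ Finset.range n, G.gF i := by
  classical
  have hs : algebraMap R K s = 0 := by_contra fun h => hne (exact_of_scalar hA h V)
  have hC := hA.chain K hs
  have hL := linked_seqV hrd hV
  rw [isExact_iff] at hne
  simp only [not_forall, exists_prop] at hne
  obtain ⟨i, ⟨hi, hni⟩, hmin⟩ : ∃ i, (i < n ∧ ¬ ExactAt (seqM f K) (seqM g K) (seqV V) i) ∧
      ∀ j < i, ¬ (j < n ∧ ¬ ExactAt (seqM f K) (seqM g K) (seqV V) j) :=
    ⟨Nat.find hne, Nat.find_spec hne, fun j hj => Nat.find_min hne hj⟩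
  obtain ⟨φ, u, hd, hu, e, he, h1, h2, h3⟩ :=
    exists_deformF hC hL hi hni fun j hj => not_not.1 fun h => hmin j hj ⟨by omega, h⟩
  obtain ⟨G, hG⟩ := exists_gener hrd hV hd
  refine ⟨G, fun j hj => ?_, Finset.sum_lt_sum (fun j hj => G.le_gF (Finset.mem_range.1 hj))
    ⟨i, Finset.mem_range.2 hi, (hG i hi).2.2.1 e he h1 h2 h3⟩⟩
  rcases lt_or_ge j i with hji | hji
  · have hsL : algebraMap R G.L s = 0 := by
      refine by_contra fun h => ?_
      have hgi : G.gG i = r := by
        rw [Gener.gG, rkG, (Submodule.equivMapOfInjective _ (injective_of_scalar (K := G.L) hA h hi).2 _).finrank_eq.symm,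
          finrank_tup hrd _ hi]
      rw [(hG i hi).2.1 (hu (i + 1) (by omega))] at hgi
      exact hni ((exactAt_iff hC hL hi).2 (le_antisymm (rk_add_le hC hL hi) (by omega)))
    have hle := G.le_gG hj
    have hleF := G.le_gF hj
    have hex := (exactAt_iff hC hL hj).1 (not_not.1 fun h => hmin j hji ⟨hj, h⟩)
    have hsum := rk_add_le (hA.chain G.L hsL) (linked_seqV hrd (map_mem_LGPoints G.mem G.ψ)) hj
    simp only [Gener.gF, Gener.gG] at *
    omega
  · exact (hG j hj).2.1 (hu (j + 1) (by omega))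

/-- A non exact point has a generisation with the same forward ranks and larger backward ranks. -/
theorem exists_gener_G (hrd : r ≤ d) (hA : Axioms f g s) (hV : V ∈ W4c1limliniiii.LGPoints R d r n f g K)
    (hne : ¬ W4c1limliniiii.IsExact R d r n f g K V) :
    ∃ G : Gener f g V, (∀ i < n, G.gF i = rkF (seqM f K) (seqV V) i) ∧
      ∑ i ∈ Finset.range n, rkG (seqM g K) (seqV V) i < ∑ i ∈ Finset.range n, G.gG i := by
  classical
  have hs : algebraMap R K s = 0 := by_contra fun h => hne (exact_of_scalar hA h V)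
  have hC := hA.chain K hs
  have hL := linked_seqV hrd hV
  rw [isExact_iff] at hne
  simp only [not_forall, exists_prop] at hne
  let S := (Finset.range n).filter fun i => ¬ ExactAt (seqM f K) (seqM g K) (seqV V) i
  have hS : S.Nonempty := by
    obtain ⟨i, hi, hni⟩ := hne
    exact ⟨i, by simp [S, hi, hni]⟩
  obtain ⟨hi, hni⟩ : S.max' hS < n ∧ ¬ ExactAt (seqM f K) (seqM g K) (seqV V) (S.max' hS) := by
    simpa [S] using S.max'_mem hS
  set i := S.max' hS with hidef
  have hgt : ∀ j, i < j → j < n → ExactAt (seqM f K) (seqM g K) (seqV V) j := fun j hij hj =>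
    not_not.1 fun h => absurd (S.le_max' j (by simp [S, hj, h])) (by omega)
  obtain ⟨φ, u, hd, hu, e, he, h1, h2, h3⟩ := exists_deformG hC hL hi hni hgt
  obtain ⟨G, hG⟩ := exists_gener hrd hV hd
  refine ⟨G, fun j hj => ?_, Finset.sum_lt_sum (fun j hj => G.le_gG (Finset.mem_range.1 hj))
    ⟨i, Finset.mem_range.2 hi, (hG i hi).2.2.2 e he h1 h2 h3⟩⟩
  rcases lt_or_ge i j with hji | hji
  · have hsL : algebraMap R G.L s = 0 := by
      refine by_contra fun h => ?_
      have hgi : G.gF i = r := by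
        rw [Gener.gF, rkF, (Submodule.equivMapOfInjective _ (injective_of_scalar (K := G.L) hA h hi).1 _).finrank_eq.symm,
          finrank_tup hrd _ hi.le]
      rw [(hG i hi).1 (hu i le_rfl)] at hgi
      exact hni ((exactAt_iff hC hL hi).2 (le_antisymm (rk_add_le hC hL hi) (by omega)))
    have hle := G.le_gG hj
    have hleF := G.le_gF hj
    have hex := (exactAt_iff hC hL hj).1 (hgt j hji hj)
    have hsum := rk_add_le (hA.chain G.L hsL) (linked_seqV hrd (map_mem_LGPoints G.mem G.ψ)) hj
    simp only [Gener.gF, Gener.gG] at *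
    omega
  · exact (hG j hj).1 (hu j hji)

end Groth.Agent.LGLib
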