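import Groth.Agent.LGLib.Geometry

/-! Linked Grassmannians over a domain: dominance of the components and irreducibility. -/

set_option autoImplicit false
set_option backward.isDefEq.respectTransparency false
set_option backward.isDefEq.respectTransparency.types false
set_option linter.style.haveILetI false
set_option maxHeartbeats 1000000

universe u

open AlgebraicGeometry CategoryTheory TensorProduct Module Topology

namespace Groth.Agent.LGLib

open HilbDescLib GrassRepLib

theorem maximal_of_genericPoint {α : Type*} [TopologicalSpace α] [QuasiSober α] [T0Space α] {Z : Set α}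
    (hZ : Z ∈ irreducibleComponents α) {η : α} (hη : IsGenericPoint η Z) {z : α} (hz : z ⤳ η) : z = η := by
  have hle : Z ⊆ closure {z} := by
    rw [← hη.def]; exact closure_minimal (Set.singleton_subset_iff.2 (specializes_iff_mem_closure.1 hz)) isClosed_closure
  exact IsGenericPoint.eq (le_antisymm hle (hZ.2 isIrreducible_singleton.closure hle)).symm hη

variable {R : Type u} [CommRing R] [IsDomain R] {d r n : ℕ} {f g : Fin n → ((Fin d → R) →ₗ[R] (Fin d → R))}
  {s : R} {X : Over (Spec (CommRingCat.of R))}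

/-- Components of a linked Grassmannian over a domain lie over the generic point. -/
theorem asIdeal_genericPoint_component (hrd : r ≤ d) (hA : Axioms f g s) (P : Rep f g r X) {Z : Set X.left}
    (hZ : Z ∈ irreducibleComponents X.left) {η : X.left} (hη : IsGenericPoint η Z) :
    (X.hom η : PrimeSpectrum R).asIdeal = ⊥ := by
  obtain ⟨η', D, hη', hD, -⟩ := component_chart (P := P) (hrd := hrd) hA hZ
  obtain rfl := hη'.eq hη
  rw [← range_chartMor hA.comp D] at hD
  obtain ⟨q, hq⟩ := hD
  let q' : PrimeSpectrum (ChartAlg f g hrd D) := q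
  have hne : univDet f g hrd D ≠ 0 := by
    intro h0
    have hu : IsUnit (algebraMap (ParRing R d r) (ChartAlg f g hrd D) (univDet f g hrd D)) :=
      IsLocalization.Away.algebraMap_isUnit (univDet f g hrd D)
    have h0' := (congrArg (algebraMap (ParRing R d r) (ChartAlg f g hrd D)) h0).trans (map_zero _)
    rw [h0'] at hu
    exact q'.isPrime.ne_top (Ideal.eq_top_of_isUnit_mem _ (zero_mem _) hu)
  haveI : IsDomain (ChartAlg f g hrd D) :=
    IsLocalization.isDomain_localization (powers_le_nonZeroDivisors_of_noZeroDivisors hne)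
  let b : PrimeSpectrum (ChartAlg f g hrd D) := ⟨⊥, Ideal.isPrime_bot⟩
  have hsp : (b : (test (CommAlgCat.of R (ChartAlg f g hrd D))).left) ⤳ q :=
    (PrimeSpectrum.le_iff_specializes b q').1 bot_le
  have hb := maximal_of_genericPoint hZ hη' (hq ▸ hsp.map (chartMor hA.comp P hrd D).left.continuous)
  rw [← hb, ← Scheme.Hom.comp_apply, Over.w (chartMor hA.comp P hrd D)]
  show Ideal.comap (algebraMap R (ChartAlg f g hrd D)) ⊥ = ⊥
  refine Ideal.comap_bot_of_injective _ ?_
  rw [IsScalarTower.algebraMap_eq R (ParRing R d r) (ChartAlg f g hrd D)]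
  exact (IsLocalization.injective _ (powers_le_nonZeroDivisors_of_noZeroDivisors hne)).comp (MvPolynomial.C_injective _ _)

theorem image_component (hrd : r ≤ d) (hA : Axioms f g s) (P : Rep f g r X) {Z : Set X.left}
    (hZ : Z ∈ irreducibleComponents X.left) : X.hom.base '' Z = Set.univ := by
  obtain ⟨η, hη⟩ := QuasiSober.sober hZ.1 (isClosed_of_mem_irreducibleComponents Z hZ)
  haveI := isProper_of_lg P.e P.he
  have hcl : IsClosed (X.hom.base '' Z) := X.hom.isClosedMap _ (isClosed_of_mem_irreducibleComponents Z hZ)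
  refine Set.eq_univ_of_forall fun p => ?_
  refine Specializes.mem_closed ?_ hcl ⟨η, hη.mem, rfl⟩
  refine (PrimeSpectrum.le_iff_specializes (X.hom η : PrimeSpectrum R) p).1 ?_
  show (X.hom η : PrimeSpectrum R).asIdeal ≤ _
  rw [asIdeal_genericPoint_component hrd hA P hZ hη]
  exact bot_le

omit [IsDomain R] in
theorem injective_T0 (hA : Axioms f g s) {K : Type u} [Field K] [Algebra R K] (hs : algebraMap R K s ≠ 0) :
    ∀ j, j ≤ n → Function.Injective (T (seqM f K) (seqM g K) 0 j)
  | 0, _ => by simp [Function.injective_id]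
  | j + 1, hj => by
    rw [T_succ (Nat.zero_le j)]
    exact (injective_of_scalar hA hs (show j < n from hj)).1.comp (injective_T0 hA hs j (Nat.le_of_succ_le hj))

/-- All points where the scalar is invertible have a common generisation. -/
theorem exists_common_generisation (hrd : r ≤ d) (hA : Axioms f g s) (hs0 : s ≠ 0) (P : Rep f g r X) :
    ∃ ω : X.left, ∀ (K : Type u) [Field K] [Algebra R K] (x : APt X K), algebraMap R K s ≠ 0 → ω ⤳ pointOf x := by
  classical
  have hq := Nat.add_sub_cancel' hrd
  let σ := (finSumFinEquiv.trans (finCongr hq))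
  let Pol : Type u := MvPolynomial (Fin d × (Fin r ⊕ Fin (d - r))) R
  let v₀ : Fin r ⊕ Fin (d - r) → Mo R Pol d := fun i => ∑ l, (MvPolynomial.X (l, i) : Pol) • stdGen R Pol l
  have hev : ∀ (K : Type u) [Field K] [Algebra R K] (c : Fin r ⊕ Fin (d - r) → Mo R K d) (i : Fin r ⊕ Fin (d - r)),
      ext (MvPolynomial.aeval (R := R) fun p : Fin d × (Fin r ⊕ Fin (d - r)) => (stdBasis R d K).repr (c p.2) p.1) (v₀ i)
        = c i := by
    intro K _ _ c i
    simp only [v₀, map_sum, ext, ext₁_smul, ext₁_stdGen, MvPolynomial.aeval_X]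
    conv_rhs => rw [← (stdBasis R d K).sum_repr (c i)]
    refine Finset.sum_congr rfl fun l _ => congrArg _ ?_
    rw [stdBasis_apply]
    exact ext₁_stdGen _ l
  let h₀ : Pol := MvPolynomial.C s * dt hq v₀
  have hne : h₀ ≠ 0 := by
    intro h
    let K := FractionRing R
    let c : Fin r ⊕ Fin (d - r) → Mo R K d := fun i => stdGen R K (σ i)
    let ev : Pol →ₐ[R] K := MvPolynomial.aeval fun p => (stdBasis R d K).repr (c p.2) p.1
    have h1 := congrArg ev h
    rw [map_mul, map_zero, ← dt_ext, show ext ev ∘ v₀ = c from funext (hev K c),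
      MvPolynomial.aeval_C, mul_eq_zero] at h1
    rcases h1 with h1 | h1
    · exact hs0 (IsFractionRing.injective R K (by rw [map_zero]; exact h1))
    · refine one_ne_zero (α := K) ?_
      rw [← h1, dt, show (fun j => c ((finSumFinEquiv.trans (finCongr hq)).symm j)) = stdBasis R d K from
        funext fun j => by simp [c, σ, stdBasis_apply], Basis.det_self]
  let A := Localization.Away h₀
  let toA : Pol →ₐ[R] A := IsScalarTower.toAlgHom R Pol A
  haveI : IsDomain A := IsLocalization.isDomain_localization (powers_le_nonZeroDivisors_of_noZeroDivisors hne)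
  have hu₀ : IsUnit (algebraMap Pol A h₀) := IsLocalization.Away.algebraMap_isUnit h₀
  have hsA : IsUnit (algebraMap R A s) := by
    rw [IsScalarTower.algebraMap_apply R Pol A]
    exact isUnit_of_dvd_unit (map_dvd _ (dvd_mul_right _ _)) hu₀
  let fam : Fin (n + 1) → Fin r ⊕ Fin (d - r) → Mo R A d := fun j i => T (seqM f A) (seqM g A) 0 j (ext toA (v₀ i))
  have hu : ∀ j, IsUnit (dt hq (fam j)) := by
    intro j
    by_contra hnu
    obtain ⟨m, hm, hmem⟩ := exists_max_ideal_of_mem_nonunits (a := dt hq (fam j)) hnu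
    letI : Field (A ⧸ m) := Ideal.Quotient.field m
    let φ : A →ₐ[R] A ⧸ m := Ideal.Quotient.mkₐ R m
    have h0 : φ (dt hq (fam j)) = 0 := Ideal.Quotient.eq_zero_iff_mem.2 hmem
    have hs1 : algebraMap R (A ⧸ m) s ≠ 0 := by
      rw [← φ.commutes]; exact (hsA.map φ).ne_zero
    have hb : IsUnit (dt hq (ext φ ∘ (ext toA ∘ v₀))) := by
      rw [dt_ext, dt_ext]
      exact (isUnit_of_dvd_unit (map_dvd _ (dvd_mul_left _ _)) hu₀ : IsUnit (toA (dt hq v₀))).map φ
    have hli : LinearIndependent (A ⧸ m) (ext φ ∘ fam j) := by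
      rw [show ext φ ∘ fam j = T (seqM f (A ⧸ m)) (seqM g (A ⧸ m)) 0 j ∘ (ext φ ∘ (ext toA ∘ v₀)) from
        funext fun i => ext_T f g φ 0 j _]
      exact ((isUnit_dt_iff hq _).1 hb).1.map' _ (LinearMap.ker_eq_bot.2 (injective_T0 hA hs1 j (by omega)))
    have := (isUnit_dt_iff hq _).2 ⟨hli, span_eq_top_of_li hli (by
      rw [finrank_Mo, Fintype.card_sum, Fintype.card_fin, Fintype.card_fin, hq])⟩
    rw [dt_ext, h0] at this
    exact not_isUnit_zero this
  let W : Fin (n + 1) → Grassmannian A (Mo R A d) (d - r) := fun j => ofFam (hu j)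
  have hWt : ∀ j : Fin (n + 1), (W j).toSubmodule =
      tspan (seqM f A) (seqM g A) (fun _ : Fin r => 0) (fun a => ext toA (v₀ (.inl a))) j := fun j => rfl
  have hW : W ∈ W4c1limliniiii.LGPoints R d r n f g A := by
    intro i
    refine ⟨?_, ?_⟩
    · rw [hWt, hWt, ← seqM_lt f i.2, Fin.val_castSucc, Fin.val_succ]
      exact map_tspan_F _ _ (fun _ => Nat.zero_le n) (seqM_comp fun i => (hA.comp i).1)
    · rw [hWt, hWt, ← seqM_lt g i.2, Fin.val_castSucc, Fin.val_succ]
      exact map_tspan_G _ _ (fun h => seqM_ge g h) (seqM_comp fun i => (hA.comp i).2)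
  obtain ⟨w, hw⟩ := P.exists_pt hW
  refine ⟨w.left (⟨⊥, Ideal.isPrime_bot⟩ : PrimeSpectrum A), fun K _ _ x hsK => ?_⟩
  obtain ⟨b, hb, hbS⟩ := exists_basis_fam (seqV (P.tup x) 0)
  have hr : finrank K (seqV (P.tup x) 0) = r := finrank_tup hrd _ (Nat.zero_le n)
  obtain ⟨m', wc, hwc, hm⟩ := exists_completion b hb
  rw [finrank_Mo] at hm
  have hm' : m' = d - r := by omega
  let c : Fin r ⊕ Fin (d - r) → Mo R K d := Sum.elim (b ∘ Fin.cast hr.symm) (wc ∘ Fin.cast hm'.symm)
  let ev : Pol →ₐ[R] K := MvPolynomial.aeval fun p => (stdBasis R d K).repr (c p.2) p.1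
  have hdc : IsUnit (dt hq c) := by
    have hli : LinearIndependent K c := by
      have := hwc.comp (Sum.map (Fin.cast hr.symm) (Fin.cast hm'.symm))
        ((Fin.cast_injective _).sumMap (Fin.cast_injective _))
      rwa [Sum.elim_comp_map] at this
    refine (isUnit_dt_iff _ _).2 ⟨hli, span_eq_top_of_li hli ?_⟩
    rw [finrank_Mo, Fintype.card_sum, Fintype.card_fin, Fintype.card_fin, hq]
  have hevu : IsUnit (ev h₀) := by
    rw [map_mul, MvPolynomial.aeval_C, ← dt_ext, show ext ev ∘ v₀ = c from funext (hev K c)]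
    exact (isUnit_iff_ne_zero.2 hsK).mul hdc
  let π : A →ₐ[R] K := awayLift ev h₀ hevu
  have hπ : π.comp toA = ev := awayLift_comp _ _ _
  have hx : x = pushA π w := P.tup_injective (by
    rw [P.tup_push, hw]
    refine funext fun j => Eq.symm ?_
    have h : IsUnit (dt hq (ext π ∘ fam j)) := by rw [dt_ext]; exact (hu j).map π
    rw [mapTup, map_ofFam _ π h]
    refine ofFam_eq_of_le h _ fun a => ?_
    show ext π (T (seqM f A) (seqM g A) 0 j (ext toA (v₀ (.inl a)))) ∈ _
    rw [ext_T, ← seqV_fin]
    refine T_mem (stable_seqV (P.tup_mem x)) ?_ _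
    rw [ext, ext, ext₁_comp, hπ, show ext₁ (Fin d → R) ev (v₀ (.inl a)) = c (.inl a) from hev K c _, ← hbS]
    exact Submodule.subset_span ⟨Fin.cast hr.symm a, rfl⟩)
  rw [congrArg pointOf hx, pointOf_pushA]
  exact Specializes.map ((PrimeSpectrum.le_iff_specializes _ _).1 bot_le) w.left.continuous

theorem irreducibleSpace_of_ne_zero (hrd : r ≤ d) (hA : Axioms f g s) (hs0 : s ≠ 0) (P : Rep f g r X) :
    IrreducibleSpace X.left := by
  obtain ⟨ω, hω⟩ := exists_common_generisation hrd hA hs0 P
  have hgen : ∀ y : X.left, ω ⤳ y := by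
    intro y
    obtain ⟨η, hη⟩ := QuasiSober.sober (irreducibleComponent_mem_irreducibleComponents y).1
      (isClosed_of_mem_irreducibleComponents _ (irreducibleComponent_mem_irreducibleComponents y))
    refine Specializes.trans ?_ (hη.specializes mem_irreducibleComponent)
    obtain ⟨K, _, _, x, rfl, -⟩ := exists_resPt η
    refine hω K x fun h0 => hs0 ?_
    have h := asIdeal_genericPoint_component hrd hA P (irreducibleComponent_mem_irreducibleComponents y) hη
    have hbase : (X.hom (pointOf x) : PrimeSpectrum R).asIdeal = RingHom.ker (algebraMap R K) := by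
      rw [pointOf, ← Scheme.Hom.comp_apply, Over.w x]
      show Ideal.comap (algebraMap R K) (IsLocalRing.maximalIdeal K) = _
      rw [IsLocalRing.maximalIdeal_eq_bot]
      rfl
    have hmem : s ∈ (X.hom (pointOf x) : PrimeSpectrum R).asIdeal := by rw [hbase]; exact h0
    rwa [h, Ideal.mem_bot] at hmem
  have huniv : closure ({ω} : Set X.left) = Set.univ :=
    Set.eq_univ_of_forall fun y => specializes_iff_mem_closure.1 (hgen y)
  exact { toPreirreducibleSpace := ⟨huniv ▸ isIrreducible_singleton.closure.2⟩, toNonempty := ⟨ω⟩ }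

end Groth.Agent.LGLib
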