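import Mathlib

/-! Transport maps along a chain of modules linked by maps in both directions. -/

set_option autoImplicit false

namespace Groth.Agent.LGLib

variable {A M : Type*} [CommRing A] [AddCommGroup M] [Module A M]
variable (F G : ℕ → M →ₗ[A] M)

/-- Forward transport. -/
def up (i : ℕ) : ℕ → M →ₗ[A] M
  | 0 => LinearMap.id
  | m + 1 => F (i + m) ∘ₗ up i m

/-- Backward transport. -/
def dn : ℕ → ℕ → M →ₗ[A] M
  | _, 0 => LinearMap.id
  | j, m + 1 => G j ∘ₗ dn (j + 1) m

/-- Transport from the `i`-th member to the `j`-th. -/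
def T (i j : ℕ) : M →ₗ[A] M := if i ≤ j then up F i (j - i) else dn G j (i - j)

variable {F G}

@[simp] theorem T_self (i : ℕ) : T F G i i = LinearMap.id := by simp [T, up]

theorem T_succ {i j : ℕ} (h : i ≤ j) : T F G i (j + 1) = F j ∘ₗ T F G i j := by
  rw [T, if_pos (by omega), T, if_pos h, show j + 1 - i = (j - i) + 1 by omega, up, show i + (j - i) = j by omega]

theorem T_pred {i j : ℕ} (h : j < i) : T F G i j = G j ∘ₗ T F G i (j + 1) := by
  rw [T, if_neg (by omega), show i - j = (i - (j + 1)) + 1 by omega, dn]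
  rcases eq_or_lt_of_le (show j + 1 ≤ i by omega) with h' | h'
  · subst h'; simp [T, up, dn]
  · rw [T, if_neg (by omega)]

/-- Stability of a sequence of submodules. -/
structure Stable (F G : ℕ → M →ₗ[A] M) (V : ℕ → Submodule A M) : Prop where
  mapF : ∀ i, (V i).map (F i) ≤ V (i + 1)
  mapG : ∀ i, (V (i + 1)).map (G i) ≤ V i

theorem up_mem {V : ℕ → Submodule A M} (hV : Stable F G V) {i : ℕ} {x : M} (hx : x ∈ V i) :
    ∀ m, up F i m x ∈ V (i + m)
  | 0 => by simpa [up] using hx
  | m + 1 => hV.mapF (i + m) ⟨_, up_mem hV hx m, rfl⟩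

theorem dn_mem {V : ℕ → Submodule A M} (hV : Stable F G V) :
    ∀ (m j : ℕ) {x : M}, x ∈ V (j + m) → dn G j m x ∈ V j
  | 0, j, x, hx => by simpa [dn] using hx
  | m + 1, j, x, hx => hV.mapG j ⟨_, dn_mem hV m (j + 1) (by rwa [add_right_comm]), rfl⟩

theorem T_mem {V : ℕ → Submodule A M} (hV : Stable F G V) {i : ℕ} {x : M} (hx : x ∈ V i) (j : ℕ) :
    T F G i j x ∈ V j := by
  rw [T]
  split
  · have := up_mem hV hx (j - i)
    rwa [show i + (j - i) = j by omega] at this
  · exact dn_mem hV (i - j) j (by rwa [show j + (i - j) = i by omega])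

variable {κ : Type*} (F G) (src : κ → ℕ) (v : κ → M)

/-- The span of the transports to the `j`-th member. -/
def tspan (j : ℕ) : Submodule A M := Submodule.span A (Set.range fun a => T F G (src a) j (v a))

variable {F G} {s : A} {n : ℕ}

/-- Transports of any vectors span linked submodules. -/
theorem map_tspan_F {j : ℕ} (hsrc : ∀ a, src a ≤ n) (hFG : ∀ i < n, F i ∘ₗ G i = s • LinearMap.id) :
    (tspan F G src v j).map (F j) ≤ tspan F G src v (j + 1) := by
  rw [tspan, Submodule.map_span_le]
  rintro _ ⟨a, rfl⟩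
  have hm : T F G (src a) (j + 1) (v a) ∈ tspan F G src v (j + 1) := Submodule.subset_span ⟨a, rfl⟩
  rcases le_or_gt (src a) j with h | h
  · rwa [T_succ h] at hm
  · show F j (T F G (src a) j (v a)) ∈ _
    rw [T_pred h, LinearMap.comp_apply, ← LinearMap.comp_apply (F j) (G j), hFG j (by have := hsrc a; omega),
      LinearMap.smul_apply, LinearMap.id_apply]
    exact Submodule.smul_mem _ _ hm

theorem map_tspan_G {j : ℕ} (hjn : n ≤ j → G j = 0) (hGF : ∀ i < n, G i ∘ₗ F i = s • LinearMap.id) :
    (tspan F G src v (j + 1)).map (G j) ≤ tspan F G src v j := by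
  rw [tspan, Submodule.map_span_le]
  rintro _ ⟨a, rfl⟩
  have hm : T F G (src a) j (v a) ∈ tspan F G src v j := Submodule.subset_span ⟨a, rfl⟩
  rcases le_or_gt (src a) j with h | h
  · show G j (T F G (src a) (j + 1) (v a)) ∈ _
    by_cases hn : n ≤ j
    · rw [hjn hn]; exact zero_mem _
    · rw [T_succ h, LinearMap.comp_apply, ← LinearMap.comp_apply (G j) (F j), hGF j (by omega),
        LinearMap.smul_apply, LinearMap.id_apply]
      exact Submodule.smul_mem _ _ hm
  · rwa [T_pred h] at hm

section natural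

variable {B M' : Type*} [CommRing B] [AddCommGroup M'] [Module B M'] {F' G' : ℕ → M' →ₗ[B] M'}

theorem T_natural (ξ : M → M') (hF : ∀ i x, ξ (F i x) = F' i (ξ x)) (hG : ∀ i x, ξ (G i x) = G' i (ξ x))
    (i j : ℕ) (x : M) : ξ (T F G i j x) = T F' G' i j (ξ x) := by
  have hu : ∀ m, ξ (up F i m x) = up F' i m (ξ x) := by
    intro m
    induction m with
    | zero => rfl
    | succ m ih => simp only [up, LinearMap.comp_apply, hF, ih]
  have hd : ∀ m j, ξ (dn G j m x) = dn G' j m (ξ x) := by
    intro m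
    induction m with
    | zero => intro j; rfl
    | succ m ih => intro j; simp only [dn, LinearMap.comp_apply, hG, ih]
  unfold T
  split
  · exact hu _
  · exact hd _ _

end natural

end Groth.Agent.LGLib
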