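import Mathlib
import Groth.Agent.GrassRepLib.Free
import Groth.Agent.LGLib.Transport
import Groth.Prelude.Def_W4c1limliniiiiLG

/-! Points of Grassmannians given by completed families of vectors, and base change of linked tuples. -/

set_option autoImplicit false
set_option backward.isDefEq.respectTransparency false
set_option backward.isDefEq.respectTransparency.types false
set_option linter.style.haveILetI false
set_option maxHeartbeats 800000

universe u

open TensorProduct Module

namespace Groth.Agent.LGLib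

open GrassRepLib

variable {R : Type u} [CommRing R] {d r q : ℕ}

/-- The ambient free module. -/
abbrev Mo (R : Type u) [CommRing R] (A : Type u) [CommRing A] [Algebra R A] (d : ℕ) : Type u := A ⊗[R] (Fin d → R)

variable {A B : Type u} [CommRing A] [Algebra R A] [CommRing B] [Algebra R B]

/-- Extension of scalars of elements. -/
noncomputable abbrev ext (φ : A →ₐ[R] B) : Mo R A d →ₗ[R] Mo R B d := ext₁ (Fin d → R) φ

theorem repr_ext (φ : A →ₐ[R] B) (x : Mo R A d) (j : Fin d) :
    (stdBasis R d B).repr (ext φ x) j = φ ((stdBasis R d A).repr x j) := by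
  classical
  conv_lhs => rw [← (stdBasis R d A).sum_repr x]
  rw [map_sum]
  simp only [ext, ext₁_smul, stdBasis_apply, ext₁_stdGen]
  rw [← funext (stdBasis_apply (R := R) (n := d) (A := B))]
  exact congrFun (Basis.repr_sum_self (stdBasis R d B) fun i => φ ((stdBasis R d A).repr x i)) j

/-- The determinant of a completed family. -/
noncomputable def dt (hq : r + q = d) (v : Fin r ⊕ Fin q → Mo R A d) : A :=
  (stdBasis R d A).det fun j => v ((finSumFinEquiv.trans (finCongr hq)).symm j)

theorem dt_ext (hq : r + q = d) (φ : A →ₐ[R] B) (v : Fin r ⊕ Fin q → Mo R A d) :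
    dt hq (ext φ ∘ v) = φ (dt hq v) := by
  rw [dt, dt, Basis.det_apply, Basis.det_apply, AlgHom.map_det]
  congr 1
  ext a b
  simp [Basis.toMatrix_apply, repr_ext]

theorem isUnit_dt_iff (hq : r + q = d) (v : Fin r ⊕ Fin q → Mo R A d) :
    IsUnit (dt hq v) ↔ LinearIndependent A v ∧ Submodule.span A (Set.range v) = ⊤ := by
  let e := finSumFinEquiv.trans (finCongr hq)
  rw [dt, ← Basis.is_basis_iff_det, ← linearIndependent_equiv e.symm (f := v)]
  refine and_congr Iff.rfl ?_
  rw [show (fun j => v (e.symm j)) = v ∘ e.symm from rfl, EquivLike.range_comp]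

/-- The basis of a completed family. -/
noncomputable def famBasis {hq : r + q = d} {v : Fin r ⊕ Fin q → Mo R A d} (h : IsUnit (dt hq v)) :
    Basis (Fin r ⊕ Fin q) A (Mo R A d) :=
  Basis.mk ((isUnit_dt_iff hq v).1 h).1 ((isUnit_dt_iff hq v).1 h).2.ge

theorem famBasis_apply {hq : r + q = d} {v : Fin r ⊕ Fin q → Mo R A d} (h : IsUnit (dt hq v)) (i : Fin r ⊕ Fin q) :
    famBasis h i = v i := Basis.mk_apply _ _ i

/-- The coordinates along the completing vectors. -/
noncomputable def famProj {hq : r + q = d} {v : Fin r ⊕ Fin q → Mo R A d} (h : IsUnit (dt hq v)) :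
    Mo R A d →ₗ[A] (Fin q → A) := (famBasis h).constr A (Sum.elim (fun _ => 0) fun b => Pi.single b 1)

theorem famProj_inl {hq : r + q = d} {v : Fin r ⊕ Fin q → Mo R A d} (h : IsUnit (dt hq v)) (a : Fin r) :
    famProj h (v (.inl a)) = 0 := by
  rw [famProj, ← famBasis_apply h, Basis.constr_basis]; rfl

theorem famProj_inr {hq : r + q = d} {v : Fin r ⊕ Fin q → Mo R A d} (h : IsUnit (dt hq v)) (b : Fin q) :
    famProj h (v (.inr b)) = Pi.single b 1 := by
  rw [famProj, ← famBasis_apply h, Basis.constr_basis]; rfl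

theorem famProj_surjective {hq : r + q = d} {v : Fin r ⊕ Fin q → Mo R A d} (h : IsUnit (dt hq v)) :
    Function.Surjective (famProj h) := fun w =>
  ⟨∑ b, w b • v (.inr b), by
    rw [map_sum]
    simp only [map_smul, famProj_inr]
    exact (pi_eq_sum_univ' w).symm⟩

theorem ker_famProj {hq : r + q = d} {v : Fin r ⊕ Fin q → Mo R A d} (h : IsUnit (dt hq v)) :
    LinearMap.ker (famProj h) = Submodule.span A (Set.range (v ∘ Sum.inl)) := by
  refine le_antisymm (fun x hx => ?_) (Submodule.span_le.2 ?_)
  · have hs := (famBasis h).sum_repr x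
    rw [Fintype.sum_sum_type] at hs
    have h0 : ∀ b, (famBasis h).repr x (.inr b) = 0 := fun b => by
      have := congrArg (famProj h) hs
      rw [LinearMap.mem_ker.1 hx, map_add, map_sum, map_sum] at this
      simp only [map_smul, famBasis_apply, famProj_inl, famProj_inr, smul_zero, Finset.sum_const_zero, zero_add] at this
      have h' := congrFun this b
      simpa [Finset.sum_apply, Pi.single_apply] using h'
    rw [← hs]
    refine Submodule.add_mem _ (Submodule.sum_mem _ fun a _ => ?_) (Submodule.sum_mem _ fun b _ => ?_)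
    · exact Submodule.smul_mem _ _ (Submodule.subset_span ⟨a, (famBasis_apply h _).symm⟩)
    · rw [h0 b, zero_smul]; exact zero_mem _
  · rintro _ ⟨a, rfl⟩
    exact famProj_inl h a

/-- The point spanned by the first part of a completed family. -/
noncomputable def ofFam {hq : r + q = d} {v : Fin r ⊕ Fin q → Mo R A d} (h : IsUnit (dt hq v)) :
    Grassmannian A (Mo R A d) q :=
  let e : (Mo R A d ⧸ Submodule.span A (Set.range (v ∘ Sum.inl))) ≃ₗ[A] (Fin q → A) :=
    (Submodule.quotEquivOfEq _ _ (ker_famProj h).symm).trans ((famProj h).quotKerEquivOfSurjective (famProj_surjective h))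
  { toSubmodule := Submodule.span A (Set.range (v ∘ Sum.inl))
    finite_quotient := Module.Finite.equiv e.symm
    projective_quotient := Module.Projective.of_equiv e.symm
    rankAtStalk_eq := fun p => by
      haveI : Nontrivial A := p.nontrivial
      rw [congrFun (Module.rankAtStalk_eq_of_equiv e) p, Module.rankAtStalk_eq_finrank_of_free]
      simp }

theorem ofFam_eq_of_le {hq : r + q = d} {v : Fin r ⊕ Fin q → Mo R A d} (h : IsUnit (dt hq v))
    (N : Grassmannian A (Mo R A d) q) (hle : ∀ a, v (.inl a) ∈ N.toSubmodule) : ofFam h = N := by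
  refine Grassmannian.ext (le_antisymm (Submodule.span_le.2 (by rintro _ ⟨a, rfl⟩; exact hle a)) ?_)
  let φ : (Fin q → A) →ₗ[A] Mo R A d ⧸ N.toSubmodule := N.toSubmodule.mkQ ∘ₗ Fintype.linearCombination A fun b => v (.inr b)
  have hdec : ∀ x : Mo R A d, N.toSubmodule.mkQ x = φ (famProj h x) := by
    intro x
    suffices H : N.toSubmodule.mkQ = φ ∘ₗ famProj h from LinearMap.congr_fun H x
    refine (famBasis h).ext fun i => ?_
    rw [famBasis_apply]
    rcases i with a | b
    · rw [LinearMap.comp_apply, famProj_inl, map_zero]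
      exact (Submodule.Quotient.mk_eq_zero _).2 (hle a)
    · rw [LinearMap.comp_apply, famProj_inr, LinearMap.comp_apply, Fintype.linearCombination_apply_single, one_smul]
  have hinj : Function.Injective φ := injective_of_surjective_rank N.rankAtStalk_eq φ fun z => by
    obtain ⟨x, rfl⟩ := N.toSubmodule.mkQ_surjective z
    exact ⟨famProj h x, (hdec x).symm⟩
  intro x hx
  show x ∈ Submodule.span A (Set.range (v ∘ Sum.inl))
  rw [← ker_famProj h, LinearMap.mem_ker]
  refine hinj ?_
  rw [← hdec, map_zero]
  exact (Submodule.Quotient.mk_eq_zero _).2 hx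

theorem map_ofFam {hq : r + q = d} {v : Fin r ⊕ Fin q → Mo R A d} (h : IsUnit (dt hq v)) (φ : A →ₐ[R] B)
    (h' : IsUnit (dt hq (ext φ ∘ v))) : Grassmannian.map φ (ofFam h) = ofFam h' :=
  (ofFam_eq_of_le h' _ fun a => ext₁_mem_map φ _
    (show v (.inl a) ∈ Submodule.span A (Set.range (v ∘ Sum.inl)) from Submodule.subset_span ⟨a, rfl⟩)).symm

theorem map_toSubmodule_eq_span (φ : A →ₐ[R] B) (N : Grassmannian A (Mo R A d) q) :
    (Grassmannian.map φ N).toSubmodule = Submodule.span B (ext φ '' (N.toSubmodule : Set (Mo R A d))) := by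
  refine le_antisymm ?_ (Submodule.span_le.2 ?_)
  · letI : Algebra A B := φ.toAlgebra
    haveI : IsScalarTower R A B := IsScalarTower.of_algebraMap_eq' φ.comp_algebraMap.symm
    intro x hx
    rw [Grassmannian.map_toSubmodule] at hx
    have hex : Function.Exact (N.toSubmodule.subtype.lTensor B) (N.toSubmodule.mkQ.lTensor B) :=
      lTensor_exact B (LinearMap.exact_subtype_mkQ _) N.toSubmodule.mkQ_surjective
    obtain ⟨y, hy⟩ := (hex ((AlgebraTensorModule.cancelBaseChange R A B B (Fin d → R)).symm x)).1 hx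
    have hx' : x = AlgebraTensorModule.cancelBaseChange R A B B (Fin d → R) (N.toSubmodule.subtype.lTensor B y) := by
      rw [hy, LinearEquiv.apply_symm_apply]
    rw [hx']
    clear hx' hy hx
    induction y using TensorProduct.induction_on with
    | zero => simp
    | add y w hy hw => rw [map_add, map_add]; exact Submodule.add_mem _ hy hw
    | tmul c z =>
      have hcz : ∀ w : Mo R A d,
          AlgebraTensorModule.cancelBaseChange R A B B (Fin d → R) (c ⊗ₜ[A] w) = c • ext φ w := by
        intro w
        induction w using TensorProduct.induction_on with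
        | zero => simp
        | tmul a m =>
          simp only [AlgebraTensorModule.cancelBaseChange_tmul, ext, ext₁_tmul, TensorProduct.smul_tmul', smul_eq_mul,
            Algebra.smul_def]
          rw [mul_comm c]
          rfl
        | add y w hy hw => rw [TensorProduct.tmul_add, map_add, map_add, smul_add, hy, hw]
      rw [LinearMap.lTensor_tmul, hcz]
      exact Submodule.smul_mem _ _ (Submodule.subset_span ⟨_, z.2, rfl⟩)
  · rintro _ ⟨x, hx, rfl⟩
    exact ext₁_mem_map φ N hx

/-! ### linked tuples -/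

variable {n : ℕ}

/-- The base change of the maps as a sequence. -/
noncomputable def seqM (f : Fin n → ((Fin d → R) →ₗ[R] (Fin d → R))) (A : Type u) [CommRing A] [Algebra R A] :
    ℕ → Mo R A d →ₗ[A] Mo R A d :=
  fun i => if h : i < n then (f ⟨i, h⟩).baseChange A else 0

theorem seqM_lt (f : Fin n → ((Fin d → R) →ₗ[R] (Fin d → R))) {i : ℕ} (h : i < n) :
    seqM f A i = (f ⟨i, h⟩).baseChange A := dif_pos h

theorem seqM_ge (f : Fin n → ((Fin d → R) →ₗ[R] (Fin d → R))) {i : ℕ} (h : n ≤ i) :
    seqM f A i = 0 := dif_neg (by omega)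

theorem ext_baseChange (φ : A →ₐ[R] B) (g : (Fin d → R) →ₗ[R] (Fin d → R)) (x : Mo R A d) :
    ext φ (g.baseChange A x) = g.baseChange B (ext φ x) := by
  induction x using TensorProduct.induction_on with
  | zero => simp
  | tmul a m => simp [ext, ext₁_tmul]
  | add x y hx hy => simp only [map_add, hx, hy]

theorem ext_seqM (f : Fin n → ((Fin d → R) →ₗ[R] (Fin d → R))) (φ : A →ₐ[R] B) (i : ℕ) (x : Mo R A d) :
    ext φ (seqM f A i x) = seqM f B i (ext φ x) := by
  by_cases h : i < n
  · rw [seqM_lt f h, seqM_lt f h, ext_baseChange]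
  · rw [seqM_ge f (by omega), seqM_ge f (by omega)]; simp

theorem ext_T (f g : Fin n → ((Fin d → R) →ₗ[R] (Fin d → R))) (φ : A →ₐ[R] B) (i j : ℕ) (x : Mo R A d) :
    ext φ (T (seqM f A) (seqM g A) i j x) = T (seqM f B) (seqM g B) i j (ext φ x) :=
  T_natural _ (ext_seqM f φ) (ext_seqM g φ) i j x

theorem seqM_comp {f g : Fin n → ((Fin d → R) →ₗ[R] (Fin d → R))} {s : R}
    (h : ∀ i, (f i).comp (g i) = s • LinearMap.id) :
    ∀ i < n, seqM f A i ∘ₗ seqM g A i = algebraMap R A s • LinearMap.id := by
  intro i hi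
  rw [seqM_lt f hi, seqM_lt g hi, ← LinearMap.baseChange_comp, h]
  refine LinearMap.ext fun x => ?_
  rw [LinearMap.baseChange_smul, LinearMap.baseChange_id, LinearMap.smul_apply, LinearMap.smul_apply]
  exact (algebraMap_smul A s x).symm

/-- A tuple as a sequence of submodules. -/
noncomputable def seqV (V : Fin (n + 1) → Grassmannian A (Mo R A d) q) : ℕ → Submodule A (Mo R A d) :=
  fun i => if h : i < n + 1 then (V ⟨i, h⟩).toSubmodule else ⊥

theorem seqV_fin (V : Fin (n + 1) → Grassmannian A (Mo R A d) q) (i : Fin (n + 1)) :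
    seqV V i = (V i).toSubmodule := dif_pos i.2

theorem seqV_le (V : Fin (n + 1) → Grassmannian A (Mo R A d) q) {i : ℕ} (hi : i ≤ n) :
    seqV V i = (V ⟨i, by omega⟩).toSubmodule := dif_pos _

/-- The base change of a tuple. -/
noncomputable def mapTup (φ : A →ₐ[R] B) (V : Fin (n + 1) → Grassmannian A (Mo R A d) q) :
    Fin (n + 1) → Grassmannian B (Mo R B d) q := fun i => Grassmannian.map φ (V i)

theorem mapTup_comp {C : Type u} [CommRing C] [Algebra R C] (φ : A →ₐ[R] B) (ψ : B →ₐ[R] C)
    (V : Fin (n + 1) → Grassmannian A (Mo R A d) q) : mapTup ψ (mapTup φ V) = mapTup (ψ.comp φ) V :=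
  funext fun i => (Grassmannian.map_comp _ φ ψ (V i)).symm

theorem mapTup_id (V : Fin (n + 1) → Grassmannian A (Mo R A d) q) : mapTup (AlgHom.id R A) V = V :=
  funext fun i => Grassmannian.map_id _ (CommAlgCat.of R A) (V i)

theorem stable_seqV {f g : Fin n → ((Fin d → R) →ₗ[R] (Fin d → R))}
    {V : Fin (n + 1) → Grassmannian A (Mo R A d) (d - r)} (hV : V ∈ W4c1limliniiii.LGPoints R d r n f g A) :
    Stable (seqM f A) (seqM g A) (seqV V) where
  mapF i := by
    by_cases h : i < n
    · rw [seqM_lt f h, seqV_le V h.le, seqV_le V (show i + 1 ≤ n from h)]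
      exact (hV ⟨i, h⟩).1
    · rw [seqM_ge f (by omega), Submodule.map_zero]; exact bot_le
  mapG i := by
    by_cases h : i < n
    · rw [seqM_lt g h, seqV_le V h.le, seqV_le V (show i + 1 ≤ n from h)]
      exact (hV ⟨i, h⟩).2
    · rw [seqM_ge g (by omega), Submodule.map_zero]; exact bot_le

theorem map_mem_LGPoints {f g : Fin n → ((Fin d → R) →ₗ[R] (Fin d → R))}
    {V : Fin (n + 1) → Grassmannian A (Mo R A d) (d - r)} (hV : V ∈ W4c1limliniiii.LGPoints R d r n f g A)
    (φ : A →ₐ[R] B) : mapTup φ V ∈ W4c1limliniiii.LGPoints R d r n f g B := by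
  intro i
  have key : ∀ (h : (Fin d → R) →ₗ[R] (Fin d → R)) (P Q : Grassmannian A (Mo R A d) (d - r)),
      Submodule.map (h.baseChange A) P.toSubmodule ≤ Q.toSubmodule →
      Submodule.map (h.baseChange B) (Grassmannian.map φ P).toSubmodule ≤ (Grassmannian.map φ Q).toSubmodule := by
    intro h P Q hle
    rw [map_toSubmodule_eq_span φ P, Submodule.map_span_le]
    rintro _ ⟨x, hx, rfl⟩
    rw [← ext_baseChange]
    exact ext₁_mem_map φ Q (hle ⟨x, hx, rfl⟩)
  exact ⟨key _ _ _ (hV i).1, key _ _ _ (hV i).2⟩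

end Groth.Agent.LGLib
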