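import Groth.Agent.LGLib.Family
import Groth.Agent.LGLib.Chain

/-! Ranks and chain axioms under extensions of the ground field. -/

set_option autoImplicit false
set_option backward.isDefEq.respectTransparency false
set_option backward.isDefEq.respectTransparency.types false
set_option linter.style.haveILetI false
set_option maxHeartbeats 800000

universe u

open TensorProduct Module

namespace Groth.Agent.LGLib

open GrassRepLib

variable {R : Type u} [CommRing R] {d n : ℕ} {K L : Type u} [Field K] [Algebra R K] [Field L] [Algebra R L]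

theorem finrank_Mo (K : Type u) [Field K] [Algebra R K] : finrank K (Mo R K d) = d := by
  rw [Module.finrank_eq_card_basis (stdBasis R d K), Fintype.card_fin]

instance finite_Mo (A : Type u) [CommRing A] [Algebra R A] : Module.Finite A (Mo R A d) :=
  Module.Finite.of_basis (stdBasis R d A)

section generic

variable {K M : Type*} [Field K] [AddCommGroup M] [Module K M] [FiniteDimensional K M]

theorem exists_completion {m : ℕ} (v : Fin m → M) (hv : LinearIndependent K v) :
    ∃ (m' : ℕ) (w : Fin m' → M), LinearIndependent K (Sum.elim v w) ∧ m + m' = finrank K M := by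
  obtain ⟨W, hW⟩ := Submodule.exists_isCompl (Submodule.span K (Set.range v))
  have hdim := Submodule.finrank_add_eq_of_isCompl hW
  rw [finrank_span_eq_card hv, Fintype.card_fin] at hdim
  let bW := finBasisOfFinrankEq K W (rfl : finrank K W = finrank K W)
  refine ⟨finrank K W, fun a => (bW a : M), hv.sum_type (bW.linearIndependent.map' W.subtype W.ker_subtype) ?_, hdim⟩
  refine hW.disjoint.mono_right (Submodule.span_le.2 ?_)
  rintro _ ⟨a, rfl⟩
  exact (bW a).2

theorem exists_basis_fam (S : Submodule K M) :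
    ∃ v : Fin (finrank K S) → M, LinearIndependent K v ∧ Submodule.span K (Set.range v) = S := by
  let b := finBasisOfFinrankEq K S (rfl : finrank K S = finrank K S)
  refine ⟨fun a => S.subtype (b a), b.linearIndependent.map' S.subtype S.ker_subtype, ?_⟩
  rw [show (fun a => S.subtype (b a)) = S.subtype ∘ b from rfl, Set.range_comp, Submodule.span_image, b.span_eq,
    Submodule.map_top, Submodule.range_subtype]

theorem span_eq_top_of_li {ι : Type*} [Fintype ι] {v : ι → M} (hv : LinearIndependent K v)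
    (h : Fintype.card ι = finrank K M) : Submodule.span K (Set.range v) = ⊤ :=
  hv.span_eq_top_of_card_eq_finrank' h

theorem exists_split {F G : M →ₗ[K] M} (hker : ∀ x, F x = 0 → x ∈ LinearMap.range G) :
    ∃ p q : M →ₗ[K] M, ∀ x, G (p x) + q (F x) = x := by
  obtain ⟨σ, hσ⟩ := F.rangeRestrict.exists_rightInverse_of_surjective F.range_rangeRestrict
  obtain ⟨q, hq⟩ := LinearMap.exists_extend σ
  have hFq : ∀ x, F (q (F x)) = F x := fun x => by
    have h1 := LinearMap.congr_fun hq (F.rangeRestrict x)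
    have h2 := congrArg Subtype.val (LinearMap.congr_fun hσ (F.rangeRestrict x))
    simp only [LinearMap.comp_apply] at h1
    change F (σ (F.rangeRestrict x)) = F x at h2
    rw [show q (F x) = σ (F.rangeRestrict x) from h1, h2]
  have hmem : ∀ x, x - q (F x) ∈ LinearMap.range G := fun x => hker _ (by rw [map_sub, hFq, sub_self])
  obtain ⟨τ, hτ⟩ := G.rangeRestrict.exists_rightInverse_of_surjective G.range_rangeRestrict
  refine ⟨τ ∘ₗ LinearMap.codRestrict _ (LinearMap.id - q ∘ₗ F) hmem, q, fun x => ?_⟩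
  have h := congrArg Subtype.val (LinearMap.congr_fun hτ ⟨x - q (F x), hmem x⟩)
  change G (τ ⟨x - q (F x), hmem x⟩) = x - q (F x) at h
  show G (τ ⟨x - q (F x), hmem x⟩) + q (F x) = x
  rw [h, sub_add_cancel]

theorem exists_sep {F F' : M →ₗ[K] M} (h : ∀ x, F' (F x) = 0 → F x = 0) :
    ∃ q : M →ₗ[K] M, ∀ x, q (F' (F x)) = F x := by
  have hle : LinearMap.ker (F' ∘ₗ F) ≤ LinearMap.ker F := fun x hx => h x hx
  obtain ⟨q, hq⟩ := LinearMap.exists_extend
    (((LinearMap.ker (F' ∘ₗ F)).liftQ F hle) ∘ₗ (F' ∘ₗ F).quotKerEquivRange.symm.toLinearMap)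
  refine ⟨q, fun x => ?_⟩
  have h1 := LinearMap.congr_fun hq ⟨(F' ∘ₗ F) x, LinearMap.mem_range_self _ x⟩
  simp only [LinearMap.comp_apply, LinearEquiv.coe_coe] at h1
  rw [show (⟨F' (F x), _⟩ : LinearMap.range (F' ∘ₗ F)) = ⟨(F' ∘ₗ F) x, LinearMap.mem_range_self _ x⟩ from rfl,
    LinearMap.quotKerEquivRange_symm_apply_image] at h1
  exact h1

end generic

theorem exists_ext_lift {A : Type u} [CommRing A] [Algebra R A] (φ : A →ₐ[R] K) (hφ : Function.Surjective φ)
    (x : Mo R K d) : ∃ y : Mo R A d, ext φ y = x := by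
  choose c hc using fun j => hφ ((stdBasis R d K).repr x j)
  refine ⟨∑ j, c j • stdGen R A j, ?_⟩
  conv_rhs => rw [← (stdBasis R d K).sum_repr x]
  rw [map_sum]
  simp only [ext, ext₁_smul, ext₁_stdGen, hc, stdBasis_apply]

/-- Independence spreads to a generalisation. -/
theorem li_ext_of_specializes {A : Type u} [CommRing A] [Algebra R A] (φ : A →ₐ[R] K) (hφ : Function.Surjective φ)
    (ψ : A →ₐ[R] L) (hker : ∀ a, ψ a = 0 → φ a = 0) {m : ℕ} (v : Fin m → Mo R A d)
    (hv : LinearIndependent K (ext φ ∘ v)) : LinearIndependent L (ext ψ ∘ v) := by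
  obtain ⟨m', w₀, hli, hdim⟩ := exists_completion (ext φ ∘ v) hv
  rw [finrank_Mo] at hdim
  choose w hw using fun a => exists_ext_lift φ hφ (w₀ a)
  let u : Fin m ⊕ Fin m' → Mo R A d := Sum.elim v w
  have hu : IsUnit (dt hdim (ext φ ∘ u)) := by
    rw [show ext φ ∘ u = Sum.elim (ext φ ∘ v) w₀ by
      funext a
      rcases a with a | a
      · rfl
      · exact hw a]
    refine (isUnit_dt_iff hdim _).2 ⟨hli, span_eq_top_of_li hli ?_⟩
    rw [finrank_Mo, Fintype.card_sum, Fintype.card_fin, Fintype.card_fin, hdim]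
  have hu' : IsUnit (dt hdim (ext ψ ∘ u)) := by
    rw [dt_ext] at hu ⊢
    exact isUnit_iff_ne_zero.2 fun h => hu.ne_zero (hker _ h)
  exact ((isUnit_dt_iff hdim _).1 hu').1.comp Sum.inl Sum.inl_injective

theorem li_ext (φ : K →ₐ[R] L) {m : ℕ} {v : Fin m → Mo R K d} (hv : LinearIndependent K v) :
    LinearIndependent L (ext φ ∘ v) := by
  refine li_ext_of_specializes (AlgHom.id R K) Function.surjective_id φ
    (fun a ha => φ.injective (by rw [map_zero]; exact ha)) v ?_
  rw [show ext (AlgHom.id R K) ∘ v = v from funext fun a => by simp [ext, ext₁]]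
  exact hv

theorem finrank_span_ext (φ : K →ₐ[R] L) (S : Submodule K (Mo R K d)) :
    finrank L (Submodule.span L (ext φ '' (S : Set (Mo R K d)))) = finrank K S := by
  obtain ⟨v, hv, hvS⟩ := exists_basis_fam S
  have hspan : Submodule.span L (ext φ '' (S : Set (Mo R K d))) = Submodule.span L (Set.range (ext φ ∘ v)) := by
    refine le_antisymm (Submodule.span_le.2 ?_) (Submodule.span_mono ?_)
    · rintro _ ⟨x, hx, rfl⟩
      rw [SetLike.mem_coe, ← hvS, Submodule.mem_span_range_iff_exists_fun] at hx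
      obtain ⟨c, rfl⟩ := hx
      rw [map_sum]
      refine Submodule.sum_mem _ fun a _ => ?_
      rw [ext, ext₁_smul]
      exact Submodule.smul_mem _ _ (Submodule.subset_span ⟨a, rfl⟩)
    · rintro _ ⟨a, rfl⟩
      exact ⟨_, hvS.le (Submodule.subset_span ⟨a, rfl⟩), rfl⟩
  rw [hspan, finrank_span_eq_card (b := ext φ ∘ v) (li_ext φ hv), Fintype.card_fin]

variable {r : ℕ} (f g : Fin n → ((Fin d → R) →ₗ[R] (Fin d → R)))

theorem map_seqM_span_ext {A B : Type u} [CommRing A] [Algebra R A] [CommRing B] [Algebra R B] (φ : A →ₐ[R] B)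
    (S : Submodule A (Mo R A d)) (i : ℕ) :
    Submodule.map (seqM f B i) (Submodule.span B (ext φ '' (S : Set (Mo R A d)))) =
      Submodule.span B (ext φ '' ((S.map (seqM f A i) : Submodule A (Mo R A d)) : Set (Mo R A d))) := by
  rw [Submodule.map_span, Submodule.map_coe, Set.image_image, Set.image_image]
  simp only [ext_seqM]

theorem seqV_map {q : ℕ} (φ : K →ₐ[R] L) (V : Fin (n + 1) → Grassmannian K (Mo R K d) q) (i : ℕ) :
    seqV (mapTup φ V) i = Submodule.span L (ext φ '' (seqV V i : Set (Mo R K d))) := by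
  unfold seqV
  split
  · exact map_toSubmodule_eq_span φ _
  · simp

theorem rkF_map {q : ℕ} (φ : K →ₐ[R] L) (V : Fin (n + 1) → Grassmannian K (Mo R K d) q) (i : ℕ) :
    rkF (seqM f L) (seqV (mapTup φ V)) i = rkF (seqM f K) (seqV V) i := by
  rw [rkF, rkF, seqV_map, map_seqM_span_ext, finrank_span_ext]

theorem rkG_map {q : ℕ} (φ : K →ₐ[R] L) (V : Fin (n + 1) → Grassmannian K (Mo R K d) q) (i : ℕ) :
    rkG (seqM g L) (seqV (mapTup φ V)) i = rkG (seqM g K) (seqV V) i := by
  rw [rkG, rkG, seqV_map, map_seqM_span_ext, finrank_span_ext]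

/-! ### chain axioms -/

theorem chain_of_rank {M : Type*} [AddCommGroup M] [Module K M] [FiniteDimensional K M] (F G : ℕ → M →ₗ[K] M)
    (hFG : ∀ i x, F i (G i x) = 0) (hGF : ∀ i x, G i (F i x) = 0)
    (hrk : ∀ i < n, finrank K M ≤ finrank K (LinearMap.range (F i)) + finrank K (LinearMap.range (G i)))
    (hsep : ∀ i, i + 1 < n → LinearMap.range (F i) ⊓ LinearMap.ker (F (i + 1)) = ⊥ ∧
      LinearMap.range (G (i + 1)) ⊓ LinearMap.ker (G i) = ⊥)
    (hFt : ∀ i, n ≤ i → F i = 0) (hGt : ∀ i, n ≤ i → G i = 0) : Chain F G n where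
  FG := hFG
  GF := hGF
  F_top := hFt
  G_top := hGt
  kerF i hi x hx := by
    have h := LinearMap.finrank_range_add_finrank_ker (F i)
    have hle : LinearMap.range (G i) ≤ LinearMap.ker (F i) := by
      rintro _ ⟨y, rfl⟩; exact hFG i y
    have := hrk i hi
    rw [Submodule.eq_of_le_of_finrank_le hle (by omega)]
    exact hx
  kerG i hi x hx := by
    have h := LinearMap.finrank_range_add_finrank_ker (G i)
    have hle : LinearMap.range (F i) ≤ LinearMap.ker (G i) := by
      rintro _ ⟨y, rfl⟩; exact hGF i y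
    have := hrk i hi
    rw [Submodule.eq_of_le_of_finrank_le hle (by omega)]
    exact hx
  sepF i hi x hx := by
    have h : F i x ∈ LinearMap.range (F i) ⊓ LinearMap.ker (F (i + 1)) := ⟨⟨x, rfl⟩, hx⟩
    rwa [(hsep i hi).1, Submodule.mem_bot] at h
  sepG i hi x hx := by
    have h : G (i + 1) x ∈ LinearMap.range (G (i + 1)) ⊓ LinearMap.ker (G i) := ⟨⟨x, rfl⟩, hx⟩
    rwa [(hsep i hi).2, Submodule.mem_bot] at h

/-- Extension of an endomorphism through the standard basis. -/
noncomputable def liftEnd (φ : K →ₐ[R] L) (p : Mo R K d →ₗ[K] Mo R K d) : Mo R L d →ₗ[L] Mo R L d :=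
  (stdBasis R d L).constr L fun j => ext φ (p (stdGen R K j))

theorem liftEnd_ext (φ : K →ₐ[R] L) (p : Mo R K d →ₗ[K] Mo R K d) (x : Mo R K d) :
    liftEnd φ p (ext φ x) = ext φ (p x) := by
  conv_lhs => rw [← (stdBasis R d K).sum_repr x]
  conv_rhs => rw [← (stdBasis R d K).sum_repr x]
  simp only [map_sum, ext, ext₁_smul, map_smul, stdBasis_apply, ext₁_stdGen]
  refine Finset.sum_congr rfl fun j _ => ?_
  rw [← stdBasis_apply (A := L), liftEnd, Basis.constr_basis]

theorem eq_of_ext (φ : K →ₐ[R] L) {P Q : Mo R L d →ₗ[L] Mo R L d} (h : ∀ x, P (ext φ x) = Q (ext φ x)) : P = Q :=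
  (stdBasis R d L).ext fun j => by rw [stdBasis_apply, ← ext₁_stdGen φ]; exact h _

theorem chain_ext (φ : K →ₐ[R] L) (h : Chain (seqM f K) (seqM g K) n) : Chain (seqM f L) (seqM g L) n where
  FG i x := by
    have h' := eq_of_ext φ (P := seqM f L i ∘ₗ seqM g L i) (Q := 0) fun y => by
      rw [LinearMap.comp_apply, ← ext_seqM, ← ext_seqM, h.FG]; simp
    exact LinearMap.congr_fun h' x
  GF i x := by
    have h' := eq_of_ext φ (P := seqM g L i ∘ₗ seqM f L i) (Q := 0) fun y => by
      rw [LinearMap.comp_apply, ← ext_seqM, ← ext_seqM, h.GF]; simp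
    exact LinearMap.congr_fun h' x
  F_top i hi := seqM_ge f hi
  G_top i hi := seqM_ge g hi
  kerF i hi x hx := by
    obtain ⟨p, q, hpq⟩ := exists_split (h.kerF i hi)
    have h' := eq_of_ext φ (P := seqM g L i ∘ₗ liftEnd φ p + liftEnd φ q ∘ₗ seqM f L i) (Q := LinearMap.id) fun y => by
      simp only [LinearMap.add_apply, LinearMap.comp_apply, LinearMap.id_apply, liftEnd_ext, ← ext_seqM]
      rw [← map_add, hpq]
    refine ⟨liftEnd φ p x, ?_⟩
    simpa [hx] using LinearMap.congr_fun h' x
  kerG i hi x hx := by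
    obtain ⟨p, q, hpq⟩ := exists_split (h.kerG i hi)
    have h' := eq_of_ext φ (P := seqM f L i ∘ₗ liftEnd φ p + liftEnd φ q ∘ₗ seqM g L i) (Q := LinearMap.id) fun y => by
      simp only [LinearMap.add_apply, LinearMap.comp_apply, LinearMap.id_apply, liftEnd_ext, ← ext_seqM]
      rw [← map_add, hpq]
    refine ⟨liftEnd φ p x, ?_⟩
    simpa [hx] using LinearMap.congr_fun h' x
  sepF i hi x hx := by
    obtain ⟨q, hq⟩ := exists_sep (h.sepF i hi)
    have h' := eq_of_ext φ (P := liftEnd φ q ∘ₗ seqM f L (i + 1) ∘ₗ seqM f L i) (Q := seqM f L i) fun y => by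
      simp only [LinearMap.comp_apply, liftEnd_ext, ← ext_seqM]
      rw [hq]
    rw [← LinearMap.congr_fun h' x, LinearMap.comp_apply, LinearMap.comp_apply, hx, map_zero]
  sepG i hi x hx := by
    obtain ⟨q, hq⟩ := exists_sep (h.sepG i hi)
    have h' := eq_of_ext φ (P := liftEnd φ q ∘ₗ seqM g L i ∘ₗ seqM g L (i + 1)) (Q := seqM g L (i + 1)) fun y => by
      simp only [LinearMap.comp_apply, liftEnd_ext, ← ext_seqM]
      rw [hq]
    rw [← LinearMap.congr_fun h' x, LinearMap.comp_apply, LinearMap.comp_apply, hx, map_zero]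

end Groth.Agent.LGLib
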