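import Groth.Agent.LGLib.Chart
import Groth.Agent.LGLib.Deform

/-! Field valued points of linked Grassmannians: exactness, charts. -/

set_option autoImplicit false
set_option backward.isDefEq.respectTransparency false
set_option backward.isDefEq.respectTransparency.types false
set_option linter.style.haveILetI false
set_option maxHeartbeats 800000

universe u

open TensorProduct Module

namespace Groth.Agent.LGLib

open GrassRepLib

variable {R : Type u} [CommRing R] {d r n : ℕ}

/-- The hypotheses defining a linked Grassmannian, in the form used here. -/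
structure Axioms (f g : Fin n → ((Fin d → R) →ₗ[R] (Fin d → R))) (s : R) : Prop where
  comp : ∀ i, (f i).comp (g i) = s • LinearMap.id ∧ (g i).comp (f i) = s • LinearMap.id
  chain : ∀ (K : Type u) [Field K] [Algebra R K], algebraMap R K s = 0 → Chain (seqM f K) (seqM g K) n

variable {f g : Fin n → ((Fin d → R) →ₗ[R] (Fin d → R))} {s : R}
variable {K : Type u} [Field K] [Algebra R K]

theorem finrank_tup (hrd : r ≤ d) (V : Fin (n + 1) → Grassmannian K (Mo R K d) (d - r)) {i : ℕ} (hi : i ≤ n) :
    finrank K (seqV V i) = r := by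
  rw [seqV_le V hi]
  have h := Submodule.finrank_quotient_add_finrank (V ⟨i, by omega⟩).toSubmodule
  have h1 : finrank K (Mo R K d ⧸ (V ⟨i, by omega⟩).toSubmodule) = d - r := by
    have := (V ⟨i, by omega⟩).rankAtStalk_eq default
    haveI : Module.Free K (Mo R K d ⧸ (V ⟨i, by omega⟩).toSubmodule) := Module.Free.of_divisionRing K _
    rename_i h'
    rw [Module.rankAtStalk_eq_finrank_of_free] at h'
    exact h'
  rw [h1, finrank_Mo] at h
  omega

theorem linked_seqV (hrd : r ≤ d) {V : Fin (n + 1) → Grassmannian K (Mo R K d) (d - r)}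
    (hV : V ∈ W4c1limliniiii.LGPoints R d r n f g K) : Linked (seqM f K) (seqM g K) n r (seqV V) where
  toStable := stable_seqV hV
  dim _ hi := finrank_tup hrd V hi

theorem isExact_iff (V : Fin (n + 1) → Grassmannian K (Mo R K d) (d - r)) :
    W4c1limliniiii.IsExact R d r n f g K V ↔ ∀ i < n, ExactAt (seqM f K) (seqM g K) (seqV V) i := by
  constructor
  · intro h i hi
    rw [ExactAt, seqM_lt f hi, seqM_lt g hi, seqV_le V hi.le, seqV_le V (show i + 1 ≤ n from hi)]
    exact h ⟨i, hi⟩
  · intro h i
    have := h i i.2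
    rw [ExactAt, seqM_lt f i.2, seqM_lt g i.2, seqV_le V i.2.le, seqV_le V (show (i : ℕ) + 1 ≤ n from i.2)] at this
    exact this

theorem injective_of_scalar (hA : Axioms f g s) (hs : algebraMap R K s ≠ 0) {i : ℕ} (hi : i < n) :
    Function.Injective (seqM f K i) ∧ Function.Injective (seqM g K i) := by
  have h1 := seqM_comp (A := K) (fun i => (hA.comp i).1) i hi
  have h2 := seqM_comp (A := K) (fun i => (hA.comp i).2) i hi
  constructor
  · intro x y hxy
    have := congrArg (seqM g K i) hxy
    rw [← LinearMap.comp_apply, ← LinearMap.comp_apply, h2] at this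
    exact smul_right_injective _ hs this
  · intro x y hxy
    have := congrArg (seqM f K i) hxy
    rw [← LinearMap.comp_apply, ← LinearMap.comp_apply, h1] at this
    exact smul_right_injective _ hs this

theorem exact_of_scalar (hA : Axioms f g s) (hs : algebraMap R K s ≠ 0)
    (V : Fin (n + 1) → Grassmannian K (Mo R K d) (d - r)) : W4c1limliniiii.IsExact R d r n f g K V := by
  rw [isExact_iff]
  intro i hi
  obtain ⟨hf, hg⟩ := injective_of_scalar hA hs hi
  constructor
  · rw [LinearMap.ker_eq_bot.2 hg, bot_inf_eq]; exact bot_le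
  · rw [LinearMap.ker_eq_bot.2 hf, bot_inf_eq]; exact bot_le

theorem exists_inC_fieldPoint {q : ℕ} (N : Grassmannian K (Mo R K d) q) :
    ∃ I : Fin q ↪ Fin d, InC N.toSubmodule I := by
  obtain ⟨I, h, hh, hI⟩ := exists_inC N (⊥ : Ideal K)
  have hne : h ≠ 0 := fun h0 => hh (h0 ▸ Submodule.zero_mem _)
  have := InC.map hI (awayLift (AlgHom.id R K) h (isUnit_iff_ne_zero.2 hne))
  rw [← Grassmannian.map_comp, awayLift_comp] at this
  rw [Grassmannian.map_id _ (CommAlgCat.of R K) N] at this
  exact ⟨I, this⟩

/-- Exact points lie in charts. -/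
theorem exists_inChart (hrd : r ≤ d) (hA : Axioms f g s) {V : Fin (n + 1) → Grassmannian K (Mo R K d) (d - r)}
    (hV : V ∈ W4c1limliniiii.LGPoints R d r n f g K) (hE : W4c1limliniiii.IsExact R d r n f g K V) :
    ∃ D : Datum n d r, InChart f g D hrd V := by
  classical
  choose I hI using fun j => exists_inC_fieldPoint (V j)
  choose co hco using fun j => (inC_iff _ _).1 (hI j)
  let w : ℕ → Fin d → Mo R K d := fun i cc => if h : i < n + 1 then
    stdGen R K cc - ∑ b, co ⟨i, h⟩ cc b • stdGen R K (I ⟨i, h⟩ b) else 0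
  have hw : ∀ i ≤ n, Submodule.span K (Set.range (w i)) = seqV V i := fun i hi => by
    rw [seqV_le V hi, ← span_of_hasCoord (hco ⟨i, by omega⟩)]
    congr 2
    funext cc
    exact dif_pos _
  have hL := linked_seqV hrd hV
  -- generators
  obtain ⟨src, c, hgen⟩ : ∃ (src : Fin r → Fin (n + 1)) (c : Fin r → Fin d), ∀ j ≤ n,
      seqV V j ≤ tspan (seqM f K) (seqM g K) (fun a => (src a : ℕ)) (fun a => w (src a) (c a)) j := by
    by_cases hs : algebraMap R K s = 0
    · exact exists_generators (hA.chain K hs) hL ((isExact_iff V).1 hE) w hw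
    · obtain ⟨c, hc⟩ := exists_complement ⊥ (seqV V 0) bot_le (w 0) (hw 0 (Nat.zero_le _))
      have hdim : finrank K (seqV V 0) - finrank K (⊥ : Submodule K (Mo R K d)) = r := by
        rw [finrank_bot, finrank_tup hrd V (Nat.zero_le _), Nat.sub_zero]
      refine ⟨fun _ => 0, fun a => c (Fin.cast hdim.symm a), fun j => ?_⟩
      induction j with
      | zero =>
        intro _
        refine hc.trans (sup_le (Submodule.span_le.2 ?_) bot_le)
        rintro _ ⟨a, rfl⟩
        exact Submodule.subset_span ⟨Fin.cast hdim a, by simp⟩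
      | succ j ih =>
        intro hj
        have hjn : j < n := hj
        have heq : (seqV V j).map (seqM f K j) = seqV V (j + 1) := by
          refine Submodule.eq_of_le_of_finrank_eq (hL.mapF j) ?_
          exact ((Submodule.equivMapOfInjective _ (injective_of_scalar hA hs hjn).1 _).finrank_eq.symm.trans
            (hL.dim j hjn.le)).trans (hL.dim (j + 1) hj).symm
        rw [← heq]
        exact (Submodule.map_mono (ih hjn.le)).trans
          (map_tspan_F _ _ (fun _ => Nat.zero_le n) (seqM_comp fun i => (hA.comp i).1))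
  let D : Datum n d r := ⟨src, I, c⟩
  let x : Fin r → Fin (d - r) → K := fun a b => - co (src a) (c a) b
  have hgv : ∀ a, gvec D x a = w (src a) (c a) := fun a => by
    have hsum : ∀ b, x a b • stdGen R K (I (src a) b) = -(co (src a) (c a) b • stdGen R K (I (src a) b)) :=
      fun b => neg_smul (co (src a) (c a) b) (stdGen R K (I (src a) b))
    rw [show w (src a) (c a) = stdGen R K (c a) - ∑ b, co (src a) (c a) b • stdGen R K (I (src a) b) from dif_pos (src a).2]
    rw [gvec, sub_eq_add_neg, ← Finset.sum_neg_distrib]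
    exact congrArg (stdGen R K (c a) + ·) (Finset.sum_congr rfl fun b _ => hsum b)
  have hx : IsUnit (hdet f g D hrd x) := by
    rw [hdet, IsUnit.prod_iff]
    intro j _
    have hspan : Submodule.span K (Set.range (cfam f g D x j)) = ⊤ := by
      rw [eq_top_iff, ← (stdBasis R d K).span_eq, Submodule.span_le]
      rintro _ ⟨cc, rfl⟩
      rw [stdBasis_apply]
      have h1 : w j cc ∈ Submodule.span K (Set.range (cfam f g D x j)) := by
        have := hgen j (by omega) ((hw j (by omega)).le (Submodule.subset_span ⟨cc, rfl⟩))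
        refine Submodule.span_mono ?_ this
        rintro _ ⟨a, rfl⟩
        exact ⟨.inl a, by simp only [cfam, Sum.elim_inl, hgv]; rfl⟩
      have h2 : stdGen R K cc = w j cc + ∑ b, co j cc b • stdGen R K (I j b) := by
        rw [show w j cc = stdGen R K cc - ∑ b, co j cc b • stdGen R K (I j b) from dif_pos j.2, sub_add_cancel]
      rw [h2]
      exact add_mem h1 (Submodule.sum_mem _ fun b _ => Submodule.smul_mem _ _ (Submodule.subset_span ⟨.inr b, rfl⟩))
    refine (isUnit_dt_iff _ _).2 ⟨linearIndependent_of_top_le_span_of_card_eq_finrank hspan.ge ?_, hspan⟩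
    rw [finrank_Mo, Fintype.card_sum, Fintype.card_fin, Fintype.card_fin]
    omega
  refine ⟨D, x, hx, funext fun j => ofFam_eq_of_le _ _ fun a => ?_⟩
  show T (seqM f K) (seqM g K) (src a) j (gvec D x a) ∈ (V j).toSubmodule
  rw [hgv, ← seqV_fin]
  exact T_mem (stable_seqV hV) ((hw _ (by omega)).le (Submodule.subset_span ⟨c a, rfl⟩)) _

theorem seqV_chartTup {D : Datum n d r} {hrd : r ≤ d} {x : Fin r → Fin (d - r) → K}
    (hx : IsUnit (hdet f g D hrd x)) {j : ℕ} (hj : j ≤ n) :
    tspan (seqM f K) (seqM g K) (fun a => (D.src a : ℕ)) (gvec D x) j = seqV (chartTup f g D hrd hx) j := by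
  rw [seqV_le _ hj]
  rfl

/-- Chart points are exact. -/
theorem InChart.isExact (hA : Axioms f g s) {D : Datum n d r} {hrd : r ≤ d}
    {V : Fin (n + 1) → Grassmannian K (Mo R K d) (d - r)} (h : InChart f g D hrd V) :
    W4c1limliniiii.IsExact R d r n f g K V := by
  by_cases hs : algebraMap R K s = 0
  · obtain ⟨x, hx, rfl⟩ := h
    rw [isExact_iff]
    intro i hi
    exact exact_of_generators (hA.chain K hs) (linked_seqV hrd (chartTup_mem f g D hrd hA.comp hx)) _ _
      (fun j hj => seqV_chartTup hx hj) hi
  · exact exact_of_scalar hA hs V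

/-- The forward ranks of chart points. -/
theorem InChart.rkF (hA : Axioms f g s) (hs : algebraMap R K s = 0) {D : Datum n d r} {hrd : r ≤ d}
    {V : Fin (n + 1) → Grassmannian K (Mo R K d) (d - r)} (h : InChart f g D hrd V) {i : ℕ} (hi : i < n) :
    LGLib.rkF (seqM f K) (seqV V) i = (Finset.univ.filter fun a => (D.src a : ℕ) ≤ i).card := by
  obtain ⟨x, hx, rfl⟩ := h
  exact rkF_of_generators (hA.chain K hs) (linked_seqV hrd (chartTup_mem f g D hrd hA.comp hx)) _ _
    (fun j hj => seqV_chartTup hx hj) hi

theorem exact_iff_rk (hrd : r ≤ d) (hA : Axioms f g s) (hs : algebraMap R K s = 0)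
    {V : Fin (n + 1) → Grassmannian K (Mo R K d) (d - r)} (hV : V ∈ W4c1limliniiii.LGPoints R d r n f g K) :
    W4c1limliniiii.IsExact R d r n f g K V ↔
      ∀ i < n, rkF (seqM f K) (seqV V) i + rkG (seqM g K) (seqV V) i = r := by
  rw [isExact_iff]
  exact forall₂_congr fun i hi => exactAt_iff (hA.chain K hs) (linked_seqV hrd hV) hi

/-- Exactness does not depend on the field. -/
theorem isExact_map_iff (hrd : r ≤ d) (hA : Axioms f g s) {L : Type u} [Field L] [Algebra R L] (φ : K →ₐ[R] L)
    {V : Fin (n + 1) → Grassmannian K (Mo R K d) (d - r)} (hV : V ∈ W4c1limliniiii.LGPoints R d r n f g K) :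
    W4c1limliniiii.IsExact R d r n f g L (mapTup φ V) ↔ W4c1limliniiii.IsExact R d r n f g K V := by
  by_cases hs : algebraMap R K s = 0
  · have hs' : algebraMap R L s = 0 := by rw [← φ.commutes, hs, map_zero]
    rw [exact_iff_rk hrd hA hs' (map_mem_LGPoints hV φ), exact_iff_rk hrd hA hs hV]
    simp only [rkF_map, rkG_map]
  · have hs' : algebraMap R L s ≠ 0 := fun h => hs (φ.toRingHom.injective (by
      show φ (algebraMap R K s) = φ 0
      rw [φ.commutes, h, map_zero]))
    exact iff_of_true (exact_of_scalar hA hs' _) (exact_of_scalar hA hs _)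

end Groth.Agent.LGLib
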