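import Groth.Agent.LGLib.Family
import Groth.Agent.GrassRepLib.Pluecker
import Groth.Agent.BCLib.DVR
import Groth.Prelude.Def_W4c1limliniiiiLG

/-! Representability and properness of the linked Grassmannian. -/

set_option autoImplicit false
set_option backward.isDefEq.respectTransparency false
set_option backward.isDefEq.respectTransparency.types false
set_option linter.style.haveILetI false
set_option maxHeartbeats 800000

universe u

open AlgebraicGeometry CategoryTheory CategoryTheory.Limits TensorProduct Module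

namespace Groth.Agent.LGLib

open HilbDescLib GrassRepLib

variable {R : Type u} [CommRing R] {d r q n : ℕ}

theorem isProper_freeGrass (hq : q ≤ d) : IsProper (freeGrass R d q).hom := by
  obtain ⟨c, hc, hc'⟩ := exists_pluecker (R := R) hq
  rw [← hc']
  haveI : IsProper (CohB1.ProjSpaceOver.toBase (d.choose q - 1) (Spec (CommRingCat.of R))) :=
    Groth.Agent.BCLib.isProper_toBase _ _
  infer_instance

variable (R d q) in
/-- Tuples of points of a Grassmannian, as a functor. -/
noncomputable def tupFunctor (m : ℕ) : CommAlgCat.{u} R ⥤ Type u where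
  obj A := Fin m → Grassmannian A (Mo R A d) q
  map φ := ↾fun x i => Grassmannian.map φ.hom (x i)
  map_id A := by
    refine ConcreteCategory.hom_ext _ _ fun x => ?_
    exact funext fun i => Grassmannian.map_id _ A (x i)
  map_comp φ ψ := by
    refine ConcreteCategory.hom_ext _ _ fun x => ?_
    exact funext fun i => Grassmannian.map_comp _ φ.hom ψ.hom (x i)

theorem exists_prod (hq : q ≤ d) : ∀ m : ℕ,
    ∃ (X : Over (Spec (CommRingCat.of R))) (e : ∀ A : CommAlgCat.{u} R, (test A ⟶ X) ≃ (tupFunctor R d q m).obj A),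
      Represents (tupFunctor R d q m) X e ∧ IsProper X.hom := by
  intro m
  induction m with
  | zero =>
    refine ⟨Over.mk (𝟙 _), fun A => ?_, ?_, inferInstanceAs (IsProper (𝟙 (Spec (CommRingCat.of R))))⟩
    · exact
        { toFun := fun _ => (Fin.elim0 : Fin 0 → Grassmannian A (Mo R A d) q)
          invFun := fun _ => Over.homMk (test A).hom (Category.comp_id _)
          left_inv := fun x => Over.OverMorphism.ext (by simpa using (Over.w x).symm)
          right_inv := fun y => funext fun i => i.elim0 }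
    · intro A B φ g g' _
      exact funext fun i => i.elim0
  | succ m ih =>
    obtain ⟨X, e, he, hX⟩ := ih
    let G := freeGrass R d q
    haveI : IsProper G.hom := isProper_freeGrass hq
    let P : Over (Spec (CommRingCat.of R)) := Over.mk (pullback.fst X.hom G.hom ≫ X.hom)
    let p₁ : P ⟶ X := Over.homMk (pullback.fst X.hom G.hom) rfl
    let p₂ : P ⟶ G := Over.homMk (pullback.snd X.hom G.hom) pullback.condition.symm
    let E : ∀ A : CommAlgCat.{u} R, (test A ⟶ P) ≃ (test A ⟶ G) × (test A ⟶ X) := fun A =>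
      { toFun := fun h => (h ≫ p₂, h ≫ p₁)
        invFun := fun ab => Over.homMk (pullback.lift ab.2.left ab.1.left ((Over.w ab.2).trans (Over.w ab.1).symm))
          (by
            show pullback.lift _ _ _ ≫ pullback.fst X.hom G.hom ≫ X.hom = _
            rw [pullback.lift_fst_assoc]
            exact Over.w ab.2)
        left_inv := fun h => Over.OverMorphism.ext (pullback.hom_ext
          (pullback.lift_fst _ _ _) (pullback.lift_snd _ _ _))
        right_inv := fun ab => Prod.ext (Over.OverMorphism.ext (pullback.lift_snd _ _ _))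
          (Over.OverMorphism.ext (pullback.lift_fst _ _ _)) }
    refine ⟨P, fun A => (E A).trans (((freeEquiv R d q A).prodCongr (e A)).trans
      (Fin.consEquiv fun _ : Fin (m + 1) => Grassmannian A (Mo R A d) q)), ?_, ?_⟩
    · intro A B φ g g' hg
      funext i
      show Fin.cons (α := fun _ => Grassmannian B (Mo R B d) q) (freeEquiv R d q B (g' ≫ p₂)) (e B (g' ≫ p₁)) i =
        Grassmannian.map φ.hom (Fin.cons (α := fun _ => Grassmannian A (Mo R A d) q) (freeEquiv R d q A (g ≫ p₂))
          (e A (g ≫ p₁)) i)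
      refine Fin.cases ?_ (fun j => ?_) i
      · exact represents_free (R := R) d q A B φ (g ≫ p₂) (g' ≫ p₂) (by simp only [Over.comp_left, hg, Category.assoc])
      · exact congrFun (he A B φ (g ≫ p₁) (g' ≫ p₁) (by simp only [Over.comp_left, hg, Category.assoc])) j
    · show IsProper (pullback.fst X.hom G.hom ≫ X.hom)
      infer_instance

/-- The obstruction ideal to carrying one point into another. -/
def carryIdeal {A : Type u} [CommRing A] [Algebra R A] (h : (Fin d → R) →ₗ[R] (Fin d → R))
    (N M : Grassmannian A (Mo R A d) q) : Ideal A :=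
  Ideal.span {a | ∃ y ∈ N.toSubmodule, ∃ φ : (Mo R A d ⧸ M.toSubmodule) →ₗ[A] A,
    φ (Submodule.Quotient.mk (h.baseChange A y)) = a}

theorem ext_mem_map_iff {A C : Type u} [CommRing A] [Algebra R A] [CommRing C] [Algebra R C] (f : A →ₐ[R] C)
    (M : Grassmannian A (Mo R A d) q) (z : Mo R A d) :
    ext f z ∈ (Grassmannian.map f M).toSubmodule ↔
      ∀ φ : (Mo R A d ⧸ M.toSubmodule) →ₗ[A] A, f (φ (Submodule.Quotient.mk z)) = 0 := by
  letI : Algebra A C := f.toAlgebra
  haveI : IsScalarTower R A C := IsScalarTower.of_algebraMap_eq' f.comp_algebraMap.symm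
  have h : ∀ y, Grassmannian.baseChangeMkQ C M.toSubmodule (ext f y) = (1 : C) ⊗ₜ[A] Submodule.Quotient.mk y := by
    intro y
    induction y using TensorProduct.induction_on with
    | zero => simp
    | tmul a m =>
      simp only [ext, ext₁_tmul, Grassmannian.baseChangeMkQ, LinearMap.comp_apply, LinearEquiv.coe_coe,
        AlgebraTensorModule.cancelBaseChange_symm_tmul, LinearMap.baseChange_tmul, Submodule.mkQ_apply]
      rw [show a ⊗ₜ[R] m = a • ((1 : A) ⊗ₜ[R] m) by rw [TensorProduct.smul_tmul', smul_eq_mul, mul_one],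
        Submodule.Quotient.mk_smul, ← TensorProduct.smul_tmul, Algebra.smul_def, mul_one]
      rfl
    | add y z hy hz => simp only [map_add, Submodule.Quotient.mk_add, TensorProduct.tmul_add, hy, hz]
  rw [Grassmannian.map_toSubmodule, LinearMap.mem_ker, h]
  constructor
  · intro h0 φ
    have h3 := congrArg ((TensorProduct.rid A C).toLinearMap ∘ₗ φ.lTensor C) h0
    simpa [Algebra.smul_def, RingHom.algebraMap_toAlgebra] using h3
  · intro hall
    obtain ⟨s, hs⟩ := Module.Projective.out (R := A) (P := Mo R A d ⧸ M.toSubmodule)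
    rw [← hs (Submodule.Quotient.mk z), Finsupp.linearCombination_apply, Finsupp.sum, TensorProduct.tmul_sum]
    refine Finset.sum_eq_zero fun i _ => ?_
    rw [← TensorProduct.smul_tmul, Algebra.smul_def, RingHom.algebraMap_toAlgebra]
    show ((f (((Finsupp.lapply i) ∘ₗ s) (Submodule.Quotient.mk z))) * 1) ⊗ₜ[A] _ = _
    erw [hall ((Finsupp.lapply i) ∘ₗ s)]
    rw [zero_mul, TensorProduct.zero_tmul]

theorem carry_map_iff {A C : Type u} [CommRing A] [Algebra R A] [CommRing C] [Algebra R C] (f : A →ₐ[R] C)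
    (h : (Fin d → R) →ₗ[R] (Fin d → R)) (N M : Grassmannian A (Mo R A d) q) :
    Submodule.map (h.baseChange C) (Grassmannian.map f N).toSubmodule ≤ (Grassmannian.map f M).toSubmodule ↔
      carryIdeal h N M ≤ RingHom.ker f := by
  rw [map_toSubmodule_eq_span f N, Submodule.map_span_le, carryIdeal, Ideal.span_le]
  constructor
  · rintro hall _ ⟨y, hy, φ, rfl⟩
    have := hall _ ⟨y, hy, rfl⟩
    rw [← ext_baseChange, ext_mem_map_iff] at this
    exact this φ
  · rintro hall _ ⟨y, hy, rfl⟩
    rw [← ext_baseChange, ext_mem_map_iff]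
    exact fun φ => hall ⟨y, hy, φ, rfl⟩

theorem exists_lg (f g : Fin n → ((Fin d → R) →ₗ[R] (Fin d → R))) (r : ℕ) :
    ∃ (X : Over (Spec (CommRingCat.of R)))
      (e : ∀ A : CommAlgCat.{u} R, (test A ⟶ X) ≃ W4c1limliniiii.LGPoints R d r n f g A),
      (∀ (A B : CommAlgCat.{u} R) (φ : A ⟶ B) (x : test A ⟶ X) (x' : test B ⟶ X),
        x'.left = Spec.map (CommRingCat.ofHom φ.hom.toRingHom) ≫ x.left →
          ∀ i, (e B x').1 i = Module.Grassmannian.map φ.hom ((e A x).1 i)) ∧
      IsProper X.hom := by
  obtain ⟨P, eP, heP, hP⟩ := exists_prod (R := R) (Nat.sub_le d r) (n + 1)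
  obtain ⟨Z, ι, hι, hZ⟩ := exists_closed eP heP
    (fun A V => V ∈ W4c1limliniiii.LGPoints R d r n f g A)
    (fun A V => ⨆ i : Fin n, carryIdeal (f i) (V i.castSucc) (V i.succ) ⊔ carryIdeal (g i) (V i.succ) (V i.castSucc))
    (fun A C φ V => by
      show (∀ i, _ ∧ _) ↔ _
      rw [iSup_le_iff]
      refine forall_congr' fun i => ?_
      rw [sup_le_iff]
      exact and_congr (carry_map_iff φ.hom _ _ _) (carry_map_iff φ.hom _ _ _))
  let X : Over (Spec (CommRingCat.of R)) := Over.mk (ι ≫ P.hom)
  let j : X ⟶ P := Over.homMk ι rfl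
  haveI : Mono j := Over.mono_of_mono_left j
  have hbij : ∀ A : CommAlgCat.{u} R, Function.Bijective fun z : test A ⟶ X =>
      (⟨eP A (z ≫ j), (hZ A (z ≫ j)).1 ⟨z.left, rfl⟩⟩ : W4c1limliniiii.LGPoints R d r n f g A) := by
    intro A
    refine ⟨fun z z' h => (cancel_mono j).1 ((eP A).injective (congrArg Subtype.val h)), fun V => ?_⟩
    obtain ⟨h, hh⟩ := (hZ A ((eP A).symm V.1)).2 (by rw [Equiv.apply_symm_apply]; exact V.2)
    let z : test A ⟶ X := Over.homMk h (show h ≫ ι ≫ P.hom = _ by
      rw [reassoc_of% hh]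
      exact Over.w ((eP A).symm V.1))
    refine ⟨z, Subtype.ext ?_⟩
    show eP A (z ≫ j) = _
    rw [show z ≫ j = (eP A).symm V.1 from Over.OverMorphism.ext hh, Equiv.apply_symm_apply]
  refine ⟨X, fun A => Equiv.ofBijective _ (hbij A), fun A B φ x x' hx i => ?_, ?_⟩
  · exact congrFun (heP A B φ (x ≫ j) (x' ≫ j) (by simp only [Over.comp_left, hx, Category.assoc])) i
  · show IsProper (ι ≫ P.hom)
    infer_instance

theorem isProper_of_lg {f g : Fin n → ((Fin d → R) →ₗ[R] (Fin d → R))} {r : ℕ} {X : Over (Spec (CommRingCat.of R))}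
    (e : ∀ A : CommAlgCat.{u} R, (test A ⟶ X) ≃ W4c1limliniiii.LGPoints R d r n f g A)
    (he : ∀ (A B : CommAlgCat.{u} R) (φ : A ⟶ B) (x : test A ⟶ X) (x' : test B ⟶ X),
      x'.left = Spec.map (CommRingCat.ofHom φ.hom.toRingHom) ≫ x.left →
        ∀ i, (e B x').1 i = Module.Grassmannian.map φ.hom ((e A x).1 i)) : IsProper X.hom := by
  obtain ⟨Y, e', he', hY⟩ := exists_lg f g r
  let F : CommAlgCat.{u} R ⥤ Type u :=
    { obj := fun A => W4c1limliniiii.LGPoints R d r n f g A
      map := fun φ => ↾fun x => ⟨mapTup φ.hom x.1, map_mem_LGPoints x.2 φ.hom⟩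
      map_id := fun A => ConcreteCategory.hom_ext _ _ fun x =>
        Subtype.ext (funext fun i => Grassmannian.map_id _ A (x.1 i))
      map_comp := fun φ ψ => ConcreteCategory.hom_ext _ _ fun x =>
        Subtype.ext (funext fun i => Grassmannian.map_comp _ φ.hom ψ.hom (x.1 i)) }
  obtain ⟨iso, -⟩ := exists_iso_of_represents (F := F) (X := X) (X' := Y)
    (fun A B φ x x' hx => Subtype.ext (funext (he A B φ x x' hx)))
    (fun A B φ x x' hx => Subtype.ext (funext (he' A B φ x x' hx)))
  rw [← Over.w iso.hom]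
  haveI : IsIso iso.hom.left := (inferInstance : IsIso ((Over.forget _).map iso.hom))
  infer_instance

end Groth.Agent.LGLib
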