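import Groth.Agent.LGLib.Scheme
import Groth.Agent.LGLib.Proper
import Groth.Agent.DimFormulaLib.Field

/-! Geometry of linked Grassmannians over a field. -/

set_option autoImplicit false
set_option backward.isDefEq.respectTransparency false
set_option backward.isDefEq.respectTransparency.types false
set_option linter.style.haveILetI false
set_option maxHeartbeats 1000000

universe u

open AlgebraicGeometry CategoryTheory TensorProduct Module Topology

namespace Groth.Agent.LGLib

open HilbDescLib

/-! ### the axioms from rank hypotheses -/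

section axioms

variable {R : Type u} [CommRing R] {d n : ℕ} {f g : Fin n → ((Fin d → R) →ₗ[R] (Fin d → R))} {s : R}

theorem chain_seqM_of_rank {K : Type u} [Field K] [Algebra R K]
    (hI : ∀ i, (f i).comp (g i) = s • LinearMap.id ∧ (g i).comp (f i) = s • LinearMap.id) (hs : algebraMap R K s = 0)
    (hII : ∀ i, d ≤ finrank K (LinearMap.range ((f i).baseChange K)) + finrank K (LinearMap.range ((g i).baseChange K)))
    (hIII : ∀ i j : Fin n, i.val + 1 = j.val →
      LinearMap.range ((f i).baseChange K) ⊓ LinearMap.ker ((f j).baseChange K) = ⊥ ∧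
        LinearMap.range ((g j).baseChange K) ⊓ LinearMap.ker ((g i).baseChange K) = ⊥) :
    Chain (seqM f K) (seqM g K) n := by
  refine chain_of_rank _ _ (fun i x => ?_) (fun i x => ?_) (fun i hi => ?_) (fun i hi => ?_) (fun i hi => seqM_ge f hi)
    (fun i hi => seqM_ge g hi)
  · by_cases hi : i < n
    · rw [← LinearMap.comp_apply, seqM_comp (fun i => (hI i).1) i hi, hs, zero_smul, LinearMap.zero_apply]
    · rw [seqM_ge f (by omega), LinearMap.zero_apply]
  · by_cases hi : i < n
    · rw [← LinearMap.comp_apply, seqM_comp (fun i => (hI i).2) i hi, hs, zero_smul, LinearMap.zero_apply]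
    · rw [seqM_ge g (by omega), LinearMap.zero_apply]
  · rw [seqM_lt f hi, seqM_lt g hi, finrank_Mo]
    exact hII ⟨i, hi⟩
  · rw [seqM_lt f hi, seqM_lt g hi, seqM_lt f (show i < n by omega), seqM_lt g (show i < n by omega)]
    exact hIII ⟨i, by omega⟩ ⟨i + 1, hi⟩ rfl

theorem axioms_of_field {k : Type u} [Field k] {f g : Fin n → ((Fin d → k) →ₗ[k] (Fin d → k))} {s : k}
    (hI : ∀ i, (f i).comp (g i) = s • LinearMap.id ∧ (g i).comp (f i) = s • LinearMap.id)
    (hII : ∀ i, d ≤ finrank k (LinearMap.range (f i)) + finrank k (LinearMap.range (g i)))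
    (hIII : ∀ i j : Fin n, i.val + 1 = j.val →
      LinearMap.range (f i) ⊓ LinearMap.ker (f j) = ⊥ ∧ LinearMap.range (g j) ⊓ LinearMap.ker (g i) = ⊥) :
    Axioms f g s where
  comp := hI
  chain K _ _ hs := by
    let e : Mo k k d ≃ₗ[k] (Fin d → k) := TensorProduct.lid k (Fin d → k)
    have hconj : ∀ (h : (Fin d → k) →ₗ[k] (Fin d → k)), e.toLinearMap ∘ₗ h.baseChange k = h ∘ₗ e.toLinearMap := fun h =>
      TensorProduct.ext' fun a m => by simp [e, map_smul]
    have hr : ∀ h : (Fin d → k) →ₗ[k] (Fin d → k),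
        (LinearMap.range (h.baseChange k)).map e.toLinearMap = LinearMap.range h := fun h => by
      rw [← LinearMap.range_comp, hconj, LinearMap.range_comp, LinearEquiv.range, Submodule.map_top]
    have hk : ∀ h : (Fin d → k) →ₗ[k] (Fin d → k),
        (LinearMap.ker (h.baseChange k)).map e.toLinearMap = LinearMap.ker h := fun h => by
      rw [← e.ker_comp (h.baseChange k), hconj, LinearMap.ker_comp]
      exact Submodule.map_comap_eq_of_surjective e.surjective _
    have hfr : ∀ h : (Fin d → k) →ₗ[k] (Fin d → k),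
        finrank k (LinearMap.range (h.baseChange k)) = finrank k (LinearMap.range h) := fun h => by
      rw [← hr, LinearEquiv.finrank_map_eq]
    have hs' : algebraMap k k s = 0 := by
      rw [Algebra.algebraMap_self_apply]
      exact (algebraMap k K).injective (by rw [hs, map_zero])
    refine chain_ext f g (K := k) (Algebra.ofId k K) (chain_seqM_of_rank hI hs' (fun i => by rw [hfr, hfr]; exact hII i) ?_)
    intro i j hij
    constructor
    · refine Submodule.map_injective_of_injective e.injective ?_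
      rw [Submodule.map_inf _ e.injective, hr, hk, Submodule.map_bot]
      exact (hIII i j hij).1
    · refine Submodule.map_injective_of_injective e.injective ?_
      rw [Submodule.map_inf _ e.injective, hr, hk, Submodule.map_bot]
      exact (hIII i j hij).2

theorem axioms_of_residue
    (hI : ∀ i, (f i).comp (g i) = s • LinearMap.id ∧ (g i).comp (f i) = s • LinearMap.id)
    (hII : ∀ (P : Ideal R) [P.IsPrime], ∀ i,
      d ≤ finrank P.ResidueField (LinearMap.range ((f i).baseChange P.ResidueField)) +
        finrank P.ResidueField (LinearMap.range ((g i).baseChange P.ResidueField)))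
    (hIII : ∀ (P : Ideal R) [P.IsPrime], ∀ i j : Fin n, i.val + 1 = j.val →
      LinearMap.range ((f i).baseChange P.ResidueField) ⊓
          LinearMap.ker ((f j).baseChange P.ResidueField) = ⊥ ∧
        LinearMap.range ((g j).baseChange P.ResidueField) ⊓
          LinearMap.ker ((g i).baseChange P.ResidueField) = ⊥) : Axioms f g s where
  comp := hI
  chain K _ _ hs := by
    let P : Ideal R := RingHom.ker (algebraMap R K)
    haveI : P.IsPrime := RingHom.ker_isPrime _
    let ι : P.ResidueField →ₐ[R] K := Ideal.ResidueField.liftₐ P (Algebra.ofId R K) le_rfl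
      (fun a ha => isUnit_iff_ne_zero.2 ha)
    have hs' : algebraMap R P.ResidueField s = 0 := Ideal.algebraMap_residueField_eq_zero.2 hs
    exact chain_ext f g ι (chain_seqM_of_rank hI hs' (hII P) (hIII P))

end axioms

/-! ### components and charts -/

section comps

variable {R : Type u} [CommRing R] [IsDomain R] {d r n : ℕ} {f g : Fin n → ((Fin d → R) →ₗ[R] (Fin d → R))}
  {s : R} {X : Over (Spec (CommRingCat.of R))} {P : Rep f g r X} {hrd : r ≤ d}

theorem component_chart (hA : Axioms f g s) {Z : Set X.left} (hZ : Z ∈ irreducibleComponents X.left) :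
    ∃ (η : X.left) (D : Datum n d r), IsGenericPoint η Z ∧ η ∈ chartSet P hrd D ∧ Z = closure (chartSet P hrd D) := by
  obtain ⟨η, hη⟩ := QuasiSober.sober hZ.1 (isClosed_of_mem_irreducibleComponents Z hZ)
  have hmax : ∀ z, z ⤳ η → z = η := fun z hz => by
    have hle : Z ⊆ closure {z} := by
      rw [← hη.def]; exact closure_minimal (Set.singleton_subset_iff.2 (specializes_iff_mem_closure.1 hz)) isClosed_closure
    have heq : Z = closure {z} := le_antisymm hle (hZ.2 isIrreducible_singleton.closure hle)
    exact IsGenericPoint.eq (show IsGenericPoint z Z from heq.symm) hη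
  obtain ⟨D, hD⟩ := exists_chart_of_maximal (P := P) hrd hA η hmax
  refine ⟨η, D, hη, hD, ?_⟩
  have hirr : IsIrreducible (chartSet P hrd D) := ⟨⟨η, hD⟩, chartSet_isPreirreducible hA.comp D⟩
  have hle : Z ⊆ closure (chartSet P hrd D) := by
    rw [← hη.def]; exact closure_mono (Set.singleton_subset_iff.2 hD)
  exact le_antisymm hle (hZ.2 hirr.closure hle)

theorem component_eq_of_mem_chart (hA : Axioms f g s) {D : Datum n d r} {y : X.left} (hy : y ∈ chartSet P hrd D)
    {Z : Set X.left} (hZ : Z ∈ irreducibleComponents X.left) (hyZ : y ∈ Z) :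
    Z = closure (chartSet P hrd D) := by
  obtain ⟨η, D', hη, hD', -⟩ := component_chart (P := P) (hrd := hrd) hA hZ
  have hηD : η ∈ chartSet P hrd D := (hη.specializes hyZ).mem_open (isOpen_chartSet D) hy
  have hirr : IsIrreducible (chartSet P hrd D) := ⟨⟨η, hηD⟩, chartSet_isPreirreducible hA.comp D⟩
  have hle : Z ⊆ closure (chartSet P hrd D) := by
    rw [← hη.def]; exact closure_mono (Set.singleton_subset_iff.2 hηD)
  exact le_antisymm hle (hZ.2 hirr.closure hle)

end comps

section field

variable {k : Type u} [Field k] {d r n : ℕ} {f g : Fin n → ((Fin d → k) →ₗ[k] (Fin d → k))}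
  {s : k} {X : Over (Spec (CommRingCat.of k))} {P : Rep f g r X} {hrd : r ≤ d}

theorem locallyOfFinitePresentation_rep (P : Rep f g r X) : LocallyOfFinitePresentation X.hom := by
  haveI := isProper_of_lg P.e P.he
  haveI : IsNoetherianRing k := inferInstance
  exact LocallyOfFinitePresentation.iff_locallyOfFiniteType.2 inferInstance

theorem formallySmooth_of_mem_chart (hA : Axioms f g s) {D : Datum n d r} {y : X.left}
    (hy : y ∈ chartSet P hrd D) : (X.hom.stalkMap y).hom.FormallySmooth := by
  haveI := locallyOfFinitePresentation_rep P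
  haveI := isOpenImmersion_chartMor (P := P) (hrd := hrd) hA.comp D
  rw [← range_chartMor hA.comp D] at hy
  obtain ⟨q, rfl⟩ := hy
  haveI : Algebra.Smooth (ParRing k d r) (ChartAlg f g hrd D) := Algebra.Smooth.of_isLocalization_Away (univDet f g hrd D)
  haveI : Algebra.Smooth k (ParRing k d r) := ⟨inferInstance, inferInstance⟩
  haveI : Algebra.Smooth k (ChartAlg f g hrd D) := Algebra.Smooth.comp k (ParRing k d r) (ChartAlg f g hrd D)
  haveI : Smooth ((chartMor hA.comp P hrd D).left ≫ X.hom) := by
    rw [Over.w (chartMor hA.comp P hrd D)]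
    show Smooth (Spec.map (CommRingCat.ofHom (algebraMap k (ChartAlg f g hrd D))))
    rw [HasRingHomProperty.Spec_iff (P := @Smooth)]
    exact RingHom.smooth_algebraMap.2 inferInstance
  have h : q ∈ (chartMor hA.comp P hrd D).left ⁻¹ᵁ X.hom.smoothLocus := by
    rw [Scheme.Hom.preimage_smoothLocus_eq, Scheme.Hom.smoothLocus_eq_top]
    trivial
  exact h

theorem topologicalKrullDim_chartAlg (D : Datum n d r) (h : univDet f g hrd D ≠ 0) :
    topologicalKrullDim (PrimeSpectrum (ChartAlg f g hrd D)) = (r * (d - r) : ℕ) := by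
  let P₀ := ParRing k d r
  let φ : Spec (CommRingCat.of P₀) ⟶ Spec (CommRingCat.of k) := Spec.map (CommRingCat.ofHom (algebraMap k P₀))
  haveI : LocallyOfFiniteType φ :=
    (HasRingHomProperty.Spec_iff (P := @LocallyOfFiniteType)).2
      (RingHom.finiteType_algebraMap.2 inferInstance)
  haveI : IrreducibleSpace (Spec (CommRingCat.of P₀)) := inferInstanceAs (IrreducibleSpace (PrimeSpectrum P₀))
  let U : (Spec (CommRingCat.of P₀)).Opens := PrimeSpectrum.basicOpen (R := P₀) (univDet f g hrd D)
  have hU : (U : Set (Spec (CommRingCat.of P₀))).Nonempty := by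
    refine ⟨(⟨⊥, Ideal.isPrime_bot⟩ : PrimeSpectrum P₀), ?_⟩
    exact fun hmem => h ((Submodule.mem_bot P₀).1 hmem)
  rw [PrimeSpectrum.topologicalKrullDim_eq_ringKrullDim, ← DimFormulaLib.topologicalKrullDim_basicOpen (S := P₀) (univDet f g hrd D)]
  refine (DimFormulaLib.topologicalKrullDim_opens φ U hU).trans ?_
  refine (PrimeSpectrum.topologicalKrullDim_eq_ringKrullDim P₀).trans ?_
  rw [MvPolynomial.ringKrullDim_of_isNoetherianRing, ringKrullDim_eq_zero_of_field, zero_add, Nat.card_prod,
    Nat.card_fin, Nat.card_fin]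

theorem topologicalKrullDim_component (hrd : r ≤ d) (hA : Axioms f g s) (P : Rep f g r X) {Z : Set X.left}
    (hZ : Z ∈ irreducibleComponents X.left) : topologicalKrullDim ↥Z = (r * (d - r) : ℕ) := by
  obtain ⟨η, D, hη, hD, hZD⟩ := component_chart (P := P) (hrd := hrd) hA hZ
  haveI := isProper_of_lg P.e P.he
  haveI := isOpenImmersion_chartMor (P := P) (hrd := hrd) hA.comp D
  let C : TopologicalSpace.Closeds X.left := ⟨Z, isClosed_of_mem_irreducibleComponents Z hZ⟩
  let I := Scheme.IdealSheafData.vanishingIdeal C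
  have hr : Set.range I.subschemeι.base = Z := by
    rw [Scheme.IdealSheafData.range_subschemeι, Scheme.IdealSheafData.coe_support_vanishingIdeal]
    rfl
  let eZ : ↥I.subscheme ≃ₜ ↥Z := I.subschemeι.isEmbedding.toHomeomorph.trans (Homeomorph.setCongr hr)
  haveI : PreirreducibleSpace ↥Z := Subtype.preirreducibleSpace hZ.1.2
  haveI : Nonempty ↥Z := hZ.1.1.to_subtype
  haveI : IrreducibleSpace ↥Z := { toPreirreducibleSpace := inferInstance, toNonempty := inferInstance }
  haveI : IrreducibleSpace ↥I.subscheme := eZ.irreducibleSpace_iff.2 inferInstance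
  let φ := I.subschemeι ≫ X.hom
  let U : I.subscheme.Opens := ⟨I.subschemeι.base ⁻¹' chartSet P hrd D, (isOpen_chartSet D).preimage I.subschemeι.continuous⟩
  have hsub : chartSet P hrd D ⊆ Z := hZD ▸ subset_closure
  have hU : (U : Set I.subscheme).Nonempty := by
    obtain ⟨z, hz⟩ : η ∈ Set.range I.subschemeι.base := by rw [hr]; exact hη.mem
    exact ⟨z, show I.subschemeι.base z ∈ _ by rw [hz]; exact hD⟩
  rw [← IsHomeomorph.topologicalKrullDim_eq _ eZ.isHomeomorph, ← DimFormulaLib.topologicalKrullDim_opens φ U hU]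
  have hU' : I.subschemeι.base '' (U : Set I.subscheme) = chartSet P hrd D :=
    Set.image_preimage_eq_of_subset (hr ▸ hsub)
  let e1 : ↥U ≃ₜ ↥(chartSet P hrd D) :=
    (I.subschemeι.isEmbedding.comp IsEmbedding.subtypeVal).toHomeomorph.trans (Homeomorph.setCongr (by
      rw [Set.range_comp, Subtype.range_coe]; exact hU'))
  let e2 : PrimeSpectrum (ChartAlg f g hrd D) ≃ₜ ↥(chartSet P hrd D) :=
    (chartMor hA.comp P hrd D).left.isOpenEmbedding.isEmbedding.toHomeomorph.trans
      (Homeomorph.setCongr (range_chartMor hA.comp D))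
  rw [IsHomeomorph.topologicalKrullDim_eq _ (e1.trans e2.symm).isHomeomorph]
  refine topologicalKrullDim_chartAlg D fun h0 => ?_
  obtain ⟨q, -⟩ := (range_chartMor hA.comp D).ge hD
  have hu : IsUnit (algebraMap (ParRing k d r) (ChartAlg f g hrd D) (univDet f g hrd D)) :=
    IsLocalization.Away.algebraMap_isUnit (univDet f g hrd D)
  have h0' := (congrArg (algebraMap (ParRing k d r) (ChartAlg f g hrd D)) h0).trans (map_zero _)
  rw [h0'] at hu
  exact (q : PrimeSpectrum (ChartAlg f g hrd D)).isPrime.ne_top (Ideal.eq_top_of_isUnit_mem _ (zero_mem _) hu)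

theorem isExact_iff_exists_chart (hrd : r ≤ d) (hA : Axioms f g s) (P : Rep f g r X) {K : Type u} [Field K]
    [Algebra k K] (x : APt X K) :
    W4c1limliniiii.IsExact k d r n f g K (P.tup x) ↔ ∃ D : Datum n d r, pointOf x ∈ chartSet P hrd D := by
  constructor
  · intro h
    obtain ⟨D, hD⟩ := exists_inChart hrd hA (P.tup_mem x) h
    exact ⟨D, (mem_chartSet_iff x).2 hD⟩
  · rintro ⟨D, hD⟩
    exact ((mem_chartSet_iff x).1 hD).isExact hA

theorem nonexact_iff_two_components (hrd : r ≤ d) (hA : Axioms f g s) (P : Rep f g r X) (x : APt X k) :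
    ¬ W4c1limliniiii.IsExact k d r n f g k (P.tup x) ↔
      ∃ Z₁ ∈ irreducibleComponents X.left, ∃ Z₂ ∈ irreducibleComponents X.left,
        Z₁ ≠ Z₂ ∧ pointOf x ∈ Z₁ ∩ Z₂ := by
  classical
  constructor
  · intro hne
    have hs : algebraMap k k s = 0 := by_contra fun h => hne (exact_of_scalar hA h _)
    have hs0 : s = 0 := hs
    have hsK : ∀ (K : Type u) [Field K] [Algebra k K], algebraMap k K s = 0 := fun K _ _ => by rw [hs0, map_zero]
    obtain ⟨L₁, _, _, x₁, hE₁, hsp₁, hb₁⟩ := exists_exact_F (P := P) hrd hA x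
    obtain ⟨L₂, _, _, x₂, hE₂, hsp₂, ha₂⟩ := exists_exact_G (P := P) hrd hA x
    obtain ⟨D₁, hD₁⟩ := (isExact_iff_exists_chart hrd hA P x₁).1 hE₁
    obtain ⟨D₂, hD₂⟩ := (isExact_iff_exists_chart hrd hA P x₂).1 hE₂
    refine ⟨_, irreducibleComponent_mem_irreducibleComponents (pointOf x₁), _,
      irreducibleComponent_mem_irreducibleComponents (pointOf x₂), fun heq => hne ?_,
      hsp₁.mem_closed isClosed_irreducibleComponent mem_irreducibleComponent,
      hsp₂.mem_closed isClosed_irreducibleComponent mem_irreducibleComponent⟩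
    obtain ⟨η, -, hη, -, -⟩ := component_chart (P := P) (hrd := hrd) hA
      (irreducibleComponent_mem_irreducibleComponents (pointOf x₁))
    have h1 : η ∈ chartSet P hrd D₁ := (hη.specializes mem_irreducibleComponent).mem_open (isOpen_chartSet D₁) hD₁
    have h2 : η ∈ chartSet P hrd D₂ := by
      refine (hη.specializes ?_).mem_open (isOpen_chartSet D₂) hD₂
      rw [heq]; exact mem_irreducibleComponent
    obtain ⟨L₃, _, _, x₃, rfl, -⟩ := exists_resPt η
    rw [exact_iff_rk hrd hA hs (P.tup_mem x)]
    intro i hi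
    have e1 := ((mem_chartSet_iff x₁).1 hD₁).rkF hA (hsK L₁) hi
    have e3 := ((mem_chartSet_iff x₃).1 h1).rkF hA (hsK L₃) hi
    have e4 := ((mem_chartSet_iff x₃).1 h2).rkF hA (hsK L₃) hi
    have e2 := ((mem_chartSet_iff x₂).1 hD₂).rkF hA (hsK L₂) hi
    have e5 := (exact_iff_rk hrd hA (hsK L₁) (P.tup_mem x₁)).1 hE₁ i hi
    rw [hb₁ i hi] at e5
    rw [ha₂ i hi] at e2
    omega
  · rintro ⟨Z₁, hZ₁, Z₂, hZ₂, hne, hx₁, hx₂⟩ hE
    obtain ⟨D, hD⟩ := (isExact_iff_exists_chart hrd hA P x).1 hE
    exact hne ((component_eq_of_mem_chart hA hD hZ₁ hx₁).trans (component_eq_of_mem_chart hA hD hZ₂ hx₂).symm)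

theorem exact_locus (hrd : r ≤ d) (hA : Axioms f g s) (P : Rep f g r X) :
    ∃ U : Set X.left, IsOpen U ∧ Dense U ∧
      ∀ x : APt X k, (pointOf x ∈ U ↔ W4c1limliniiii.IsExact k d r n f g k (P.tup x)) := by
  refine ⟨⋃ D : Datum n d r, chartSet P hrd D, isOpen_iUnion fun D => isOpen_chartSet D, fun y => ?_, fun x => ?_⟩
  · obtain ⟨η, D, hη, hD, -⟩ := component_chart (P := P) (hrd := hrd) hA
      (irreducibleComponent_mem_irreducibleComponents y)
    have hy : y ∈ closure {η} := by rw [hη.def]; exact mem_irreducibleComponent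
    exact closure_mono (Set.singleton_subset_iff.2 (Set.mem_iUnion.2 ⟨D, hD⟩)) hy
  · rw [Set.mem_iUnion, isExact_iff_exists_chart hrd hA P x]

end field

end Groth.Agent.LGLib
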