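import Groth.Agent.LGLib.Basic
import Groth.Agent.CSADescent.Cancel
import Groth.Agent.AzumayaAlg.Basic
import Groth.Agent.AzumayaAlg.Fibre
import Groth.Agent.AzumayaAlg.Descent

/-!
# Local-global rings: idempotents in Azumaya algebras and cancellation
-/

set_option autoImplicit false
set_option backward.isDefEq.respectTransparency false

universe u v v' w w'

open scoped TensorProduct

namespace Groth.Agent.LGLib

variable {R : Type u} [CommRing R]

section field
variable {k : Type u} [Field k] [Algebra R k] {C : Type v} [Ring C] [Algebra R C]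
  {M : Type w} [AddCommGroup M] [Module R M]

/-- The left ideal of an idempotent after base change. -/
lemma finrank_span_idem (p : C) (i : M →ₗ[R] C) (π : C →ₗ[R] M) (hπi : π ∘ₗ i = LinearMap.id)
    (hiπ : i ∘ₗ π = LinearMap.mulRight R p) :
    Module.finrank k (Ideal.span {(1 : k) ⊗ₜ[R] p} : Ideal (k ⊗[R] C)) = Module.finrank k (k ⊗[R] M) := by
  have h1 : LinearMap.baseChange k i ∘ₗ LinearMap.baseChange k π = LinearMap.mulRight k ((1 : k) ⊗ₜ[R] p) := by
    rw [← LinearMap.baseChange_comp, hiπ]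
    refine TensorProduct.AlgebraTensorModule.ext fun c x => ?_
    simp [Algebra.TensorProduct.tmul_mul_tmul]
  have h2 : LinearMap.baseChange k π ∘ₗ LinearMap.baseChange k i = LinearMap.id := by
    rw [← LinearMap.baseChange_comp, hπi, LinearMap.baseChange_id]
  have hr : (Ideal.span {(1 : k) ⊗ₜ[R] p} : Ideal (k ⊗[R] C)).restrictScalars k =
      LinearMap.range (LinearMap.baseChange k i) := by
    ext z
    rw [Submodule.restrictScalars_mem]
    refine ⟨fun hz => ?_, ?_⟩
    · obtain ⟨c, rfl⟩ := Ideal.mem_span_singleton'.1 hz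
      exact ⟨LinearMap.baseChange k π c, LinearMap.congr_fun h1 c⟩
    · rintro ⟨w, rfl⟩
      refine Ideal.mem_span_singleton'.2 ⟨LinearMap.baseChange k i w, ?_⟩
      exact (LinearMap.congr_fun h1 _).symm.trans (congrArg _ (LinearMap.congr_fun h2 w))
  rw [(LinearEquiv.ofInjective (LinearMap.baseChange k i)
    (Function.LeftInverse.injective (LinearMap.congr_fun h2))).finrank_eq]
  exact congrArg (fun S : Submodule k (k ⊗[R] C) => Module.finrank k S) hr

end field

/-- Idempotents of an Azumaya algebra over a local-global ring with left ideals of equal rank are equivalent. -/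
theorem exists_equiv_idempotents (hR : LGRing.IsLGRing R) {C : Type v} [Ring C] [Algebra R C] [IsAzumaya R C]
    {M : Type w} [AddCommGroup M] [Module R M] [Module.Finite R M] [Module.Projective R M]
    {N : Type w'} [AddCommGroup N] [Module R N] [Module.Finite R N] [Module.Projective R N]
    (p q : C) (hp : p * p = p) (hq : q * q = q)
    (i : M →ₗ[R] C) (π : C →ₗ[R] M) (hπi : π ∘ₗ i = LinearMap.id) (hiπ : i ∘ₗ π = LinearMap.mulRight R p)
    (j : N →ₗ[R] C) (ρ : C →ₗ[R] N) (hρj : ρ ∘ₗ j = LinearMap.id) (hjρ : j ∘ₗ ρ = LinearMap.mulRight R q)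
    (hrank : ∀ (m : Ideal R) [m.IsMaximal], Module.rankAtStalk M ⟨m, Ideal.IsMaximal.isPrime' m⟩ =
      Module.rankAtStalk N ⟨m, Ideal.IsMaximal.isPrime' m⟩) :
    ∃ x y : C, x * y = p ∧ y * x = q ∧ p * x = x ∧ x * q = x ∧ q * y = y ∧ y * p = y := by
  classical
  obtain ⟨s, g, hg⟩ := exists_coeffs (R := R) (P := C)
  obtain ⟨a, b, hb⟩ := exists_bijective_family hR (P := C × C)
    (LinearMap.prodMap (LinearMap.mulLeft R (1 - p)) (LinearMap.mulLeft R (1 - q)))
    (fun k l : Fin s => LinearMap.prodMap (LinearMap.mulLeft R (p * g k * q * (q * g l * p)))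
      (LinearMap.mulLeft R (q * g l * p * (p * g k * q)))) fun m _ => by
      letI := Ideal.Quotient.field m
      haveI : IsAzumaya (R ⧸ m) ((R ⧸ m) ⊗[R] C) := AzumayaAlg.isAzumaya_baseChange (R := R) (R ⧸ m) C
      haveI := (AzumayaAlg.isCentral_isSimple_of_isAzumaya (k := R ⧸ m) ((R ⧸ m) ⊗[R] C)).2
      obtain ⟨θ⟩ := CSADescent.exists_linearEquiv_of_finrank_eq (k := R ⧸ m)
        (Ideal.span {(1 : R ⧸ m) ⊗ₜ[R] p} : Ideal ((R ⧸ m) ⊗[R] C)) (Ideal.span {(1 : R ⧸ m) ⊗ₜ[R] q})
        (by rw [finrank_span_idem p i π hπi hiπ, finrank_span_idem q j ρ hρj hjρ, finrank_residue, finrank_residue,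
          hrank m])
      obtain ⟨x, y, hxy, hyx, hpx, hxq, hqy, hyp⟩ := CSADescent.exists_of_linearEquiv
        (by rw [Algebra.TensorProduct.tmul_mul_tmul, one_mul, hp])
        (by rw [Algebra.TensorProduct.tmul_mul_tmul, one_mul, hq]) θ
      obtain ⟨x₀, rfl⟩ := TensorProduct.mk_surjective R C (R ⧸ m) Ideal.Quotient.mk_surjective x
      obtain ⟨y₀, rfl⟩ := TensorProduct.mk_surjective R C (R ⧸ m) Ideal.Quotient.mk_surjective y
      obtain ⟨a, ha⟩ := hg x₀
      obtain ⟨b, hb⟩ := hg y₀
      simp only [TensorProduct.mk_apply, Algebra.TensorProduct.tmul_mul_tmul, one_mul] at hxy hyx hpx hxq hqy hyp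
      refine ⟨a, b, ?_⟩
      have e : ∀ u : C, LinearMap.mulLeft R u = Algebra.lmul R C u := fun u => rfl
      have hsum : (LinearMap.prodMap (LinearMap.mulLeft R (1 - p)) (LinearMap.mulLeft R (1 - q))) +
          ∑ k, ∑ l, (a k * b l) • LinearMap.prodMap (LinearMap.mulLeft R (p * g k * q * (q * g l * p)))
            (LinearMap.mulLeft R (q * g l * p * (p * g k * q))) =
          LinearMap.prodMap (LinearMap.mulLeft R (p * x₀ * q * (q * y₀ * p) + (1 - p)))
            (LinearMap.mulLeft R (q * y₀ * p * (p * x₀ * q) + (1 - q))) := by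
        refine LinearMap.ext fun z => ?_
        simp only [← ha, ← hb, LinearMap.add_apply, LinearMap.sum_apply, LinearMap.smul_apply,
          LinearMap.prodMap_apply, LinearMap.mulLeft_apply]
        refine Prod.ext ?_ ?_ <;>
          simp only [Prod.fst_add, Prod.snd_add, Prod.fst_sum, Prod.snd_sum, Prod.smul_fst, Prod.smul_snd,
            add_mul, mul_add, Finset.mul_sum, Finset.sum_mul, Finset.smul_sum, mul_smul_comm, smul_mul_assoc, smul_smul]
        · rw [Finset.sum_comm, add_comm]
          exact congrArg (· + _) (Finset.sum_congr rfl fun _ _ => Finset.sum_congr rfl fun _ _ => by rw [mul_comm])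
        · rw [add_comm]
      rw [hsum]
      have h1 : (1 : R ⧸ m) ⊗ₜ[R] (p * x₀ * q * (q * y₀ * p) + (1 - p)) = 1 := by
        rw [TensorProduct.tmul_add, TensorProduct.tmul_sub]
        have : (1 : R ⧸ m) ⊗ₜ[R] (p * x₀ * q * (q * y₀ * p)) = (1 : R ⧸ m) ⊗ₜ[R] p := by
          have hpx' : (1 : R ⧸ m) ⊗ₜ[R] (p * x₀ * q) = (1 : R ⧸ m) ⊗ₜ[R] x₀ := by
            rw [← mul_one (1 : R ⧸ m), ← Algebra.TensorProduct.tmul_mul_tmul, mul_one, hpx,
              Algebra.TensorProduct.tmul_mul_tmul, one_mul, hxq]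
          have hqy' : (1 : R ⧸ m) ⊗ₜ[R] (q * y₀ * p) = (1 : R ⧸ m) ⊗ₜ[R] y₀ := by
            rw [← mul_one (1 : R ⧸ m), ← Algebra.TensorProduct.tmul_mul_tmul, mul_one, hqy,
              Algebra.TensorProduct.tmul_mul_tmul, one_mul, hyp]
          rw [← mul_one (1 : R ⧸ m), ← Algebra.TensorProduct.tmul_mul_tmul, mul_one, hpx', hqy',
            Algebra.TensorProduct.tmul_mul_tmul, one_mul, hxy]
        rw [this, add_sub_cancel]
        rfl
      have h2 : (1 : R ⧸ m) ⊗ₜ[R] (q * y₀ * p * (p * x₀ * q) + (1 - q)) = 1 := by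
        rw [TensorProduct.tmul_add, TensorProduct.tmul_sub]
        have : (1 : R ⧸ m) ⊗ₜ[R] (q * y₀ * p * (p * x₀ * q)) = (1 : R ⧸ m) ⊗ₜ[R] q := by
          have hpx' : (1 : R ⧸ m) ⊗ₜ[R] (p * x₀ * q) = (1 : R ⧸ m) ⊗ₜ[R] x₀ := by
            rw [← mul_one (1 : R ⧸ m), ← Algebra.TensorProduct.tmul_mul_tmul, mul_one, hpx,
              Algebra.TensorProduct.tmul_mul_tmul, one_mul, hxq]
          have hqy' : (1 : R ⧸ m) ⊗ₜ[R] (q * y₀ * p) = (1 : R ⧸ m) ⊗ₜ[R] y₀ := by
            rw [← mul_one (1 : R ⧸ m), ← Algebra.TensorProduct.tmul_mul_tmul, mul_one, hqy,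
              Algebra.TensorProduct.tmul_mul_tmul, one_mul, hyp]
          rw [← mul_one (1 : R ⧸ m), ← Algebra.TensorProduct.tmul_mul_tmul, mul_one, hpx', hqy',
            Algebra.TensorProduct.tmul_mul_tmul, one_mul, hyx]
        rw [this, add_sub_cancel]
        rfl
      refine TensorProduct.AlgebraTensorModule.ext fun c z => ?_
      rw [LinearMap.baseChange_tmul, LinearMap.id_apply]
      apply (TensorProduct.prodRight R R (R ⧸ m) C C).injective
      have hmul : ∀ u z : C, (1 : R ⧸ m) ⊗ₜ[R] u = 1 → c ⊗ₜ[R] (u * z) = c ⊗ₜ[R] z := fun u z hu => by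
        rw [← one_mul c, ← Algebra.TensorProduct.tmul_mul_tmul, hu, one_mul, one_mul]
      simp [hmul _ _ h1, hmul _ _ h2]
  set x := ∑ k, a k • (p * g k * q) with hxdef
  set y := ∑ l, b l • (q * g l * p) with hydef
  have hpx : p * x = x := by
    simp only [hxdef, Finset.mul_sum, mul_smul_comm, ← mul_assoc, hp]
  have hxq : x * q = x := by
    simp only [hxdef, Finset.sum_mul, smul_mul_assoc, mul_assoc, hq]
  have hqy : q * y = y := by
    simp only [hydef, Finset.mul_sum, mul_smul_comm, ← mul_assoc, hq]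
  have hyp : y * p = y := by
    simp only [hydef, Finset.sum_mul, smul_mul_assoc, mul_assoc, hp]
  set z := x * y + (1 - p) with hz
  set z' := y * x + (1 - q) with hz'
  have hT : ∀ w : C × C, (LinearMap.prodMap (LinearMap.mulLeft R (1 - p)) (LinearMap.mulLeft R (1 - q)) +
      ∑ k, ∑ l, (a k * b l) • LinearMap.prodMap (LinearMap.mulLeft R (p * g k * q * (q * g l * p)))
        (LinearMap.mulLeft R (q * g l * p * (p * g k * q)))) w = (z * w.1, z' * w.2) := by
    intro w
    simp only [hz, hz', hxdef, hydef, LinearMap.add_apply, LinearMap.sum_apply, LinearMap.smul_apply,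
      LinearMap.prodMap_apply, LinearMap.mulLeft_apply]
    refine Prod.ext ?_ ?_ <;>
      simp only [Prod.fst_add, Prod.snd_add, Prod.fst_sum, Prod.snd_sum, Prod.smul_fst, Prod.smul_snd,
        add_mul, Finset.mul_sum, Finset.sum_mul, Finset.smul_sum, mul_smul_comm, smul_mul_assoc, smul_smul]
    · rw [Finset.sum_comm, add_comm]
      exact congrArg (· + _) (Finset.sum_congr rfl fun _ _ => Finset.sum_congr rfl fun _ _ => by rw [mul_comm])
    · rw [add_comm]
  have hinj : ∀ w₁ w₂ : C, (z * w₁ = z * w₂ → w₁ = w₂) ∧ (z' * w₁ = z' * w₂ → w₁ = w₂) := fun w₁ w₂ => by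
    refine ⟨fun h => ?_, fun h => ?_⟩
    · exact (Prod.ext_iff.1 (@hb.1 (w₁, 0) (w₂, 0) (by rw [hT, hT]; simp [h]))).1
    · exact (Prod.ext_iff.1 (@hb.1 ((0 : C), w₁) (0, w₂) (by rw [hT, hT]; simp [h]))).2
  obtain ⟨⟨w, w'⟩, hw⟩ := hb.2 (1, 1)
  rw [hT] at hw
  have hzw : z * w = 1 := (Prod.ext_iff.1 hw).1
  have hwz : w * z = 1 := (hinj _ _).1 (by rw [← mul_assoc, hzw, one_mul, mul_one])
  have hpz : p * z = x * y := by rw [hz, mul_add, mul_sub, mul_one, hp, sub_self, add_zero, ← mul_assoc, hpx]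
  have hzp : z * p = x * y := by rw [hz, add_mul, sub_mul, one_mul, hp, sub_self, add_zero, mul_assoc, hyp]
  have hpw : p * w = w * p := by
    calc p * w = w * z * (p * w) := by rw [hwz, one_mul]
      _ = w * (z * p) * w := by simp only [mul_assoc]
      _ = w * (p * z) * w := by rw [hzp, hpz]
      _ = w * p * (z * w) := by simp only [mul_assoc]
      _ = w * p := by rw [hzw, mul_one]
  have hxyw : x * (y * w) = p := by rw [← mul_assoc, ← hpz, mul_assoc, hzw, mul_one]
  refine ⟨x, y * w, hxyw, ?_, hpx, hxq, by rw [← mul_assoc, hqy], by rw [mul_assoc, ← hpw, ← mul_assoc, hyp]⟩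
  set r := y * w * x with hr
  have hqr : q * r = r := by rw [hr, ← mul_assoc, ← mul_assoc, hqy]
  have hxr : x * r = x := by rw [hr, ← mul_assoc, hxyw, hpx]
  refine (hinj r q).2 ?_
  rw [hz', add_mul, add_mul, sub_mul, sub_mul, one_mul, one_mul, hqr, sub_self, mul_assoc, hxr, mul_assoc, hxq,
    hq, sub_self]

/-- Equivalent idempotents have isomorphic corners. -/
theorem nonempty_algEquiv_corner {C : Type v} [Ring C] [Algebra R C] {A : Type v'} [Ring A] [Algebra R A]
    {B : Type w} [Ring B] [Algebra R B] (p q x y : C) (hxy : x * y = p) (hyx : y * x = q)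
    (hpx : p * x = x) (hxq : x * q = x) (hqy : q * y = y) (hyp : y * p = y)
    (jA : A →ₗ[R] C) (rA : C →ₗ[R] A) (hA1 : jA 1 = p) (hAmul : ∀ a b, jA (a * b) = jA a * jA b)
    (hrA : ∀ a, rA (jA a) = a) (hjA : ∀ c, jA (rA c) = p * c * p)
    (jB : B →ₗ[R] C) (rB : C →ₗ[R] B) (hB1 : jB 1 = q) (hBmul : ∀ a b, jB (a * b) = jB a * jB b)
    (hrB : ∀ b, rB (jB b) = b) (hjB : ∀ c, jB (rB c) = q * c * q) :
    Nonempty (A ≃ₐ[R] B) := by
  have hAp : ∀ a, p * jA a * p = jA a := fun a => by rw [← hA1, ← hAmul, ← hAmul, one_mul, mul_one]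
  have hBq : ∀ b, q * jB b * q = jB b := fun b => by rw [← hB1, ← hBmul, ← hBmul, one_mul, mul_one]
  have hF : ∀ a, jB (rB (y * jA a * x)) = y * jA a * x := fun a => by
    rw [hjB, show q * (y * jA a * x) * q = q * y * jA a * (x * q) by simp only [mul_assoc], hqy, hxq]
  have hG : ∀ b, jA (rA (x * jB b * y)) = x * jB b * y := fun b => by
    rw [hjA, show p * (x * jB b * y) * p = p * x * jB b * (y * p) by simp only [mul_assoc], hpx, hyp]
  have hmul : ∀ a b, rB (y * jA (a * b) * x) = rB (y * jA a * x) * rB (y * jA b * x) := fun a b => by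
    conv_rhs => rw [← hrB (rB (y * jA a * x) * rB (y * jA b * x)), hBmul, hF, hF]
    congr 1
    rw [hAmul, show y * jA a * x * (y * jA b * x) = y * (jA a * (x * y) * jA b) * x by simp only [mul_assoc], hxy,
      ← hA1, ← hAmul a 1, mul_one]
  let F : A →ₗ[R] B := rB ∘ₗ LinearMap.mulRight R x ∘ₗ LinearMap.mulLeft R y ∘ₗ jA
  have h1 : F 1 = 1 := by
    show rB (y * jA 1 * x) = 1
    rw [hA1, hyp, hyx, ← hB1, hrB]
  refine ⟨AlgEquiv.ofBijective (AlgHom.ofLinearMap F h1 hmul)
    ⟨Function.LeftInverse.injective (g := fun b => rA (x * jB b * y)) fun a => ?_,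
      Function.RightInverse.surjective (g := fun b => rA (x * jB b * y)) fun b => ?_⟩⟩
  · show rA (x * jB (rB (y * jA a * x)) * y) = a
    rw [hF, show x * (y * jA a * x) * y = x * y * jA a * (x * y) by simp only [mul_assoc], hxy, hAp, hrA]
  · show rB (y * jA (rA (x * jB b * y)) * x) = b
    rw [hG, show y * (x * jB b * y) * x = y * x * jB b * (y * x) by simp only [mul_assoc], hyx, hBq, hrB]

/-- The rank of a dual. -/
theorem rankAtStalk_dual (M : Type w) [AddCommGroup M] [Module R M]
    [Module.Finite R M] [Module.Projective R M] (q : PrimeSpectrum R) :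
    Module.rankAtStalk (R := R) (Module.Dual R M) q = Module.rankAtStalk (R := R) M q := by
  rw [Module.rankAtStalk_eq, Module.rankAtStalk_eq]
  let k := q.asIdeal.ResidueField
  let g : Module.Dual R M →ₗ[R] (M →ₗ[R] k) := LinearMap.compRight R (Algebra.linearMap R k)
  have e : ∀ z, LinearMap.liftBaseChange k g z =
      dualTensorHom R M k (TensorProduct.comm R k (Module.Dual R M) z) := by
    intro z
    induction z using TensorProduct.induction_on with
    | zero => simp
    | add a b ha hb => simp only [map_add, ha, hb]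
    | tmul c f =>
      ext m
      simp [g, Algebra.smul_def, mul_comm]
  have hbij : Function.Bijective (LinearMap.liftBaseChange k g) := by
    rw [show (LinearMap.liftBaseChange k g : k ⊗[R] Module.Dual R M → _) =
      dualTensorHom R M k ∘ TensorProduct.comm R k (Module.Dual R M) from funext e]
    exact (dualTensorHom_bijective (R := R) (M := M) (N := k)).comp (TensorProduct.comm R _ _).bijective
  have h1 := (LinearEquiv.ofBijective _ hbij).trans (LinearMap.liftBaseChangeEquiv k)
  exact h1.finrank_eq.trans Subspace.dual_finrank_eq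

/-- The rank of an endomorphism algebra. -/
lemma rankAtStalk_end (P : Type w) [AddCommGroup P] [Module R P] [Module.Finite R P] [Module.Projective R P]
    [FaithfulSMul R P] (p : PrimeSpectrum R) :
    Module.rankAtStalk (Module.End R P) p = Module.rankAtStalk P p * Module.rankAtStalk P p := by
  haveI := finite_linearMap (R := R) P R
  haveI := finite_linearMap (R := R) P P
  haveI : Module.Projective R (Module.End R P) := (AzumayaAlg.isAzumaya_end (R := R) P).toProjective
  let e : Module.Dual R P ⊗[R] P ≃ₗ[R] Module.End R P :=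
    { (dualTensorHomEquiv R P P : Module.Dual R P ⊗[R] P ≃ₗ[R] (P →ₗ[R] P)) with }
  rw [← congrFun (Module.rankAtStalk_eq_of_equiv (M := Module.Dual R P ⊗[R] P) (N := Module.End R P) e) p, Module.rankAtStalk_tensorProduct,
    Pi.mul_apply, rankAtStalk_dual]

/-- Brauer equivalent Azumaya algebras of the same degree over a local-global ring are isomorphic. -/
theorem nonempty_algEquiv_of_brauer (hR : LGRing.IsLGRing R) (A : Type v) [Ring A] [Algebra R A] [IsAzumaya R A]
    (B : Type v') [Ring B] [Algebra R B] [IsAzumaya R B]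
    (hdeg : ∀ m : Ideal R, ∀ [m.IsMaximal], Module.rankAtStalk A ⟨m, Ideal.IsMaximal.isPrime' m⟩ =
      Module.rankAtStalk B ⟨m, Ideal.IsMaximal.isPrime' m⟩)
    (P : Type w) [AddCommGroup P] [Module R P] [Module.Finite R P] [Module.Projective R P] [FaithfulSMul R P]
    (Q : Type w') [AddCommGroup Q] [Module R Q] [Module.Finite R Q] [Module.Projective R Q] [FaithfulSMul R Q]
    (e : A ⊗[R] Module.End R P ≃ₐ[R] B ⊗[R] Module.End R Q) : Nonempty (A ≃ₐ[R] B) := by
  classical
  haveI : IsAzumaya R (Module.End R Q) := AzumayaAlg.isAzumaya_end Q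
  haveI : IsAzumaya R (B ⊗[R] Module.End R Q) := AzumayaAlg.isAzumaya_tensorProduct B (Module.End R Q)
  haveI : Module.Finite R (Module.End R P) := finite_linearMap P P
  haveI : Module.Projective R (Module.End R P) := (AzumayaAlg.isAzumaya_end (R := R) P).toProjective
  obtain ⟨m₀, f, hf⟩ := exists_unimodular hR P
  obtain ⟨n₀, g, hg⟩ := exists_unimodular hR Q
  let π₀ : Module.End R P := f.smulRight m₀
  let ρ₀ : Module.End R Q := g.smulRight n₀
  let J : Module.End R P →ₗ[R] P := LinearMap.applyₗ m₀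
  let I : P →ₗ[R] Module.End R P := LinearMap.smulRightₗ f
  let J' : Module.End R Q →ₗ[R] Q := LinearMap.applyₗ n₀
  let I' : Q →ₗ[R] Module.End R Q := LinearMap.smulRightₗ g
  have hπ : π₀ * π₀ = π₀ := LinearMap.ext fun x => by simp [π₀, hf]
  have hρ : ρ₀ * ρ₀ = ρ₀ := LinearMap.ext fun x => by simp [ρ₀, hg]
  have hJI : J ∘ₗ I = LinearMap.id := LinearMap.ext fun x => by simp [I, J, hf]
  have hJI' : J' ∘ₗ I' = LinearMap.id := LinearMap.ext fun x => by simp [I', J', hg]
  have hIJ : I ∘ₗ J = LinearMap.mulRight R π₀ :=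
    LinearMap.ext fun φ => LinearMap.ext fun x => by simp [I, J, π₀]
  have hIJ' : I' ∘ₗ J' = LinearMap.mulRight R ρ₀ :=
    LinearMap.ext fun φ => LinearMap.ext fun x => by simp [I', J', ρ₀]
  have hcorner : ∀ φ : Module.End R P, π₀ * φ * π₀ = f (φ m₀) • π₀ := fun φ =>
    LinearMap.ext fun x => by simp [π₀, smul_smul, mul_comm]
  have hcorner' : ∀ φ : Module.End R Q, ρ₀ * φ * ρ₀ = g (φ n₀) • ρ₀ := fun φ =>
    LinearMap.ext fun x => by simp [ρ₀, smul_smul, mul_comm]
  set p := e ((1 : A) ⊗ₜ[R] π₀) with hpdef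
  set q := (1 : B) ⊗ₜ[R] ρ₀ with hqdef
  have hp : p * p = p := by rw [hpdef, ← map_mul, Algebra.TensorProduct.tmul_mul_tmul, one_mul, hπ]
  have hq : q * q = q := by rw [hqdef, Algebra.TensorProduct.tmul_mul_tmul, one_mul, hρ]
  obtain ⟨x, y, hxy, hyx, hpx, hxq, hqy, hyp⟩ := exists_equiv_idempotents hR (M := A ⊗[R] P) (N := B ⊗[R] Q)
    p q hp hq (e.toLinearMap ∘ₗ LinearMap.lTensor A I) (LinearMap.lTensor A J ∘ₗ e.symm.toLinearMap)
    (by
      refine TensorProduct.ext' fun a x => ?_
      simp only [LinearMap.comp_apply, AlgEquiv.toLinearMap_apply, LinearMap.id_apply, AlgEquiv.symm_apply_apply,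
        LinearMap.lTensor_tmul]
      rw [← LinearMap.comp_apply, hJI, LinearMap.id_apply])
    (by
      refine LinearMap.ext fun c => ?_
      obtain ⟨t, rfl⟩ := e.surjective c
      simp only [LinearMap.comp_apply, AlgEquiv.toLinearMap_apply, AlgEquiv.symm_apply_apply,
        LinearMap.mulRight_apply, hpdef, ← map_mul]
      congr 1
      induction t using TensorProduct.induction_on with
      | zero => simp
      | add s t hs ht => simp [hs, ht, add_mul]
      | tmul a φ =>
        rw [LinearMap.lTensor_tmul, LinearMap.lTensor_tmul, Algebra.TensorProduct.tmul_mul_tmul, mul_one,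
          ← LinearMap.comp_apply, hIJ, LinearMap.mulRight_apply])
    (LinearMap.lTensor B I') (LinearMap.lTensor B J')
    (by rw [← LinearMap.lTensor_comp, hJI', LinearMap.lTensor_id])
    (by
      refine TensorProduct.ext' fun b φ => ?_
      rw [LinearMap.comp_apply, LinearMap.lTensor_tmul, LinearMap.lTensor_tmul, LinearMap.mulRight_apply, hqdef,
        Algebra.TensorProduct.tmul_mul_tmul, mul_one, ← LinearMap.comp_apply, hIJ', LinearMap.mulRight_apply])
    fun m _ => by
      have he := congrFun (Module.rankAtStalk_eq_of_equiv e.toLinearEquiv) ⟨m, Ideal.IsMaximal.isPrime' m⟩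
      rw [Module.rankAtStalk_tensorProduct, Module.rankAtStalk_tensorProduct, Pi.mul_apply, Pi.mul_apply,
        ← hdeg m, rankAtStalk_end, rankAtStalk_end] at he
      rw [Module.rankAtStalk_tensorProduct, Module.rankAtStalk_tensorProduct, Pi.mul_apply, Pi.mul_apply, ← hdeg m,
        Nat.mul_self_inj.1 (Nat.eq_of_mul_eq_mul_left (rankAtStalk_pos A _) he)]
  refine nonempty_algEquiv_corner p q x y hxy hyx hpx hxq hqy hyp
    (e.toLinearMap ∘ₗ (TensorProduct.mk R A (Module.End R P)).flip π₀)
    ((TensorProduct.rid R A).toLinearMap ∘ₗ LinearMap.lTensor A (f ∘ₗ J) ∘ₗ e.symm.toLinearMap)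
    rfl (fun a b => by
      simp only [LinearMap.comp_apply, LinearMap.flip_apply, TensorProduct.mk_apply, AlgEquiv.toLinearMap_apply,
        ← map_mul, Algebra.TensorProduct.tmul_mul_tmul, hπ])
    (fun a => by simp [J, π₀, hf]) (fun c => by
      obtain ⟨t, rfl⟩ := e.surjective c
      simp only [LinearMap.comp_apply, LinearMap.flip_apply, TensorProduct.mk_apply, AlgEquiv.toLinearMap_apply,
        AlgEquiv.symm_apply_apply, LinearEquiv.coe_coe, hpdef, ← map_mul]
      congr 1
      induction t using TensorProduct.induction_on with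
      | zero => simp
      | add s t hs ht => simp only [map_add, TensorProduct.add_tmul, add_mul, mul_add, hs, ht]
      | tmul a φ =>
        rw [LinearMap.lTensor_tmul, TensorProduct.rid_tmul, TensorProduct.smul_tmul, Algebra.TensorProduct.tmul_mul_tmul,
          Algebra.TensorProduct.tmul_mul_tmul, one_mul, mul_one, hcorner]
        rfl)
    ((TensorProduct.mk R B (Module.End R Q)).flip ρ₀)
    ((TensorProduct.rid R B).toLinearMap ∘ₗ LinearMap.lTensor B (g ∘ₗ J'))
    rfl (fun a b => by simp [Algebra.TensorProduct.tmul_mul_tmul, hρ])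
    (fun a => by simp [J', ρ₀, hg]) (fun c => by
      simp only [LinearMap.comp_apply, LinearMap.flip_apply, TensorProduct.mk_apply, LinearEquiv.coe_coe, hqdef]
      induction c using TensorProduct.induction_on with
      | zero => simp
      | add s t hs ht => simp only [map_add, TensorProduct.add_tmul, add_mul, mul_add, hs, ht]
      | tmul a φ =>
        rw [LinearMap.lTensor_tmul, TensorProduct.rid_tmul, TensorProduct.smul_tmul, Algebra.TensorProduct.tmul_mul_tmul,
          Algebra.TensorProduct.tmul_mul_tmul, one_mul, mul_one, hcorner']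
        rfl)

end Groth.Agent.LGLib
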