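import Groth.Agent.LGLib.Basic

/-!
# Local-global rings: points of quasi-compact opens of affine space and of vector bundles
-/

set_option autoImplicit false
set_option backward.isDefEq.respectTransparency false

universe u v

namespace Groth.Agent.LGLib

/-- The image of `Spec T → Spec S` avoids `V(t)` exactly when the images of `t` generate the unit ideal. -/
lemma range_comap_subset_iff {S T : Type*} [CommRing S] [CommRing T] (φ : S →+* T) (t : Set S) :
    Set.range (PrimeSpectrum.comap φ) ⊆ (PrimeSpectrum.zeroLocus t)ᶜ ↔ Ideal.span (φ '' t) = ⊤ := by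
  constructor
  · intro h
    by_contra hne
    obtain ⟨m, hm, hle⟩ := Ideal.exists_le_maximal _ hne
    refine h ⟨⟨m, hm.isPrime⟩, rfl⟩ ?_
    rw [PrimeSpectrum.mem_zeroLocus]
    exact fun f hf => hle (Ideal.subset_span ⟨f, hf, rfl⟩)
  · rintro h _ ⟨p, rfl⟩ hp
    rw [PrimeSpectrum.mem_zeroLocus] at hp
    refine p.2.ne_top (top_le_iff.1 (h ▸ Ideal.span_le.2 ?_))
    rintro _ ⟨f, hf, rfl⟩
    exact hp hf

/-- A quasi-compact open of a prime spectrum is the complement of the zero locus of a finite set. -/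
lemma exists_finset {S : Type*} [CommRing S] (U : Set (PrimeSpectrum S)) (ho : IsOpen U) (hc : IsCompact U) :
    ∃ t : Finset S, U = (PrimeSpectrum.zeroLocus (t : Set S))ᶜ := by
  obtain ⟨t, ht⟩ := PrimeSpectrum.isCompact_isOpen_iff.1 ⟨hc, ho⟩
  exact ⟨t, ht.symm⟩

/-- A field valued point lies in `D(t)` iff some member of `t` does not vanish there. -/
lemma span_eq_top_iff_exists {T : Type*} [CommRing T] (hT : IsField T) {S : Type*} (φ : S → T) (t : Set S) :
    Ideal.span (φ '' t) = ⊤ ↔ ∃ f ∈ t, φ f ≠ 0 := by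
  letI := hT.toField
  constructor
  · intro h
    by_contra hcon
    push Not at hcon
    have hb : Ideal.span (φ '' t) = ⊥ := by
      rw [eq_bot_iff, Ideal.span_le]
      rintro _ ⟨f, hf, rfl⟩
      simpa using hcon f hf
    exact bot_ne_top (hb.symm.trans h)
  · rintro ⟨f, hf, hne⟩
    exact Ideal.eq_top_of_isUnit_mem _ (Ideal.subset_span ⟨f, hf, rfl⟩) (isUnit_iff_ne_zero.2 hne)

variable {R : Type u} [CommRing R]

/-- Finitely many polynomials which do not vanish simultaneously over any residue field generate the unit ideal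
at some point. -/
theorem exists_point (hR : LGRing.IsLGRing R) {n : ℕ} (t : Finset (MvPolynomial (Fin n) R))
    (h : ∀ (m : Ideal R) [m.IsMaximal], ∃ x : Fin n → R ⧸ m, ∃ f ∈ t, MvPolynomial.aeval x f ≠ 0) :
    ∃ x : Fin n → R, Ideal.span ((fun f => MvPolynomial.aeval x f) '' (t : Set (MvPolynomial (Fin n) R))) = ⊤ := by
  classical
  set e := t.equivFin
  obtain ⟨z, hz⟩ := representsUnit_of_fintype hR (∑ k : Fin t.card, MvPolynomial.X (Sum.inr k) *
      MvPolynomial.rename Sum.inl (e.symm k : MvPolynomial (Fin n) R) : MvPolynomial (Fin n ⊕ Fin t.card) R)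
    fun m _ => by
      obtain ⟨x, f, hf, hne⟩ := h m
      refine ⟨Sum.elim x (Pi.single (e ⟨f, hf⟩) 1), ?_⟩
      letI := Ideal.Quotient.field m
      refine isUnit_iff_ne_zero.2 ?_
      simp only [map_sum, map_mul, MvPolynomial.aeval_X, MvPolynomial.aeval_rename, Sum.elim_inr, Sum.elim_comp_inl]
      rw [Finset.sum_eq_single (e ⟨f, hf⟩) (fun k _ hk => by rw [Pi.single_eq_of_ne hk, zero_mul])
        (fun h => absurd (Finset.mem_univ _) h), Pi.single_eq_same, one_mul, Equiv.symm_apply_apply]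
      exact hne
  refine ⟨z ∘ Sum.inl, Ideal.eq_top_of_isUnit_mem _ ?_ hz⟩
  simp only [map_sum, map_mul, MvPolynomial.aeval_X, MvPolynomial.aeval_rename]
  exact Submodule.sum_mem _ fun k _ => Ideal.mul_mem_left _ _ (Ideal.subset_span ⟨_, (e.symm k).2, rfl⟩)

/-- Coordinates on the vector bundle of a finite projective module. -/
theorem exists_coordinates (D : Type v) [AddCommGroup D] [Module R D] [Module.Finite R D] [Module.Projective R D] :
    ∃ (n : ℕ) (Θ : SymmetricAlgebra R D →ₐ[R] MvPolynomial (Fin n) R)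
      (Ψ : MvPolynomial (Fin n) R →ₐ[R] SymmetricAlgebra R D), Ψ.comp Θ = AlgHom.id R _ := by
  classical
  obtain ⟨n, π, ι, -, -, hπι⟩ := Module.Finite.exists_comp_eq_id_of_projective R D
  refine ⟨n, SymmetricAlgebra.lift
      ((∑ i, (LinearMap.proj i : (Fin n → R) →ₗ[R] R).smulRight (MvPolynomial.X i : MvPolynomial (Fin n) R)) ∘ₗ ι),
    MvPolynomial.aeval fun i => SymmetricAlgebra.ι R D (π (Pi.single i 1)), ?_⟩
  refine SymmetricAlgebra.algHom_ext (LinearMap.ext fun d => ?_)
  show MvPolynomial.aeval (fun i => SymmetricAlgebra.ι R D (π (Pi.single i 1))) (SymmetricAlgebra.lift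
    ((∑ i, (LinearMap.proj i : (Fin n → R) →ₗ[R] R).smulRight (MvPolynomial.X i : MvPolynomial (Fin n) R)) ∘ₗ ι)
      (SymmetricAlgebra.ι R D d)) = SymmetricAlgebra.ι R D d
  simp only [SymmetricAlgebra.lift_ι_apply, LinearMap.comp_apply,
    LinearMap.sum_apply, LinearMap.smulRight_apply, LinearMap.proj_apply, map_sum, map_smul, MvPolynomial.aeval_X]
  conv_rhs => rw [show d = π (ι d) from (LinearMap.congr_fun hπι d).symm, pi_eq_sum_univ' (ι d)]
  simp only [map_sum, map_smul]

section
variable {D : Type u} [AddCommGroup D] [Module R D] [Module.Finite R D] [Module.Projective R D]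

omit [Module.Finite R D] [Module.Projective R D] in
lemma lift_restrict {A : Type u} [CommRing A] [Algebra R A] (F : SymmetricAlgebra R D →ₐ[R] A) :
    SymmetricAlgebra.lift (F.toLinearMap ∘ₗ SymmetricAlgebra.ι R D) = F := by
  refine SymmetricAlgebra.algHom_ext (LinearMap.ext fun d => ?_)
  exact SymmetricAlgebra.lift_ι_apply _ _

/-- Points of a quasi-compact open of a vector bundle over a local-global ring. -/
theorem exists_section (hR : LGRing.IsLGRing R) (t : Finset (SymmetricAlgebra R D))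
    (h : ∀ (m : Ideal R) [m.IsMaximal], ∃ φ : D →ₗ[R] R ⧸ m, ∃ f ∈ t, SymmetricAlgebra.lift φ f ≠ 0) :
    ∃ φ : D →ₗ[R] R, Ideal.span ((fun f => SymmetricAlgebra.lift φ f) '' (t : Set (SymmetricAlgebra R D))) = ⊤ := by
  classical
  obtain ⟨n, Θ, Ψ, hΨ⟩ := exists_coordinates (R := R) D
  obtain ⟨x, hx⟩ := exists_point hR (t.image Θ) fun m _ => by
    obtain ⟨φ, f, hf, hne⟩ := h m
    set x : Fin n → R ⧸ m := fun i => SymmetricAlgebra.lift φ (Ψ (MvPolynomial.X i))
    refine ⟨x, Θ f, Finset.mem_image_of_mem _ hf, ?_⟩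
    have e : (MvPolynomial.aeval x).comp Θ = SymmetricAlgebra.lift φ := by
      have e1 : MvPolynomial.aeval x = (SymmetricAlgebra.lift φ).comp Ψ := by
        refine MvPolynomial.algHom_ext fun i => ?_
        simp [x]
      rw [e1, AlgHom.comp_assoc, hΨ, AlgHom.comp_id]
    rw [← AlgHom.comp_apply, e]
    exact hne
  refine ⟨((MvPolynomial.aeval x).comp Θ).toLinearMap ∘ₗ SymmetricAlgebra.ι R D, ?_⟩
  rw [lift_restrict]
  rw [Finset.coe_image, Set.image_image] at hx
  exact hx

/-- Over an infinite residue field an element outside `m` does not vanish identically on the closed fibre. -/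
theorem exists_nonvanishing (m : Ideal R) [m.IsMaximal] [Infinite (R ⧸ m)] {f : SymmetricAlgebra R D}
    (hf : f ∉ m.map (algebraMap R (SymmetricAlgebra R D))) :
    ∃ φ : D →ₗ[R] R ⧸ m, SymmetricAlgebra.lift φ f ≠ 0 := by
  letI := Ideal.Quotient.field m
  obtain ⟨n, Θ, Ψ, hΨ⟩ := exists_coordinates (R := R) D
  have hne : MvPolynomial.map (Ideal.Quotient.mk m) (Θ f) ≠ 0 := by
    intro h0
    refine hf ?_
    have hmem : Θ f ∈ m.map (MvPolynomial.C : R →+* MvPolynomial (Fin n) R) := by
      have : Θ f ∈ RingHom.ker (MvPolynomial.map (σ := Fin n) (Ideal.Quotient.mk m)) := h0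
      rwa [MvPolynomial.ker_map, Ideal.mk_ker] at this
    have := Ideal.mem_map_of_mem Ψ hmem
    rw [← AlgHom.comp_apply, hΨ, AlgHom.id_apply] at this
    have e2 : (Ideal.map Ψ (Ideal.map (MvPolynomial.C : R →+* MvPolynomial (Fin n) R) m)) =
        m.map (algebraMap R (SymmetricAlgebra R D)) := by
      rw [← Ideal.map_coe Ψ, Ideal.map_map, ← MvPolynomial.algebraMap_eq, AlgHom.coe_ringHom_mk]
      exact congrArg (fun g => Ideal.map g m) Ψ.comp_algebraMap
    rwa [e2] at this
  obtain ⟨x, hx⟩ : ∃ x : Fin n → R ⧸ m, MvPolynomial.eval x (MvPolynomial.map (Ideal.Quotient.mk m) (Θ f)) ≠ 0 := by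
    by_contra hcon
    push Not at hcon
    exact hne (MvPolynomial.funext fun x => by simpa using hcon x)
  refine ⟨((MvPolynomial.aeval x).comp Θ).toLinearMap ∘ₗ SymmetricAlgebra.ι R D, ?_⟩
  rw [lift_restrict, AlgHom.comp_apply]
  rwa [MvPolynomial.eval_map] at hx

end

end Groth.Agent.LGLib
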