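import Groth.Agent.LGLib.DeformFamily
import Groth.Agent.HilbDescLib.AffinePoints

/-! Charts on schemes representing linked Grassmannians. -/

set_option autoImplicit false
set_option backward.isDefEq.respectTransparency false
set_option backward.isDefEq.respectTransparency.types false
set_option linter.style.haveILetI false
set_option maxHeartbeats 800000

universe u

open AlgebraicGeometry CategoryTheory TensorProduct Module

namespace Groth.Agent.LGLib

open HilbDescLib

variable {R : Type u} [CommRing R] {d r n : ℕ}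

/-- Representation data of the linked Grassmannian functor. -/
structure Rep (f g : Fin n → ((Fin d → R) →ₗ[R] (Fin d → R))) (r : ℕ) (X : Over (Spec (CommRingCat.of R))) where
  /-- the bijections -/
  e : ∀ A : CommAlgCat.{u} R, (test A ⟶ X) ≃ W4c1limliniiii.LGPoints R d r n f g A
  he : ∀ (A B : CommAlgCat.{u} R) (φ : A ⟶ B) (x : test A ⟶ X) (x' : test B ⟶ X),
    x'.left = Spec.map (CommRingCat.ofHom φ.hom.toRingHom) ≫ x.left →
      ∀ i, (e B x').1 i = Module.Grassmannian.map φ.hom ((e A x).1 i)

variable {f g : Fin n → ((Fin d → R) →ₗ[R] (Fin d → R))} {s : R} {X : Over (Spec (CommRingCat.of R))}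

/-- A point with values in an algebra. -/
abbrev APt (X : Over (Spec (CommRingCat.of R))) (A : Type u) [CommRing A] [Algebra R A] : Type u :=
  test (CommAlgCat.of R A) ⟶ X

variable {A B : Type u} [CommRing A] [Algebra R A] [CommRing B] [Algebra R B]
variable {K L : Type u} [Field K] [Algebra R K] [Field L] [Algebra R L]

/-- Composition with an algebra map. -/
noncomputable def pushA (φ : A →ₐ[R] B) (x : APt X A) : APt X B :=
  push (X := X) (algHomMk (A := CommAlgCat.of R A) (C := CommAlgCat.of R B) φ) x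

theorem pushA_left (φ : A →ₐ[R] B) (x : APt X A) :
    (pushA φ x).left = Spec.map (CommRingCat.ofHom φ.toRingHom) ≫ x.left := rfl

/-- The image of a field valued point. -/
noncomputable def pointOf (x : APt X K) : X.left := x.left (IsLocalRing.closedPoint K)

theorem range_left (x : APt X K) : Set.range x.left.base = {pointOf x} := by
  refine Set.eq_singleton_iff_unique_mem.2 ⟨⟨_, rfl⟩, ?_⟩
  rintro _ ⟨z, rfl⟩
  haveI : Subsingleton (PrimeSpectrum K) := inferInstance
  exact congrArg x.left.base (Subsingleton.elim (α := PrimeSpectrum K) z (IsLocalRing.closedPoint K))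

theorem pointOf_pushA (φ : A →ₐ[R] L) (x : APt X A) :
    pointOf (pushA φ x) = x.left ⟨RingHom.ker φ.toRingHom, RingHom.ker_isPrime _⟩ := by
  show (Spec.map (CommRingCat.ofHom φ.toRingHom) ≫ x.left) (IsLocalRing.closedPoint L) = _
  rw [Scheme.Hom.comp_apply]
  congr 1
  refine PrimeSpectrum.ext ?_
  show Ideal.comap φ.toRingHom (IsLocalRing.maximalIdeal L) = _
  rw [IsLocalRing.maximalIdeal_eq_bot]
  rfl

theorem pointOf_pushA_field (φ : K →ₐ[R] L) (x : APt X K) : pointOf (pushA φ x) = pointOf x := by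
  rw [pointOf_pushA]
  exact congrArg x.left.base (Subsingleton.elim (α := PrimeSpectrum K) _ (IsLocalRing.closedPoint K))

variable (P : Rep f g r X)

/-- The tuple of a point. -/
noncomputable def Rep.tup (x : APt X A) : Fin (n + 1) → Grassmannian A (Mo R A d) (d - r) :=
  (P.e (CommAlgCat.of R A) x).1

theorem Rep.tup_mem (x : APt X A) : P.tup x ∈ W4c1limliniiii.LGPoints R d r n f g A :=
  (P.e (CommAlgCat.of R A) x).2

theorem Rep.tup_push (φ : A →ₐ[R] B) (x : APt X A) : P.tup (pushA φ x) = mapTup φ (P.tup x) :=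
  funext fun i => P.he (CommAlgCat.of R A) (CommAlgCat.of R B) (algHomMk φ) x _ rfl i

theorem Rep.tup_injective : Function.Injective (P.tup : APt X A → _) :=
  fun _ _ h => (P.e (CommAlgCat.of R A)).injective (Subtype.ext h)

theorem Rep.exists_pt {V : Fin (n + 1) → Grassmannian A (Mo R A d) (d - r)}
    (hV : V ∈ W4c1limliniiii.LGPoints R d r n f g A) : ∃ x : APt X A, P.tup x = V :=
  ⟨(P.e (CommAlgCat.of R A)).symm ⟨V, hV⟩, by rw [Rep.tup, Equiv.apply_symm_apply]⟩

/-- Every point is the image of a universal field valued point. -/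
theorem exists_resPt (y : X.left) : ∃ (K : Type u) (_ : Field K) (_ : Algebra R K) (x₀ : APt X K),
    pointOf x₀ = y ∧ ∀ (L : Type u) [Field L] [Algebra R L] (x : APt X L), pointOf x = y →
      ∃ ι : K →ₐ[R] L, x = pushA ι x₀ := by
  letI : Algebra R (X.left.residueField y) :=
    (Spec.preimage (X.left.fromSpecResidueField y ≫ X.hom)).hom.toAlgebra
  refine ⟨X.left.residueField y, inferInstance, inferInstance,
    Over.homMk (X.left.fromSpecResidueField y) (Spec.map_preimage (X.left.fromSpecResidueField y ≫ X.hom)).symm,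
    Scheme.fromSpecResidueField_apply y _, ?_⟩
  intro L _ _ x hx
  obtain ⟨p, hp⟩ : ∃ p : Σ z : X.left, X.left.residueField z ⟶ CommRingCat.of L,
      (Scheme.SpecToEquivOfField L X.left).symm p = x.left := ⟨_, (Scheme.SpecToEquivOfField L X.left).symm_apply_apply _⟩
  obtain ⟨z, φ⟩ := p
  change Spec.map φ ≫ X.left.fromSpecResidueField z = x.left at hp
  obtain rfl : z = y := by
    rw [← hx, pointOf, ← hp, Scheme.Hom.comp_apply]
    exact (Scheme.fromSpecResidueField_apply z _).symm
  have hc : Spec.preimage (X.left.fromSpecResidueField z ≫ X.hom) ≫ φ = CommRingCat.ofHom (algebraMap R L) :=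
    Spec.map_injective (by
      rw [Spec.map_comp, Spec.map_preimage, ← Category.assoc, hp]
      exact Over.w x)
  refine ⟨{ φ.hom with commutes' := fun a => congrArg (fun m : CommRingCat.of R ⟶ _ => m.hom a) hc }, ?_⟩
  exact Over.OverMorphism.ext hp.symm

variable {P} {hrd : r ≤ d}

/-- The points of a chart. -/
def chartSet (P : Rep f g r X) (hrd : r ≤ d) (D : Datum n d r) : Set X.left :=
  {y | ∃ (K : Type u) (_ : Field K) (_ : Algebra R K) (x : APt X K),
    pointOf x = y ∧ InChart f g D hrd (P.tup x)}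

theorem mem_chartSet_iff {D : Datum n d r} (x : APt X K) :
    pointOf x ∈ chartSet P hrd D ↔ InChart f g D hrd (P.tup x) := by
  refine ⟨?_, fun h => ⟨K, inferInstance, inferInstance, x, rfl, h⟩⟩
  rintro ⟨L, _, _, x', hx', hC⟩
  obtain ⟨K₀, _, _, x₀, hx₀, huniv⟩ := exists_resPt (pointOf x)
  obtain ⟨ι, rfl⟩ := huniv K x rfl
  obtain ⟨ι', rfl⟩ := huniv L x' hx'
  rw [P.tup_push] at hC ⊢
  exact (inChart_of_map ι' (P.tup_mem x₀) hC).map ι

theorem exists_away_section {D : Datum n d r} {y : X.left} (hy : y ∈ chartSet P hrd D) :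
    ∃ (A' : Type u) (_ : CommRing A') (_ : Algebra R A') (i : APt X A'), IsOpenImmersion i.left ∧
      y ∈ Set.range i.left.base ∧ InChart f g D hrd (P.tup i) := by
  obtain ⟨V, hV, hyV, -⟩ := exists_isAffineOpen_mem_and_subset (show y ∈ (⊤ : X.left.Opens) from trivial)
  let A : CommAlgCat.{u} R := chartRing X ⟨V, hV⟩
  let c : APt X A := chartPt X ⟨V, hV⟩
  obtain ⟨p, hp⟩ : y ∈ Set.range hV.fromSpec.base := by rw [hV.range_fromSpec]; exact hyV
  let p' : PrimeSpectrum A := p
  let φ : A →ₐ[R] p'.asIdeal.ResidueField := IsScalarTower.toAlgHom R A _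
  have hpt : pointOf (pushA φ c) = y := by
    rw [pointOf_pushA, ← hp]
    refine congrArg hV.fromSpec.base (PrimeSpectrum.ext ?_)
    exact Ideal.ker_algebraMap_residueField p'.asIdeal
  rw [← hpt, mem_chartSet_iff, P.tup_push] at hy
  obtain ⟨h, hh, hC⟩ := exists_inChart_away φ (P.tup_mem c) hy
  refine ⟨Localization.Away h, inferInstance, inferInstance,
    pushA (IsScalarTower.toAlgHom R A (Localization.Away h)) c, ?_, ?_, by rwa [P.tup_push]⟩
  · rw [pushA_left]
    haveI : IsOpenImmersion (Spec.map (CommRingCat.ofHom (algebraMap A (Localization.Away h)))) :=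
      IsOpenImmersion.of_isLocalization h
    exact inferInstanceAs (IsOpenImmersion (Spec.map (CommRingCat.ofHom (algebraMap A (Localization.Away h))) ≫ hV.fromSpec))
  · rw [pushA_left, Scheme.Hom.comp_base, TopCat.coe_comp, Set.range_comp]
    refine ⟨p, ?_, hp⟩
    show p' ∈ Set.range (PrimeSpectrum.comap (algebraMap A (Localization.Away h)))
    rw [PrimeSpectrum.localization_away_comap_range (Localization.Away h) h]
    intro hmem
    exact hh (Ideal.algebraMap_residueField_eq_zero.2 hmem)

theorem range_subset_chartSet {D : Datum n d r} {i : APt X A} (hC : InChart f g D hrd (P.tup i)) :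
    Set.range i.left.base ⊆ chartSet P hrd D := by
  rintro _ ⟨q, rfl⟩
  let q' : PrimeSpectrum A := q
  let φ : A →ₐ[R] q'.asIdeal.ResidueField := IsScalarTower.toAlgHom R A _
  refine ⟨_, inferInstance, inferInstance, pushA φ i, ?_, by rw [P.tup_push]; exact hC.map φ⟩
  rw [pointOf_pushA]
  exact congrArg i.left.base (PrimeSpectrum.ext (Ideal.ker_algebraMap_residueField q'.asIdeal))

theorem isOpen_chartSet (D : Datum n d r) : IsOpen (chartSet P hrd D) := by
  rw [isOpen_iff_forall_mem_open]
  intro y hy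
  obtain ⟨A', _, _, i, hi, hyi, hC⟩ := exists_away_section hy
  exact ⟨_, range_subset_chartSet hC, i.left.isOpenEmbedding.isOpen_range, hyi⟩

/-! ### the universal chart -/

variable (f g hrd)

/-- The polynomial ring of parameters. -/
abbrev ParRing (R : Type u) [CommRing R] (d r : ℕ) : Type u := MvPolynomial (Fin r × Fin (d - r)) R

/-- The determinant of the universal parameter. -/
noncomputable def univDet (D : Datum n d r) : ParRing R d r :=
  hdet f g D hrd fun a b => MvPolynomial.X (a, b)

/-- The ring of a chart. -/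
abbrev ChartAlg (D : Datum n d r) : Type u := Localization.Away (univDet f g hrd D)

/-- The universal parameter. -/
noncomputable def univPar (D : Datum n d r) (a : Fin r) (b : Fin (d - r)) : ChartAlg f g hrd D :=
  IsScalarTower.toAlgHom R (ParRing R d r) (ChartAlg f g hrd D) (MvPolynomial.X (a, b))

theorem isUnit_univPar (D : Datum n d r) : IsUnit (hdet f g D hrd (univPar f g hrd D)) := by
  rw [show univPar f g hrd D = fun a b =>
    IsScalarTower.toAlgHom R (ParRing R d r) (ChartAlg f g hrd D) (MvPolynomial.X (a, b)) from rfl, ← hdet_map]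
  exact IsLocalization.Away.algebraMap_isUnit (univDet f g hrd D)

variable {f g hrd}

theorem chartAlg_hom_ext {D : Datum n d r} {φ ψ : ChartAlg f g hrd D →ₐ[R] A}
    (h : ∀ a b, φ (univPar f g hrd D a b) = ψ (univPar f g hrd D a b)) : φ = ψ := by
  refine IsLocalization.algHom_ext (Submonoid.powers (univDet f g hrd D)) ?_
  exact MvPolynomial.algHom_ext fun p => h p.1 p.2

theorem exists_chartHom {D : Datum n d r} {x : Fin r → Fin (d - r) → A} (hx : IsUnit (hdet f g D hrd x)) :
    ∃ φ : ChartAlg f g hrd D →ₐ[R] A, ∀ a b, φ (univPar f g hrd D a b) = x a b := by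
  let ev : ParRing R d r →ₐ[R] A := MvPolynomial.aeval fun p => x p.1 p.2
  have hev : (fun a b => ev (MvPolynomial.X (a, b))) = x := funext fun a => funext fun b => MvPolynomial.aeval_X _ _
  have hu : IsUnit (ev (univDet f g hrd D)) := by rw [univDet, hdet_map, hev]; exact hx
  refine ⟨awayLift ev (univDet f g hrd D) hu, fun a b => ?_⟩
  exact (AlgHom.congr_fun (awayLift_comp ev _ hu) _).trans (congrFun (congrFun hev a) b)

variable (hI : ∀ i, (f i).comp (g i) = s • LinearMap.id ∧ (g i).comp (f i) = s • LinearMap.id)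

/-- The universal point of a chart. -/
noncomputable def chartMor (P : Rep f g r X) (hrd : r ≤ d) (D : Datum n d r) : APt X (ChartAlg f g hrd D) :=
  (P.exists_pt (chartTup_mem f g D hrd hI (isUnit_univPar f g hrd D))).choose

theorem tup_chartMor (D : Datum n d r) :
    P.tup (chartMor hI P hrd D) = chartTup f g D hrd (isUnit_univPar f g hrd D) :=
  (P.exists_pt (chartTup_mem f g D hrd hI (isUnit_univPar f g hrd D))).choose_spec

theorem pushA_chartMor_injective {D : Datum n d r} {φ ψ : ChartAlg f g hrd D →ₐ[R] A}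
    (h : pushA φ (chartMor hI P hrd D) = pushA ψ (chartMor hI P hrd D)) : φ = ψ := by
  refine chartAlg_hom_ext fun a b => ?_
  have h' := congrArg P.tup h
  have hu : ∀ χ : ChartAlg f g hrd D →ₐ[R] A, IsUnit (hdet f g D hrd fun a b => χ (univPar f g hrd D a b)) :=
    fun χ => by rw [← hdet_map]; exact (isUnit_univPar f g hrd D).map χ
  rw [P.tup_push, P.tup_push, tup_chartMor hI, mapTup_chartTup f g D hrd φ _ (hu φ),
    mapTup_chartTup f g D hrd ψ _ (hu ψ)] at h'
  exact congrFun (congrFun (param_unique f g D hrd (hu φ) fun a => by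
    rw [h']; exact gvec_mem f g D hrd (hu ψ) a) a) b

theorem exists_lift_chart {D : Datum n d r} {i : APt X A} (hC : InChart f g D hrd (P.tup i)) :
    ∃ φ : ChartAlg f g hrd D →ₐ[R] A, pushA φ (chartMor hI P hrd D) = i := by
  obtain ⟨x, hx, hV⟩ := hC
  obtain ⟨φ, hφ⟩ := exists_chartHom hx
  refine ⟨φ, P.tup_injective ?_⟩
  have hφ' : (fun a b => φ (univPar f g hrd D a b)) = x := funext fun a => funext (hφ a)
  have hx' : IsUnit (hdet f g D hrd fun a b => φ (univPar f g hrd D a b)) := by rw [hφ']; exact hx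
  rw [P.tup_push, tup_chartMor hI, mapTup_chartTup f g D hrd φ _ hx', ← hV]
  subst hφ'
  rfl

instance mono_chartMor (D : Datum n d r) : Mono (chartMor hI P hrd D) := by
  refine ⟨fun {Z} a b h => hom_ext_points fun A t => ?_⟩
  have h' : t ≫ a ≫ chartMor hI P hrd D = t ≫ b ≫ chartMor hI P hrd D := by rw [h]
  have key : ∀ a' : test A ⟶ test (CommAlgCat.of R (ChartAlg f g hrd D)),
      pushA (A := ChartAlg f g hrd D) (B := A) (testHom a').hom (chartMor hI P hrd D) = a' ≫ chartMor hI P hrd D := by
    intro a'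
    refine Over.OverMorphism.ext ?_
    show Spec.map _ ≫ _ = a'.left ≫ _
    rw [testHom_left a']
    rfl
  have h2 : (testHom (t ≫ a)).hom = (testHom (t ≫ b)).hom :=
    pushA_chartMor_injective hI (by rw [key, key, Category.assoc, Category.assoc]; exact h')
  refine Over.OverMorphism.ext ?_
  rw [testHom_left (t ≫ a), testHom_left (t ≫ b), h2]

theorem range_chartMor (D : Datum n d r) :
    Set.range (chartMor hI P hrd D).left.base = chartSet P hrd D := by
  refine (range_subset_chartSet ⟨_, isUnit_univPar f g hrd D, (tup_chartMor hI D).symm⟩).antisymm ?_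
  rintro y ⟨K, _, _, x, rfl, hC⟩
  obtain ⟨φ, rfl⟩ := exists_lift_chart hI hC
  exact ⟨_, (pointOf_pushA φ _).symm⟩

theorem isOpenImmersion_chartMor (D : Datum n d r) : IsOpenImmersion (chartMor hI P hrd D).left := by
  let Φ := (chartMor hI P hrd D).left
  have hΦ : Set.range Φ.base = chartSet P hrd D := range_chartMor hI D
  haveI : Mono Φ := inferInstance
  have loc : ∀ y ∈ chartSet P hrd D, ∃ W : (test (CommAlgCat.of R (ChartAlg f g hrd D))).left.Opens,
      (∀ q, Φ q = y → q ∈ W) ∧ IsOpenImmersion (W.ι ≫ Φ) := by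
    intro y hy
    obtain ⟨A', _, _, i, hi, hyi, hC⟩ := exists_away_section hy
    obtain ⟨φ, hφ⟩ := exists_lift_chart hI hC
    let σ := Spec.map (CommRingCat.ofHom φ.toRingHom)
    have hσ : σ ≫ Φ = i.left := by rw [← hφ]; rfl
    let W : (test (CommAlgCat.of R (ChartAlg f g hrd D))).left.Opens := Φ ⁻¹ᵁ i.left.opensRange
    refine ⟨W, fun q hq => ?_, ?_⟩
    · show Φ q ∈ Set.range i.left.base
      rw [hq]; exact hyi
    have hr : Set.range (W.ι ≫ Φ).base ⊆ Set.range i.left.base := by
      rintro _ ⟨q, rfl⟩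
      exact q.2
    let τ := IsOpenImmersion.lift i.left (W.ι ≫ Φ) hr
    have hτ : τ ≫ i.left = W.ι ≫ Φ := IsOpenImmersion.lift_fac _ _ _
    haveI : Mono τ := by
      haveI : Mono (W.ι ≫ Φ) := mono_comp _ _
      haveI : Mono (τ ≫ i.left) := by rw [hτ]; infer_instance
      exact mono_of_mono τ i.left
    have hσW : Set.range σ.base ⊆ Set.range W.ι.base := by
      rw [Scheme.Opens.range_ι]
      rintro _ ⟨q, rfl⟩
      refine ⟨q, ?_⟩
      rw [← hσ]
      rfl
    haveI : IsSplitEpi τ := ⟨⟨⟨IsOpenImmersion.lift W.ι σ hσW, by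
      rw [← cancel_mono i.left, Category.assoc, hτ, IsOpenImmersion.lift_fac_assoc, hσ]
      exact (Category.id_comp _).symm⟩⟩⟩
    haveI : IsIso τ := isIso_of_mono_of_isSplitEpi τ
    rw [← hτ]
    infer_instance
  refine IsOpenImmersion.of_forall_source_exists Φ (fun q q' h => ?_) fun q => ?_
  · obtain ⟨W, hW, hWi⟩ := loc (Φ q) (hΦ.le ⟨q, rfl⟩)
    have := (W.ι ≫ Φ).isOpenEmbedding.injective (a₁ := ⟨q, hW q rfl⟩) (a₂ := ⟨q', hW q' h.symm⟩) h
    exact congrArg Subtype.val this
  · obtain ⟨W, hW, hWi⟩ := loc (Φ q) (hΦ.le ⟨q, rfl⟩)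
    exact ⟨W, W.ι, inferInstance, by rw [Scheme.Opens.opensRange_ι]; exact hW q rfl, hWi⟩

include hI in
theorem chartSet_isPreirreducible [IsDomain R] (D : Datum n d r) : IsPreirreducible (chartSet P hrd D) := by
  rw [← range_chartMor hI D]
  by_cases h : univDet f g hrd D = 0
  · haveI : Subsingleton (ChartAlg f g hrd D) :=
      IsLocalization.uniqueOfZeroMem (S := ChartAlg f g hrd D) (show (0 : ParRing R d r) ∈ Submonoid.powers _ from
        ⟨1, by simpa using h⟩) |>.instSubsingleton
    intro u v _ _ hu _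
    obtain ⟨_, ⟨q, rfl⟩, _⟩ := hu
    exact absurd (Subsingleton.elim (q : PrimeSpectrum (ChartAlg f g hrd D)).asIdeal ⊤)
      (q : PrimeSpectrum (ChartAlg f g hrd D)).isPrime.ne_top
  · haveI : IsDomain (ChartAlg f g hrd D) :=
      IsLocalization.isDomain_localization (powers_le_nonZeroDivisors_of_noZeroDivisors h)
    have hirr : IrreducibleSpace (PrimeSpectrum (ChartAlg f g hrd D)) := inferInstance
    have := (PreirreducibleSpace.isPreirreducible_univ (X := PrimeSpectrum (ChartAlg f g hrd D))).image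
      (chartMor hI P hrd D).left.base (chartMor hI P hrd D).left.continuous.continuousOn
    rwa [Set.image_univ] at this

/-! ### generisations -/

variable (hrd) in
theorem exists_generisation (x : APt X K) (G : Gener f g (P.tup x)) :
    ∃ x' : APt X G.L, P.tup x' = mapTup G.ψ G.W ∧ pointOf x' ⤳ pointOf x := by
  obtain ⟨w, hw⟩ := P.exists_pt G.mem
  refine ⟨pushA G.ψ w, by rw [P.tup_push, hw], ?_⟩
  have hx : x = pushA G.π w := P.tup_injective (by rw [P.tup_push, hw, G.special])
  have hpx : pointOf x = w.left ⟨RingHom.ker G.π.toRingHom, RingHom.ker_isPrime _⟩ := by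
    rw [← pointOf_pushA]; exact congrArg pointOf hx
  rw [pointOf_pushA, hpx]
  refine Specializes.map ?_ w.left.continuous
  exact (PrimeSpectrum.le_iff_specializes _ _).1 (fun a ha => G.ker_le a ha)

theorem rk_le_r (hrd : r ≤ d) {V : Fin (n + 1) → Grassmannian L (Mo R L d) (d - r)}
    (h : Fin n → ((Fin d → R) →ₗ[R] (Fin d → R))) {i j : ℕ} (hj : j ≤ n) :
    finrank L ((seqV V j).map (seqM h L i)) ≤ r :=
  (Submodule.finrank_map_le _ _).trans (finrank_tup hrd V hj).le

/-- Every point has an exact generisation with the same backward ranks. -/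
theorem exists_exact_F (hrd : r ≤ d) (hA : Axioms f g s) (x : APt X K) :
    ∃ (L : Type u) (_ : Field L) (_ : Algebra R L) (x' : APt X L),
      W4c1limliniiii.IsExact R d r n f g L (P.tup x') ∧ pointOf x' ⤳ pointOf x ∧
      ∀ i < n, rkG (seqM g L) (seqV (P.tup x')) i = rkG (seqM g K) (seqV (P.tup x)) i := by
  suffices H : ∀ (m : ℕ) (K : Type u) [Field K] [Algebra R K] (x : APt X K),
      n * r ≤ m + ∑ i ∈ Finset.range n, rkF (seqM f K) (seqV (P.tup x)) i →
      ∃ (L : Type u) (_ : Field L) (_ : Algebra R L) (x' : APt X L),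
        W4c1limliniiii.IsExact R d r n f g L (P.tup x') ∧ pointOf x' ⤳ pointOf x ∧
        ∀ i < n, rkG (seqM g L) (seqV (P.tup x')) i = rkG (seqM g K) (seqV (P.tup x)) i from
    H (n * r) K x (Nat.le_add_right _ _)
  intro m
  induction m using Nat.strong_induction_on with
  | _ m ih =>
    intro K _ _ x hm
    by_cases hE : W4c1limliniiii.IsExact R d r n f g K (P.tup x)
    · exact ⟨K, inferInstance, inferInstance, x, hE, specializes_rfl, fun _ _ => rfl⟩
    obtain ⟨G, hG, hlt⟩ := exists_gener_F hrd hA (P.tup_mem x) hE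
    obtain ⟨x', hx', hsp⟩ := exists_generisation x G
    have hle : ∑ i ∈ Finset.range n, G.gF i ≤ n * r := by
      refine (Finset.sum_le_card_nsmul _ _ r fun i hi => rk_le_r hrd f (Finset.mem_range.1 hi).le).trans ?_
      simp
    have hm0 : 0 < m := by omega
    obtain ⟨L, _, _, x'', h1, h2, h3⟩ := ih (m - 1) (by omega) G.L x' (by
      rw [hx']; show n * r ≤ m - 1 + ∑ i ∈ Finset.range n, G.gF i; omega)
    refine ⟨L, inferInstance, inferInstance, x'', h1, h2.trans hsp, fun i hi => ?_⟩
    rw [h3 i hi, hx']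
    exact hG i hi

/-- Every point has an exact generisation with the same forward ranks. -/
theorem exists_exact_G (hrd : r ≤ d) (hA : Axioms f g s) (x : APt X K) :
    ∃ (L : Type u) (_ : Field L) (_ : Algebra R L) (x' : APt X L),
      W4c1limliniiii.IsExact R d r n f g L (P.tup x') ∧ pointOf x' ⤳ pointOf x ∧
      ∀ i < n, rkF (seqM f L) (seqV (P.tup x')) i = rkF (seqM f K) (seqV (P.tup x)) i := by
  suffices H : ∀ (m : ℕ) (K : Type u) [Field K] [Algebra R K] (x : APt X K),
      n * r ≤ m + ∑ i ∈ Finset.range n, rkG (seqM g K) (seqV (P.tup x)) i →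
      ∃ (L : Type u) (_ : Field L) (_ : Algebra R L) (x' : APt X L),
        W4c1limliniiii.IsExact R d r n f g L (P.tup x') ∧ pointOf x' ⤳ pointOf x ∧
        ∀ i < n, rkF (seqM f L) (seqV (P.tup x')) i = rkF (seqM f K) (seqV (P.tup x)) i from
    H (n * r) K x (Nat.le_add_right _ _)
  intro m
  induction m using Nat.strong_induction_on with
  | _ m ih =>
    intro K _ _ x hm
    by_cases hE : W4c1limliniiii.IsExact R d r n f g K (P.tup x)
    · exact ⟨K, inferInstance, inferInstance, x, hE, specializes_rfl, fun _ _ => rfl⟩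
    obtain ⟨G, hG, hlt⟩ := exists_gener_G hrd hA (P.tup_mem x) hE
    obtain ⟨x', hx', hsp⟩ := exists_generisation x G
    have hle : ∑ i ∈ Finset.range n, G.gG i ≤ n * r := by
      refine (Finset.sum_le_card_nsmul _ _ r fun i hi => rk_le_r hrd g (Finset.mem_range.1 hi)).trans ?_
      simp
    have hm0 : 0 < m := by omega
    obtain ⟨L, _, _, x'', h1, h2, h3⟩ := ih (m - 1) (by omega) G.L x' (by
      rw [hx']; show n * r ≤ m - 1 + ∑ i ∈ Finset.range n, G.gG i; omega)
    refine ⟨L, inferInstance, inferInstance, x'', h1, h2.trans hsp, fun i hi => ?_⟩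
    rw [h3 i hi, hx']
    exact hG i hi

/-- A maximal point is exact, hence lies in a chart. -/
theorem exists_chart_of_maximal (hrd : r ≤ d) (hA : Axioms f g s) (y : X.left)
    (hy : ∀ z, z ⤳ y → z = y) : ∃ D : Datum n d r, y ∈ chartSet P hrd D := by
  obtain ⟨K, _, _, x, rfl, -⟩ := exists_resPt y
  obtain ⟨L, _, _, x', h1, h2, -⟩ := exists_exact_F (P := P) hrd hA x
  obtain ⟨D, hD⟩ := exists_inChart hrd hA (P.tup_mem x') h1
  exact ⟨D, by rw [← hy _ h2, mem_chartSet_iff]; exact hD⟩

end Groth.Agent.LGLib
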