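import Groth.Agent.LGLib.Idem

/-!
# Local-global rings: surjections between modules over Azumaya algebras
-/

set_option autoImplicit false
set_option backward.isDefEq.respectTransparency false

universe u v w

open scoped TensorProduct

namespace Groth.Agent.LGLib

section simple
variable {k : Type u} [Field k] {A : Type v} [Ring A] [Algebra k A] [FiniteDimensional k A] [IsSimpleRing A]

/-- Over a simple artinian algebra a module of smaller dimension is a quotient. -/
theorem exists_surjective_of_finrank_le (P Q : Type w) [AddCommGroup P] [Module A P] [Module k P] [IsScalarTower k A P]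
    [FiniteDimensional k P] [AddCommGroup Q] [Module A Q] [Module k Q] [IsScalarTower k A Q] [FiniteDimensional k Q]
    (h : Module.finrank k Q ≤ Module.finrank k P) : ∃ f : P →ₗ[A] Q, Function.Surjective f := by
  haveI : IsArtinianRing A := IsArtinianRing.of_finite k A
  obtain ⟨_, hiso, _⟩ := (isSimpleRing_isArtinianRing_iff.1 ⟨inferInstance, inferInstance⟩ :
    IsSemisimpleRing A ∧ IsIsotypic A A ∧ Nontrivial A)
  obtain ⟨S, hS⟩ := IsAtomic.exists_atom (Submodule A A)
  haveI : IsSimpleModule A S := isSimpleModule_iff_isAtom.2 hS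
  haveI : Nontrivial S := IsSimpleModule.nontrivial A S
  have hS' : IsIsotypicOfType A A S := hiso S
  have key : ∀ (X : Type w) [AddCommGroup X] [Module A X] [Module k X] [IsScalarTower k A X] [FiniteDimensional k X],
      ∃ a : ℕ, Nonempty (X ≃ₗ[A] (Fin a → S)) := fun X _ _ _ _ _ => by
    haveI : Module.Finite A X := Module.Finite.of_restrictScalars_finite k A X
    have hX : IsIsotypicOfType A X S := fun m _ => by
      obtain ⟨I, ⟨e⟩⟩ := IsSemisimpleRing.exists_linearEquiv_ideal_of_isSimpleModule A m
      haveI : IsSimpleModule A I := IsSimpleModule.congr e.symm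
      exact ⟨e.trans (hS' I).some⟩
    exact hX.linearEquiv_fun
  obtain ⟨a, ⟨ea⟩⟩ := key P
  obtain ⟨b, ⟨eb⟩⟩ := key Q
  haveI : FiniteDimensional k S := inferInstanceAs (FiniteDimensional k (S.restrictScalars k))
  rw [(ea.restrictScalars k).finrank_eq, (eb.restrictScalars k).finrank_eq, Module.finrank_pi_fintype,
    Module.finrank_pi_fintype, Finset.sum_const, Finset.sum_const, Finset.card_univ, Finset.card_univ,
    Fintype.card_fin, Fintype.card_fin, smul_eq_mul, smul_eq_mul] at h
  have hab : b ≤ a := Nat.le_of_mul_le_mul_right h (Module.finrank_pos (R := k) (M := S))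
  refine ⟨eb.symm.toLinearMap ∘ₗ LinearMap.funLeft A S (Fin.castLE hab) ∘ₗ ea.toLinearMap, ?_⟩
  exact eb.symm.surjective.comp ((LinearMap.funLeft_surjective_of_injective A S _ (Fin.castLE_injective hab)).comp
    ea.surjective)

end simple

variable {R : Type u} [CommRing R] {A : Type v} [Ring A] [Algebra R A] [IsAzumaya R A]

/-- A finite projective module over an Azumaya algebra is finite projective over the base ring. -/
lemma finite_projective_restrict (M : Type w) [AddCommGroup M] [Module A M] [Module R M] [IsScalarTower R A M]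
    [Module.Finite A M] [Module.Projective A M] : Module.Finite R M ∧ Module.Projective R M := by
  obtain ⟨r, π, ι, -, -, hπι⟩ := Module.Finite.exists_comp_eq_id_of_projective A M
  refine ⟨Module.Finite.trans A M, ?_⟩
  haveI : Module.Projective R (Fin r → A) := Module.Projective.of_equiv (DFinsupp.linearEquivFunOnFintype (R := R)
    (M := fun _ : Fin r => A))
  exact Module.Projective.of_split (ι.restrictScalars R) (π.restrictScalars R)
    (LinearMap.ext fun x => LinearMap.congr_fun hπι x)

/-- A module over an Azumaya algebra of smaller rank is a quotient. -/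
theorem exists_surjective_of_rank_le (hR : LGRing.IsLGRing R) (M N : Type w) [AddCommGroup M] [Module A M] [Module R M]
    [IsScalarTower R A M] [Module.Finite A M] [Module.Projective A M] [AddCommGroup N] [Module A N] [Module R N]
    [IsScalarTower R A N] [Module.Finite A N] [Module.Projective A N]
    (h : ∀ (m : Ideal R) [m.IsMaximal], Module.rankAtStalk N ⟨m, Ideal.IsMaximal.isPrime' m⟩ ≤
      Module.rankAtStalk M ⟨m, Ideal.IsMaximal.isPrime' m⟩) :
    ∃ f : M →ₗ[A] N, Function.Surjective f := by
  classical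
  obtain ⟨hMf, hMp⟩ := finite_projective_restrict (R := R) (A := A) M
  obtain ⟨hNf, hNp⟩ := finite_projective_restrict (R := R) (A := A) N
  obtain ⟨r, π, ι, -, -, hπι⟩ := Module.Finite.exists_comp_eq_id_of_projective A M
  haveI := finite_linearMap (R := R) N M
  obtain ⟨s, w, hw⟩ := exists_coeffs (R := R) (P := N)
  obtain ⟨t, g, hg⟩ := exists_coeffs (R := R) (P := N →ₗ[R] M)
  let e := Fintype.equivFin (Fin r × Fin s)
  let f : Fin (Fintype.card (Fin r × Fin s)) → M →ₗ[A] N := fun l =>
    ((LinearMap.proj (e.symm l).1 : (Fin r → A) →ₗ[A] A) ∘ₗ ι).smulRight (w (e.symm l).2)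
  obtain ⟨x, y, hb⟩ := exists_bijective_family hR (P := N) 0
    (fun l j => (f l).restrictScalars R ∘ₗ g j) fun m _ => by
      letI := Ideal.Quotient.field m
      haveI : IsAzumaya (R ⧸ m) ((R ⧸ m) ⊗[R] A) := AzumayaAlg.isAzumaya_baseChange (R := R) (R ⧸ m) A
      haveI := (AzumayaAlg.isCentral_isSimple_of_isAzumaya (k := R ⧸ m) ((R ⧸ m) ⊗[R] A)).2
      let act : ∀ (X : Type w) [AddCommGroup X] [Module A X] [Module R X] [IsScalarTower R A X],
          (R ⧸ m) ⊗[R] A →ₐ[R ⧸ m] Module.End (R ⧸ m) ((R ⧸ m) ⊗[R] X) := fun X _ _ _ _ =>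
        Algebra.TensorProduct.lift (Algebra.ofId (R ⧸ m) _)
          ((Module.End.baseChangeHom R (R ⧸ m) X).comp (Algebra.lsmul R R X))
          fun c a => Algebra.commutes c _
      have act_tmul : ∀ (X : Type w) [AddCommGroup X] [Module A X] [Module R X] [IsScalarTower R A X]
          (a : A) (c : R ⧸ m) (z : X), act X ((1 : R ⧸ m) ⊗ₜ[R] a) (c ⊗ₜ[R] z) = c ⊗ₜ[R] (a • z) :=
        fun X _ _ _ _ a c z => by simp [act]; rfl
      letI : Module ((R ⧸ m) ⊗[R] A) ((R ⧸ m) ⊗[R] M) := Module.compHom _ (act M).toRingHom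
      letI : Module ((R ⧸ m) ⊗[R] A) ((R ⧸ m) ⊗[R] N) := Module.compHom _ (act N).toRingHom
      haveI : IsScalarTower (R ⧸ m) ((R ⧸ m) ⊗[R] A) ((R ⧸ m) ⊗[R] M) :=
        ⟨fun c a z => LinearMap.congr_fun (map_smul (act M) c a) z⟩
      haveI : IsScalarTower (R ⧸ m) ((R ⧸ m) ⊗[R] A) ((R ⧸ m) ⊗[R] N) :=
        ⟨fun c a z => LinearMap.congr_fun (map_smul (act N) c a) z⟩
      obtain ⟨φ, hφ⟩ := exists_surjective_of_finrank_le (k := R ⧸ m) (A := (R ⧸ m) ⊗[R] A) ((R ⧸ m) ⊗[R] M)
        ((R ⧸ m) ⊗[R] N) (by rw [finrank_residue, finrank_residue]; exact h m)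
      obtain ⟨ψ, hψ⟩ := (φ.restrictScalars (R ⧸ m)).exists_rightInverse_of_surjective (LinearMap.range_eq_top.2 hφ)
      obtain ⟨G, hG⟩ := exists_lift_baseChange (k := R ⧸ m) Ideal.Quotient.mk_surjective ψ
      choose n hn using fun i : Fin r => TensorProduct.mk_surjective R N (R ⧸ m) Ideal.Quotient.mk_surjective
        (φ ((1 : R ⧸ m) ⊗ₜ[R] π (Pi.single i 1)))
      choose c hc using fun i => hw (n i)
      obtain ⟨y, hy⟩ := hg G
      refine ⟨fun l => c (e.symm l).1 (e.symm l).2, y, ?_⟩
      set F : M →ₗ[A] N := ∑ i, ((LinearMap.proj i : (Fin r → A) →ₗ[A] A) ∘ₗ ι).smulRight (n i)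
      have hF : ∀ z : M, (1 : R ⧸ m) ⊗ₜ[R] F z = φ ((1 : R ⧸ m) ⊗ₜ[R] z) := fun z => by
        conv_rhs => rw [show z = π (ι z) from (LinearMap.congr_fun hπι z).symm, pi_eq_sum_univ' (ι z)]
        simp only [F, LinearMap.sum_apply, LinearMap.smulRight_apply, LinearMap.comp_apply, LinearMap.proj_apply,
          TensorProduct.tmul_sum, map_sum, map_smul]
        refine Finset.sum_congr rfl fun i _ => ?_
        rw [← act_tmul N, ← act_tmul M, show (1 : R ⧸ m) ⊗ₜ[R] n i = φ ((1 : R ⧸ m) ⊗ₜ[R] π (Pi.single i 1)) from hn i]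
        exact (map_smul φ _ _).symm
      have he : ∑ l, ∑ j, (c (e.symm l).1 (e.symm l).2 * y j) • ((f l).restrictScalars R ∘ₗ g j) =
          F.restrictScalars R ∘ₗ G := by
        refine LinearMap.ext fun z => ?_
        simp only [← hy, F, f, LinearMap.sum_apply, LinearMap.smul_apply, LinearMap.comp_apply,
          LinearMap.restrictScalars_apply, LinearMap.smulRight_apply, LinearMap.proj_apply, map_sum,
          LinearMap.map_smul_of_tower, ← hc, Finset.smul_sum, smul_smul]
        rw [e.symm.sum_comp (fun p => ∑ j, (c p.1 p.2 * y j) • (ι ((g j) z) p.1 • w p.2)), Fintype.sum_prod_type,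
          Finset.sum_comm (s := (Finset.univ : Finset (Fin t)))]
        refine Finset.sum_congr rfl fun i _ => ?_
        rw [Finset.sum_comm]
        refine Finset.sum_congr rfl fun j _ => Finset.sum_congr rfl fun l _ => ?_
        rw [mul_comm, ← smul_smul, smul_comm (c i l) (ι ((g j) z) i)]
      rw [zero_add, he, LinearMap.baseChange_comp, hG]
      refine TensorProduct.AlgebraTensorModule.ext fun c z => ?_
      have key : ∀ u, LinearMap.baseChange (R ⧸ m) (F.restrictScalars R) u = φ u := fun u => by
        induction u using TensorProduct.induction_on with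
        | zero => simp
        | add a b ha hb => simp [ha, hb]
        | tmul c z =>
          rw [LinearMap.baseChange_tmul, LinearMap.restrictScalars_apply, ← mul_one c, ← smul_eq_mul,
            ← TensorProduct.smul_tmul', hF, ← TensorProduct.smul_tmul', LinearMap.map_smul_of_tower]
      rw [LinearMap.comp_apply, key]
      exact LinearMap.congr_fun hψ _
  refine ⟨∑ l, x l • f l, fun z => ?_⟩
  obtain ⟨z', hz'⟩ := hb.2 z
  refine ⟨∑ j, y j • g j z', ?_⟩
  rw [← hz']
  simp only [zero_add, LinearMap.sum_apply, LinearMap.smul_apply, LinearMap.comp_apply, map_sum,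
    LinearMap.restrictScalars_apply, LinearMap.map_smul_of_tower, Finset.smul_sum, smul_smul]
  rw [Finset.sum_comm]

end Groth.Agent.LGLib
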